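import Cfsg.Agent.Lib.Presented.Word
import Mathlib.Algebra.Group.Subgroup.Lattice
import Mathlib.Tactic.IntervalCases
import Mathlib.Algebra.Group.Subgroup.Finite
import Mathlib.Algebra.Group.Submonoid.Membership

/-!
Six generators `z, a, b, c, d, g` around an involution with centraliser `2 × S₅`: letters and relators.
-/
set_option autoImplicit false

namespace CfsgLib.MathieuTwelve

open CfsgLib.Presented

/-- The relators: `⟨z⟩ × S₅` by its Coxeter generators, and an element of order three normalising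
`⟨z, a⟩` and fixing `ca`, `da`, together with one relation inside the normaliser of `⟨z, a, c⟩`. -/
def baseWords : List (List ℕ) := [[0, 0], [1, 1], [2, 2], [3, 3], [4, 4], [1, 2, 1, 2, 1, 2],
  [2, 3, 2, 3, 2, 3], [3, 4, 3, 4, 3, 4], [1, 3, 1, 3], [1, 4, 1, 4], [2, 4, 2, 4], [0, 1, 0, 1],
  [0, 2, 0, 2], [0, 3, 0, 3], [0, 4, 0, 4], [5, 5, 5], [5, 0, 6, 1], [5, 1, 6, 1, 0],
  [5, 3, 1, 6, 1, 3], [5, 4, 1, 6, 1, 4], [5, 2, 1, 3, 2, 5, 2, 1, 3, 2, 5, 2, 1, 3, 2]]

/-- The values of the seven letters. -/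
def evSix {G : Type*} [Group G] (z a b c d g : G) (n : ℕ) : G := [z, a, b, c, d, g, g⁻¹].getD n 1

theorem evSix_mem {G : Type*} [Group G] (z a b c d g : G) {S : Subgroup G}
    (h : ∀ x ∈ ({z, a, b, c, d, g} : Set G), x ∈ S) (n : ℕ) : evSix z a b c d g n ∈ S := by
  rcases (show n < 7 ∨ 7 ≤ n by omega) with hn | hn
  · interval_cases n <;> simp [evSix] <;> exact h _ (by simp)
  · rw [evSix, List.getD_eq_getElem?_getD, List.getElem?_eq_none (by simpa using hn)]
    exact S.one_mem

theorem evSix_word_mem {G : Type*} [Group G] (z a b c d g : G) (w : List ℕ) :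
    evW (evSix z a b c d g) w ∈ Subgroup.closure ({z, a, b, c, d, g} : Set G) := by
  refine list_prod_mem fun x hx => ?_
  obtain ⟨n, -, rfl⟩ := List.mem_map.1 hx
  exact evSix_mem z a b c d g (fun x hx => Subgroup.subset_closure hx) n

theorem evSix_map {G H : Type*} [Group G] [Group H] (f : G →* H) (z a b c d g : G) (n : ℕ) :
    f (evSix z a b c d g n) = evSix (f z) (f a) (f b) (f c) (f d) (f g) n := by
  rcases (show n < 7 ∨ 7 ≤ n by omega) with hn | hn
  · interval_cases n <;> simp [evSix]
  · simp [evSix, List.getElem?_eq_none (show [z, a, b, c, d, g, g⁻¹].length ≤ n by simpa using hn),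
      List.getElem?_eq_none (show [f z, f a, f b, f c, f d, f g, (f g)⁻¹].length ≤ n by simpa using hn)]

theorem evW_map_six {G H : Type*} [Group G] [Group H] (f : G →* H) (z a b c d g : G) (w : List ℕ) :
    f (evW (evSix z a b c d g) w) = evW (evSix (f z) (f a) (f b) (f c) (f d) (f g)) w := by
  simp [evW, map_list_prod, Function.comp_def, evSix_map]

end CfsgLib.MathieuTwelve
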