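import Cfsg.Agent.Lib.Presented.Order
import Cfsg.Agent.Lib.MathieuTwelve.Setup
import Cfsg.Agent.Lib.MathieuTwelve.Cert.CoxCert
import Cfsg.Agent.Lib.MathieuTwelve.Cert.TableCert
import Cfsg.Agent.Lib.MathieuTwelve.Cert.Seeds

/-!
Six elements satisfying the relators generate at most `4752 · 240` elements.
-/
set_option autoImplicit false
set_option maxRecDepth 16000

namespace CfsgLib.MathieuTwelve

open CfsgLib.Presented

/-- Some rotation of a known relator. -/
def isRotation (known : List (List ℕ)) (w : List ℕ) : Bool :=
  known.any fun u => (List.range (u.length + 1)).any fun k => listEq (rotW u k) w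

theorem evW_isRotation {G : Type*} [Group G] {ev : ℕ → G} {known : List (List ℕ)}
    (hk : ∀ u ∈ known, evW ev u = 1) {w : List ℕ} (h : isRotation known w = true) : evW ev w = 1 := by
  simp only [isRotation, List.any_eq_true] at h
  obtain ⟨u, hu, k, -, hw⟩ := h
  rw [← listEq_eq hw]
  apply evW_rotate_eq_one
  rw [List.take_append_drop]
  exact hk u hu

theorem table_rels_ok : (TableCert.relWords.all (isRotation baseWords)) = true := by decide +kernel

theorem cox_rels_ok : (CoxCert.relWords.all (isRotation baseWords)) = true := by decide +kernel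

theorem facts_rels_eq : Facts.relWords = TableCert.relWords := by decide +kernel

theorem table_subs_eq : TableCert.subWords = Facts.subWords ++ Facts.seedWords := by decide +kernel

variable {D : Type*} [Group D]

/-- The subgroup generated by the first five letters has order at most 240, the whole group at most
`4752 · 240`. -/
theorem card_le (z a b c d g : D) (hgen : Subgroup.closure ({z, a, b, c, d, g} : Set D) = ⊤)
    (hrel : ∀ w ∈ baseWords, evW (evSix z a b c d g) w = 1) :
    Nat.card D ≠ 0 ∧ Nat.card D ≤ 4752 * 240 := by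
  set ev := evSix z a b c d g with hev
  have hA : TableCert.cert.R.A = TableCert.alphabet := rfl
  have heps : TableCert.alphabet.eps = 7 := rfl
  have hone : ev TableCert.alphabet.eps = 1 := by rw [heps]; rfl
  have hinv : ∀ x, x < TableCert.alphabet.eps → ev (TableCert.alphabet.invl x) * ev x = 1 := by
    intro x hx
    rw [heps] at hx
    have hsq : ∀ y, y < 5 → ev y * ev y = 1 := fun y hy => by
      have := hrel [y, y] (by interval_cases y <;> simp [baseWords])
      simpa using this
    interval_cases x
    · rw [show TableCert.alphabet.invl 0 = 0 by decide +kernel]; exact hsq 0 (by omega)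
    · rw [show TableCert.alphabet.invl 1 = 1 by decide +kernel]; exact hsq 1 (by omega)
    · rw [show TableCert.alphabet.invl 2 = 2 by decide +kernel]; exact hsq 2 (by omega)
    · rw [show TableCert.alphabet.invl 3 = 3 by decide +kernel]; exact hsq 3 (by omega)
    · rw [show TableCert.alphabet.invl 4 = 4 by decide +kernel]; exact hsq 4 (by omega)
    · rw [show TableCert.alphabet.invl 5 = 6 by decide +kernel]; simp [ev, evSix]
    · rw [show TableCert.alphabet.invl 6 = 5 by decide +kernel]; simp [ev, evSix]
  set H := genBy ev [0, 1, 2, 3, 4] with hH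
  have h1 : (genBy ev []).relIndex H ≠ 0 ∧ (genBy ev []).relIndex H ≤ CoxCert.cert.R.N := by
    refine relIndex_le_of_subCert (A := TableCert.alphabet) (emb := [0, 1, 2, 3, 4]) CoxCert.cert_ok hone hinv
      (by decide +kernel) (by decide +kernel) (fun y hy => ?_) (fun w hw => ?_)
      (fun w hw => absurd hw List.not_mem_nil)
    · simp at hy
      rcases hy with rfl | rfl | rfl | rfl | rfl
      exacts [⟨0, by decide +kernel, rfl⟩, ⟨1, by decide +kernel, rfl⟩, ⟨2, by decide +kernel, rfl⟩,
        ⟨3, by decide +kernel, rfl⟩, ⟨4, by decide +kernel, rfl⟩]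
    · have hw' : evW ev w = 1 := evW_isRotation hrel (List.all_eq_true.1 cox_rels_ok w hw)
      have hid : ∀ u ∈ CoxCert.relWords, (u.map fun x => [0, 1, 2, 3, 4].getD x 7) = u := by decide +kernel
      rw [show evW (subEv ev TableCert.alphabet.eps [0, 1, 2, 3, 4]) w =
        evW ev (w.map fun x => [0, 1, 2, 3, 4].getD x 7) from (evW_map ev _ w).symm, hid w hw]
      exact hw'
  have b1 : Nat.card H ≠ 0 ∧ Nat.card H ≤ 240 * 1 :=
    card_le_mul (genBy_mono ev (by simp)) (card_bot_le ev) h1
  have hI : Facts.enum.Interp ev ((1 : D) : D ⧸ H) := by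
    refine ⟨hone, hinv, fun w hw => ?_, fun w hw => ?_⟩
    · exact evW_isRotation hrel (List.all_eq_true.1 table_rels_ok w (facts_rels_eq ▸ hw))
    · rw [MulAction.Quotient.smul_coe, smul_eq_mul, mul_one, QuotientGroup.eq, mul_one, inv_mem_iff]
      change w ∈ Facts.subWords at hw
      simp [Facts.subWords] at hw
      rcases hw with rfl | rfl | rfl | rfl | rfl <;> simpa [evW] using mem_genBy ev (by simp)
  have hsub : ∀ w ∈ TableCert.cert.subs, evW ev w ∈ H := by
    intro w hw
    change w ∈ TableCert.subWords at hw
    rw [table_subs_eq, List.mem_append] at hw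
    rcases hw with hw | hw
    · exact mem_of_fix (hI.subs w hw)
    · exact mem_of_fix (Facts.seed_fix hI w hw)
  have h2 : H.relIndex (⊤ : Subgroup D) ≠ 0 ∧ H.relIndex (⊤ : Subgroup D) ≤ TableCert.cert.R.N := by
    refine relIndex_top_le TableCert.cert_ok hone hinv
      (fun w hw => evW_isRotation hrel (List.all_eq_true.1 table_rels_ok w hw)) hsub (eq_top_iff.2 ?_)
    rw [← hgen, Subgroup.closure_le]
    intro x hx
    simp only [Set.mem_insert_iff, Set.mem_singleton_iff] at hx
    refine Subgroup.subset_closure ?_
    rcases hx with rfl | rfl | rfl | rfl | rfl | rfl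
    exacts [⟨0, by decide, rfl⟩, ⟨1, by decide, rfl⟩, ⟨2, by decide, rfl⟩, ⟨3, by decide, rfl⟩,
      ⟨4, by decide, rfl⟩, ⟨5, by decide, rfl⟩]
  exact card_top_le b1 h2

end CfsgLib.MathieuTwelve
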