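import Cfsg.Agent.Lib.MathieuTwelve.Model
import Cfsg.Agent.Lib.MathieuTwelve.Bound
import Mathlib.GroupTheory.Subgroup.Simple
import Mathlib.GroupTheory.Index

/-!
A group of order 95040 with six elements satisfying the relators is the Mathieu group of degree twelve.
-/
set_option autoImplicit false

namespace CfsgLib.MathieuTwelve

open Cfsg CfsgLib.Presented

theorem nonempty_equiv_of_config {G : Type*} [Group G] [Finite G] (hcard : Nat.card G = 95040)
    (z a b c d g : G) (hrel : ∀ w ∈ baseWords, evW (evSix z a b c d g) w = 1)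
    (hbig : 12 < Nat.card (Subgroup.closure ({z, a, b, c, d, g} : Set G))) :
    Nonempty (G ≃* Cfsg.Spor.M12) := by
  classical
  have hM : ∀ x ∈ [pz, pa, pb, pc, pd, pg], x ∈ Cfsg.Spor.M12 := model_mem
  set mz : Cfsg.Spor.M12 := ⟨pz, hM _ (by simp)⟩
  set ma : Cfsg.Spor.M12 := ⟨pa, hM _ (by simp)⟩
  set mb : Cfsg.Spor.M12 := ⟨pb, hM _ (by simp)⟩
  set mc : Cfsg.Spor.M12 := ⟨pc, hM _ (by simp)⟩
  set md : Cfsg.Spor.M12 := ⟨pd, hM _ (by simp)⟩
  set mg : Cfsg.Spor.M12 := ⟨pg, hM _ (by simp)⟩
  let P := G × Cfsg.Spor.M12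
  let T : Set P := {(z, mz), (a, ma), (b, mb), (c, mc), (d, md), (g, mg)}
  let D : Subgroup P := Subgroup.closure T
  have hmem : ∀ x ∈ T, x ∈ D := fun x hx => Subgroup.subset_closure hx
  let dz : D := ⟨(z, mz), hmem _ (by simp [T])⟩
  let da : D := ⟨(a, ma), hmem _ (by simp [T])⟩
  let db : D := ⟨(b, mb), hmem _ (by simp [T])⟩
  let dc : D := ⟨(c, mc), hmem _ (by simp [T])⟩
  let dd : D := ⟨(d, md), hmem _ (by simp [T])⟩
  let dg : D := ⟨(g, mg), hmem _ (by simp [T])⟩
  have hDgen : Subgroup.closure ({dz, da, db, dc, dd, dg} : Set D) = ⊤ := by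
    apply Subgroup.map_injective D.subtype_injective
    rw [MonoidHom.map_closure, ← MonoidHom.range_eq_map, Subgroup.range_subtype]
    simp [Set.image_insert_eq, D, T, dz, da, db, dc, dd, dg]
  have hDrel : ∀ w ∈ baseWords, evW (evSix dz da db dc dd dg) w = 1 := by
    intro w hw
    apply D.subtype_injective
    rw [evW_map_six, map_one]
    refine Prod.ext ?_ ?_
    · refine (evW_map_six (MonoidHom.fst G Cfsg.Spor.M12) _ _ _ _ _ _ w).trans ?_
      exact hrel w hw
    · refine (evW_map_six (MonoidHom.snd G Cfsg.Spor.M12) _ _ _ _ _ _ w).trans ?_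
      apply Cfsg.Spor.M12.subtype_injective
      rw [evW_map_six]
      exact model_rels w hw
  obtain ⟨hDne, hDle⟩ := card_le dz da db dc dd dg hDgen hDrel
  have : Finite D := Nat.finite_of_card_ne_zero hDne
  let f : D →* G := (MonoidHom.fst G Cfsg.Spor.M12).comp D.subtype
  let s : D →* Cfsg.Spor.M12 := (MonoidHom.snd G Cfsg.Spor.M12).comp D.subtype
  have hs : Function.Surjective s := by
    rw [← MonoidHom.range_eq_top, MonoidHom.range_eq_map, ← hDgen, MonoidHom.map_closure]
    apply Subgroup.map_injective Cfsg.Spor.M12.subtype_injective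
    rw [MonoidHom.map_closure, ← MonoidHom.range_eq_map, Subgroup.range_subtype]
    simp [Set.image_insert_eq, s, dz, da, db, dc, dd, dg, mz, ma, mb, mc, md, mg, model_closure]
  have hinj : ∀ x : D, f x = 1 → s x = 1 → x = 1 := fun x h1 h2 => Subtype.ext (Prod.ext h1 h2)
  have hMcard : Nat.card Cfsg.Spor.M12 = 95040 := CfsgLib.Golay.natCard_sporM12
  have hker : Nat.card s.ker ≤ 12 := by
    have h := Subgroup.card_eq_card_quotient_mul_card_subgroup s.ker
    rw [Nat.card_congr (QuotientGroup.quotientKerEquivOfSurjective s hs).toEquiv, hMcard] at h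
    omega
  have hrange : Subgroup.closure ({z, a, b, c, d, g} : Set G) = f.range := by
    rw [MonoidHom.range_eq_map, ← hDgen, MonoidHom.map_closure]
    simp [Set.image_insert_eq, f, dz, da, db, dc, dd, dg]
  have : IsSimpleGroup Cfsg.Spor.M12 := CfsgLib.Golay.isSimpleGroup_sporM12
  have hn : (f.ker.map s).Normal := (MonoidHom.normal_ker f).map s hs
  rcases hn.eq_bot_or_eq_top with hbot | htop
  · -- `f` is injective
    have hf : Function.Injective f := by
      rw [← MonoidHom.ker_eq_bot_iff, eq_bot_iff]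
      intro x hx
      have h2 : s x ∈ f.ker.map s := Subgroup.mem_map_of_mem s hx
      rw [hbot, Subgroup.mem_bot] at h2
      exact hinj x hx h2
    have h1 : Nat.card D ≤ 95040 := hcard ▸ Nat.card_le_card_of_injective f hf
    have h2 : 95040 ≤ Nat.card D := hMcard ▸ Nat.card_le_card_of_surjective s hs
    have hbf : Function.Bijective f := hf.bijective_of_nat_card_le (by omega)
    have hbs : Function.Bijective s := hs.bijective_of_nat_card_le (by omega)
    exact ⟨(MulEquiv.ofBijective f hbf).symm.trans (MulEquiv.ofBijective s hbs)⟩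
  · -- the image of `f` has at most twelve elements
    exfalso
    have hle : f.range ≤ s.ker.map f := by
      rintro _ ⟨x, rfl⟩
      obtain ⟨y, hy, hxy⟩ : s x ∈ f.ker.map s := htop ▸ Subgroup.mem_top _
      refine ⟨x * y⁻¹, ?_, ?_⟩
      · show s (x * y⁻¹) = 1
        rw [map_mul, map_inv, hxy, mul_inv_cancel]
      · rw [map_mul, map_inv, show f y = 1 from hy, inv_one, mul_one]
    have h1 : Nat.card f.range ≤ Nat.card (s.ker.map f) := Subgroup.card_le_of_le hle
    have h2 : Nat.card (s.ker.map f) ≤ Nat.card s.ker :=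
      Nat.card_le_card_of_surjective _ (f.subgroupMap_surjective s.ker)
    rw [hrange] at hbig
    omega

end CfsgLib.MathieuTwelve
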