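import Cfsg.Agent.Lib.MathieuTwelve.StructureHom
import Cfsg.Agent.Lib.MathieuTwelve.Unique
import Mathlib.GroupTheory.Perm.Fin

/-!
A simple group of order 95040 with an involution centraliser `2 × S₅` of the given shape is the Mathieu
group of degree twelve.
-/
set_option autoImplicit false
set_option maxRecDepth 4000
set_option maxHeartbeats 1000000

namespace CfsgLib.MathieuTwelve

open Subgroup Equiv CfsgLib.Presented

namespace Five

abbrev s01 : Equiv.Perm (Fin 5) := swap 0 1
abbrev s12 : Equiv.Perm (Fin 5) := swap 1 2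
abbrev s23 : Equiv.Perm (Fin 5) := swap 2 3
abbrev s34 : Equiv.Perm (Fin 5) := swap 3 4
abbrev dbl : Equiv.Perm (Fin 5) := swap 0 1 * swap 2 3

theorem involution_cases : ∀ s : Equiv.Perm (Fin 5), s * s = 1 → s ≠ 1 →
    (∃ i j, i ≠ j ∧ s = swap i j) ∨ ∃ g : Equiv.Perm (Fin 5), g * dbl * g⁻¹ = s := by decide +kernel

theorem dbl_class_card :
    ((Finset.univ : Finset (Equiv.Perm (Fin 5))).image fun g => g * dbl * g⁻¹).card = 15 := by decide +kernel

theorem cube_cases : ∀ s : Equiv.Perm (Fin 5), s ^ 3 = 1 → s ≠ 1 → s * s01 = s01 * s →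
    s = s23 * s34 ∨ s = (s23 * s34)⁻¹ := by decide +kernel

theorem invert_cases : ∀ s : Equiv.Perm (Fin 5), s * s01 = s01 * s → s * s = 1 →
    s * (s23 * s34) * s⁻¹ = (s23 * s34)⁻¹ →
    ∃ i : Fin 2, ∃ j : Fin 3, s = s01 ^ i.val * (s23 * s34) ^ j.val * s23 := by decide +kernel

theorem three_cases : ∀ s : Equiv.Perm (Fin 5), s ^ 27 = 1 → s * s01 = s01 * s → s * s23 = s23 * s →
    s = 1 := by decide +kernel

theorem conj_ne_dbl : ∀ g : Equiv.Perm (Fin 5), g * s01 * g⁻¹ ≠ s01 * s23 := by decide +kernel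

theorem four_cases : ∀ s : Equiv.Perm (Fin 5), s * s01 = s01 * s → s * s23 = s23 * s →
    s = 1 ∨ s = s01 ∨ s = s23 ∨ s = s01 * s23 := by decide +kernel

end Five

open Five

/-- Step 3 of the proof: the class of a transposition lift in the centraliser. -/
theorem exists_lift {G : Type*} [Group G] [Finite G] (hcard : Nat.card G = 95040) {z : G}
    (hz : orderOf z = 2) (hCz : Nat.card (centralizer ({z} : Set G)) = 240)
    (hT : Nat.card {x : G // IsConj z x ∧ IsConj z (x * z)} = 20)
    (p : centralizer ({z} : Set G) →* Equiv.Perm (Fin 5)) (hp : Function.Surjective p)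
    (hker : ∀ h, p h = 1 ↔ (h : G) = 1 ∨ (h : G) = z) :
    ∃ τ : centralizer ({z} : Set G), p τ = s01 ∧ IsConj z (τ : G) ∧ IsConj z ((τ : G) * z) ∧
      (∀ h : centralizer ({z} : Set G), ((h * τ * h⁻¹ : centralizer ({z} : Set G)) : G) ≠ (τ : G) * z) ∧
      (∀ x : G, IsConj z x → IsConj z (x * z) → ∃ h : centralizer ({z} : Set G),
        x = ((h * τ * h⁻¹ : centralizer ({z} : Set G)) : G) ∨
          x = ((h * τ * h⁻¹ : centralizer ({z} : Set G)) : G) * z) := by
  classical
  have hz2 : z * z = 1 := by rw [← pow_two, ← hz, pow_orderOf_eq_one]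
  have hzne : z ≠ 1 := fun h => by rw [h, orderOf_one] at hz; omega
  have hsq : ∀ x, IsConj z x → x * x = 1 := by
    intro x hx
    obtain ⟨c, rfl⟩ := isConj_iff.1 hx
    calc c * z * c⁻¹ * (c * z * c⁻¹) = c * (z * z) * c⁻¹ := by group
      _ = 1 := by rw [hz2]; group
  have hne1 : ∀ x, IsConj z x → x ≠ 1 := by
    intro x hx h
    obtain ⟨c, rfl⟩ := isConj_iff.1 hx
    rw [mul_inv_eq_one, mul_eq_left] at h
    exact hzne h
  let C := centralizer ({z} : Set G)
  have hC : C = centralizer ({z} : Set G) := rfl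
  have hTC : ∀ x, IsConj z x → IsConj z (x * z) → x ∈ C := by
    intro x h1 h2
    rw [hC, mem_centralizer_singleton_iff]
    have e1 := eq_inv_of_mul_eq_one_left (hsq _ h2)
    rw [mul_inv_rev, eq_inv_of_mul_eq_one_left hz2 |>.symm, eq_inv_of_mul_eq_one_left (hsq _ h1) |>.symm] at e1
    exact e1
  have hcomm : ∀ h : C, (h : G) * z = z * h := fun h => mem_centralizer_singleton_iff.1 h.2
  have hTconj : ∀ x : C, ∀ h : C, IsConj z (x : G) → IsConj z ((x : G) * z) →
      IsConj z ((h * x * h⁻¹ : C) : G) ∧ IsConj z (((h * x * h⁻¹ : C) : G) * z) := by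
    intro x h h1 h2
    constructor
    · exact h1.trans (isConj_iff.2 ⟨h, by simp⟩)
    · refine h2.trans (isConj_iff.2 ⟨h, ?_⟩)
      have := hcomm h⁻¹
      simp only [InvMemClass.coe_inv] at this
      simp only [Subgroup.coe_mul, InvMemClass.coe_inv, mul_assoc, this]
  have hpeq : ∀ x y : C, p x = p y → (y : G) = x ∨ (y : G) = x * z := by
    intro x y h
    have h1 : p (x⁻¹ * y) = 1 := by rw [map_mul, map_inv, h, inv_mul_cancel]
    rcases (hker _).1 h1 with h2 | h2
    · left
      simpa [inv_mul_eq_one, eq_comm] using h2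
    · right
      simpa [inv_mul_eq_iff_eq_mul] using h2
  have hswap : ∀ x : C, IsConj z (x : G) → IsConj z ((x : G) * z) → ∃ i j, i ≠ j ∧ p x = swap i j := by
    intro x h1 h2
    have hx2 : p x * p x = 1 := by
      rw [← map_mul, show x * x = 1 from Subtype.ext (hsq _ h1), map_one]
    have hxne : p x ≠ 1 := by
      intro h
      rcases (hker x).1 h with h' | h'
      · exact hne1 _ h1 h'
      · exact hne1 _ h2 (by rw [h', hz2])
    rcases involution_cases (p x) hx2 hxne with h | ⟨g, hg⟩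
    · exact h
    exfalso
    let D := (Finset.univ : Finset (Equiv.Perm (Fin 5))).image fun k => k * dbl * k⁻¹
    have hlift : ∀ d : D, ∃ y : C, p y = d.1 ∧ IsConj z (y : G) ∧ IsConj z ((y : G) * z) := by
      intro d
      obtain ⟨k, -, hk⟩ := Finset.mem_image.1 d.2
      obtain ⟨h, hh⟩ := hp (k * g⁻¹)
      refine ⟨h * x * h⁻¹, ?_, hTconj x h h1 h2⟩
      rw [map_mul, map_mul, map_inv, hh, ← hg, ← hk]
      group
    choose f hf1 hf2 hf3 using hlift
    let F : D × Bool → {x : G // IsConj z x ∧ IsConj z (x * z)} := fun db =>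
      if db.2 then ⟨f db.1, hf2 db.1, hf3 db.1⟩ else
        ⟨(f db.1 : G) * z, hf3 db.1, by rw [mul_assoc, hz2, mul_one]; exact hf2 db.1⟩
    have hzp : p ⟨z, mem_centralizer_singleton_iff.2 rfl⟩ = 1 := (hker _).2 (Or.inr rfl)
    have hFp : ∀ db, ∀ y : C, (y : G) = (F db).1 → p y = db.1.1 := by
      rintro ⟨d, _ | _⟩ y hy
      · have : y = f d * ⟨z, mem_centralizer_singleton_iff.2 rfl⟩ := Subtype.ext hy
        rw [this, map_mul, hzp, mul_one, hf1]
      · have : y = f d := Subtype.ext hy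
        rw [this, hf1]
    have hFinj : Function.Injective F := by
      rintro ⟨d, u⟩ ⟨d', u'⟩ h
      have hd : d = d' := Subtype.ext ((hFp (d, u) ⟨_, hTC _ (F (d, u)).2.1 (F (d, u)).2.2⟩ rfl).symm.trans
        (hFp (d', u') ⟨_, hTC _ (F (d, u)).2.1 (F (d, u)).2.2⟩ (congrArg Subtype.val h)))
      subst hd
      cases u <;> cases u' <;> simp [F, Subtype.ext_iff, hzne] at h ⊢
    have h30 := Nat.card_le_card_of_injective F hFinj
    rw [hT, Nat.card_prod, Nat.card_eq_fintype_card (α := D), Fintype.card_coe, dbl_class_card,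
      Nat.card_eq_fintype_card (α := Bool), Fintype.card_bool] at h30
    omega
  obtain ⟨x0, hx0, hx0'⟩ : ∃ x : G, IsConj z x ∧ IsConj z (x * z) := by
    obtain ⟨⟨x, hx⟩⟩ := (Nat.card_pos_iff.1 (show 0 < Nat.card {x : G // IsConj z x ∧ IsConj z (x * z)} by omega)).1
    exact ⟨x, hx⟩
  let xc : C := ⟨x0, hTC _ hx0 hx0'⟩
  obtain ⟨i, j, hij, hpx⟩ := hswap xc hx0 hx0'
  obtain ⟨k, hk⟩ := isConj_iff.1 (Equiv.Perm.isConj_swap hij (show (0 : Fin 5) ≠ 1 by decide))
  obtain ⟨h0, hh0⟩ := hp k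
  obtain ⟨hτ1, hτ2⟩ := hTconj xc h0 hx0 hx0'
  set τ : C := h0 * xc * h0⁻¹ with hτ
  have hpτ : p τ = s01 := by rw [hτ, map_mul, map_mul, map_inv, hh0, hpx, hk]
  have hcover : ∀ x : G, IsConj z x → IsConj z (x * z) → ∃ h : C,
      x = ((h * τ * h⁻¹ : C) : G) ∨ x = ((h * τ * h⁻¹ : C) : G) * z := by
    intro x h1 h2
    obtain ⟨i, j, hij, hpx⟩ := hswap ⟨x, hTC x h1 h2⟩ h1 h2
    obtain ⟨k, hk⟩ := isConj_iff.1 (Equiv.Perm.isConj_swap (show (0 : Fin 5) ≠ 1 by decide) hij)
    obtain ⟨h, hh⟩ := hp k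
    refine ⟨h, hpeq (h * τ * h⁻¹) ⟨x, hTC x h1 h2⟩ ?_⟩
    rw [map_mul, map_mul, map_inv, hh, hpτ, hpx, hk]
  refine ⟨τ, hpτ, hτ1, hτ2, fun u hu => ?_, hcover⟩
  let Z := centralizer ({τ} : Set C)
  have hZ : Nat.card Z = 12 := by
    have hmk : ∀ h : C, IsConj z ((h * τ * h⁻¹ : C) : G) ∧ IsConj z (((h * τ * h⁻¹ : C) : G) * z) :=
      fun h => hTconj τ h hτ1 hτ2
    let f : C ⧸ Z → {x : G // IsConj z x ∧ IsConj z (x * z)} := fun Q =>
      Quotient.liftOn' Q (fun h => ⟨_, hmk h⟩) (fun h h' e => by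
        rw [QuotientGroup.leftRel_apply, mem_centralizer_singleton_iff] at e
        suffices hh : h * τ * h⁻¹ = h' * τ * h'⁻¹ from Subtype.ext (congrArg (fun v : C => (v : G)) hh)
        calc h * τ * h⁻¹ = h * (τ * (h⁻¹ * h')) * (h'⁻¹) := by group
          _ = h * ((h⁻¹ * h') * τ) * h'⁻¹ := by rw [e]
          _ = h' * τ * h'⁻¹ := by group)
    have hf : Function.Bijective f := by
      constructor
      · intro Q Q'
        induction Q using Quotient.inductionOn' with | h h => ?_
        induction Q' using Quotient.inductionOn' with | h h' => ?_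
        intro e
        have e' : h * τ * h⁻¹ = h' * τ * h'⁻¹ := Subtype.ext (congrArg (fun v => v.1) e)
        refine Quotient.sound' ?_
        rw [QuotientGroup.leftRel_apply, mem_centralizer_singleton_iff]
        calc h⁻¹ * h' * τ = h⁻¹ * (h' * τ * h'⁻¹) * h' := by group
          _ = h⁻¹ * (h * τ * h⁻¹) * h' := by rw [e']
          _ = τ * (h⁻¹ * h') := by group
      · rintro ⟨x, h1, h2⟩
        obtain ⟨h, e | e⟩ := hcover x h1 h2
        · exact ⟨Quotient.mk'' h, Subtype.ext e.symm⟩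
        · refine ⟨Quotient.mk'' (h * u), Subtype.ext ?_⟩
          show ((h * u * τ * (h * u)⁻¹ : C) : G) = x
          rw [e, show h * u * τ * (h * u)⁻¹ = h * (u * τ * u⁻¹) * h⁻¹ by group]
          simp only [Subgroup.coe_mul, InvMemClass.coe_inv] at hu ⊢
          rw [hu]
          have := hcomm h⁻¹
          simp only [InvMemClass.coe_inv] at this
          simp only [mul_assoc, this]
    have h := Z.card_mul_index
    have h20 : Z.index = 20 := (Nat.card_eq_of_bijective f hf).trans hT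
    rw [hCz, h20] at h
    omega
  have hzτ : Commute z (τ : G) := (hcomm τ).symm
  have hτne : (τ : G) ≠ z := fun h => hne1 _ hτ2 (by rw [h, hz2])
  have hzP : IsPGroup 2 (zpowers z) := IsPGroup.of_card (n := 1) (by rw [Nat.card_zpowers, hz]; rfl)
  have hτo : orderOf (τ : G) = 2 := orderOf_eq_prime (by rw [pow_two]; exact hsq _ hτ1) (hne1 _ hτ1)
  have hτP : IsPGroup 2 (zpowers (τ : G)) := IsPGroup.of_card (n := 1) (by rw [Nat.card_zpowers, hτo]; rfl)
  have hnorm : zpowers (τ : G) ≤ normalizer (zpowers z : Set G) := by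
    rw [zpowers_le, Subgroup.mem_normalizer_iff]
    intro y
    constructor
    · intro hy
      obtain ⟨n, rfl⟩ := mem_zpowers_iff.1 hy
      rw [(hzτ.symm.zpow_right n).eq, mul_inv_cancel_right]
      exact zpow_mem_zpowers z n
    · intro hy
      obtain ⟨n, hn⟩ := mem_zpowers_iff.1 hy
      have h2 : y = (τ : G)⁻¹ * z ^ n * τ := by rw [hn]; group
      rw [h2, mul_assoc, (hzτ.zpow_left n).eq, ← mul_assoc, inv_mul_cancel, one_mul]
      exact zpow_mem_zpowers z n
  obtain ⟨P, hP⟩ := (hτP.to_sup_of_normal_right' hzP hnorm).exists_le_sylow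
  have hzPm : z ∈ (P : Subgroup G) := hP (mem_sup_right (mem_zpowers z))
  have hτPm : (τ : G) ∈ (P : Subgroup G) := hP (mem_sup_left (mem_zpowers _))
  have : Fact (Nat.Prime 2) := ⟨Nat.prime_two⟩
  have : Nontrivial P :=
    ⟨⟨⟨z, hzPm⟩, 1, fun h => hzne (congrArg Subtype.val h)⟩⟩
  obtain ⟨⟨⟨w, hwP⟩, hwc⟩, hwo⟩ : ∃ w : Subgroup.center P, orderOf w = 2 := by
    refine exists_prime_orderOf_dvd_card' 2 ?_
    have := P.isPGroup'.center_nontrivial
    obtain ⟨n, hn⟩ := (IsPGroup.iff_card.1 (P.isPGroup'.to_subgroup (Subgroup.center P)))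
    have h1 : 1 < Nat.card (Subgroup.center P) := Finite.one_lt_card
    rw [hn] at h1 ⊢
    rcases n with _ | n
    · simp at h1
    · exact dvd_pow_self 2 n.succ_ne_zero
  have hwo' : orderOf w = 2 := by rwa [← Subgroup.orderOf_coe, ← Subgroup.orderOf_coe] at hwo
  have hwcom : ∀ y ∈ (P : Subgroup G), Commute w y := fun y hy =>
    (congrArg Subtype.val (Subgroup.mem_center_iff.1 hwc ⟨y, hy⟩)).symm
  let R : Subgroup G := (P : Subgroup G) ⊓ centralizer ({z, (τ : G)} : Set G)
  have hR4 : Nat.card R ≤ 4 := by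
    have hRC : R ≤ C := inf_le_right.trans (centralizer_le (by simp))
    have hd : Nat.card R ∣ 12 := by
      rw [← hZ]
      have hle : R.subgroupOf C ≤ Z := by
        intro y hy
        rw [mem_centralizer_singleton_iff]
        exact Subtype.ext (Subgroup.mem_centralizer_iff.1 hy.2 (τ : G) (by simp)).symm
      rw [← Nat.card_congr (subgroupOfEquivOfLe hRC).toEquiv]
      exact Subgroup.card_dvd_of_le hle
    obtain ⟨n, hn⟩ := IsPGroup.iff_card.1 (P.isPGroup'.to_le (inf_le_left : R ≤ P))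
    rw [hn] at hd ⊢
    rcases n with _ | _ | _ | n <;> norm_num
    exfalso
    have h8 : 8 ∣ 12 := (Dvd.intro (2 ^ n) (by ring)).trans hd
    omega
  have hRmem : ∀ y ∈ (P : Subgroup G), Commute y z → Commute y (τ : G) → y ∈ R := by
    intro y hy h1 h2
    refine ⟨hy, Subgroup.mem_centralizer_iff.2 ?_⟩
    simp only [Set.mem_insert_iff, Set.mem_singleton_iff]
    rintro _ (rfl | rfl)
    · exact h1.eq.symm
    · exact h2.eq.symm
  have hwz : IsConj z w := by
    by_contra hcon
    have hwne : w ≠ 1 := fun h => by rw [h, orderOf_one] at hwo'; omega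
    let S : Finset G := {1, z, (τ : G), (τ : G) * z, w}
    have h1 : w ≠ z := fun h => hcon (h ▸ IsConj.refl z)
    have h2 : w ≠ τ := fun h => hcon (h ▸ hτ1)
    have h3 : w ≠ (τ : G) * z := fun h => hcon (h ▸ hτ2)
    have hS : S.card = 5 := by
      have e1 := hne1 _ hτ1
      have e2 := hne1 _ hτ2
      simp [S, Ne.symm hzne, Ne.symm e1, Ne.symm e2, Ne.symm hwne, hτne.symm, h1.symm, h2.symm, h3.symm,
        hzne, hne1 _ hτ1]
    have hsub : (S : Set G) ⊆ (R : Set G) := by
      intro y hy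
      simp only [S, Finset.coe_insert, Finset.coe_singleton, Set.mem_insert_iff, Set.mem_singleton_iff] at hy
      rcases hy with rfl | rfl | rfl | rfl | rfl
      · exact R.one_mem
      · exact hRmem _ hzPm (Commute.refl _) hzτ
      · exact hRmem _ hτPm hzτ.symm (Commute.refl _)
      · exact hRmem _ (mul_mem hτPm hzPm) (hzτ.symm.mul_left (Commute.refl _)) ((Commute.refl _).mul_left hzτ)
      · exact hRmem _ hwP (hwcom _ hzPm) (hwcom _ hτPm)
    have := Set.ncard_le_ncard hsub
    rw [Set.ncard_coe_finset, hS, ← Nat.card_coe_set_eq] at this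
    change 5 ≤ Nat.card R at this
    omega
  obtain ⟨g, hg⟩ := isConj_iff.1 hwz
  have hCw : C.map (MulAut.conj g).toMonoidHom = centralizer ({w} : Set G) := by
    ext y
    rw [Subgroup.mem_map]
    constructor
    · rintro ⟨x, hx, rfl⟩
      rw [mem_centralizer_singleton_iff, ← hg]
      show g * x * g⁻¹ * (g * z * g⁻¹) = g * z * g⁻¹ * (g * x * g⁻¹)
      calc _ = g * (x * z) * g⁻¹ := by group
        _ = g * (z * x) * g⁻¹ := by rw [mem_centralizer_singleton_iff.1 hx]
        _ = _ := by group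
    · intro hy
      refine ⟨g⁻¹ * y * g, ?_, by simp [mul_assoc]⟩
      rw [hC, mem_centralizer_singleton_iff]
      have h := mem_centralizer_singleton_iff.1 hy
      rw [← hg] at h
      calc _ = g⁻¹ * (y * (g * z * g⁻¹)) * g := by group
        _ = g⁻¹ * ((g * z * g⁻¹) * y) * g := by rw [h]
        _ = _ := by group
  have hPle : (P : Subgroup G) ≤ C.map (MulAut.conj g).toMonoidHom := by
    rw [hCw]
    exact fun y hy => mem_centralizer_singleton_iff.2 (hwcom y hy).symm.eq
  have h64 : 2 ^ 6 ∣ Nat.card (P : Subgroup G) := P.pow_dvd_card_of_pow_dvd_card (by rw [hcard]; norm_num)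
  have := h64.trans (Subgroup.card_dvd_of_le hPle)
  rw [card_map_of_injective (MulEquiv.injective _), hCz] at this
  norm_num at this

/-- Step 4: an element permuting the three involutions of `⟨z, a⟩` cyclically. -/
theorem exists_cycle {G : Type*} [Group G] {z a : G} (hz2 : z * z = 1) (ha2 : a * a = 1)
    (haz : a * z = z * a) (hca : IsConj z a) (hcaz : IsConj z (a * z))
    (hcover : ∀ x : G, IsConj z x → IsConj z (x * z) →
      ∃ u : G, u * z = z * u ∧ (x = u * a * u⁻¹ ∨ x = u * (a * z) * u⁻¹)) :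
    ∃ g : G, g * z * g⁻¹ = a ∧ g * a * g⁻¹ = z * a := by
  have haz' : ∀ x, a * (z * x) = z * (a * x) := fun x => by rw [← mul_assoc, haz, mul_assoc]
  have hz2' : ∀ x, z * (z * x) = x := fun x => by rw [← mul_assoc, hz2, one_mul]
  have ha2' : ∀ x, a * (a * x) = x := fun x => by rw [← mul_assoc, ha2, one_mul]
  have hhalf : ∀ v v' : G, IsConj z v → IsConj z v' → v' = z * v →
      ∃ f : MulAut G, (∃ g : G, f = MulAut.conj g) ∧ f z = v ∧ (f a = z ∨ f (a * z) = z) := by
    intro v v' hv hv' e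
    obtain ⟨h, hh⟩ := isConj_iff.1 hv
    have hx2 : IsConj z (h⁻¹ * z * h * z) :=
      hv'.trans (isConj_iff.2 ⟨h⁻¹, by rw [e, ← hh]; group⟩)
    obtain ⟨u, hu, e'⟩ := hcover (h⁻¹ * z * h) (isConj_iff.2 ⟨h⁻¹, by group⟩) hx2
    refine ⟨MulAut.conj (h * u), ⟨_, rfl⟩, ?_, e'.imp ?_ ?_⟩
    · rw [MulAut.conj_apply, ← hh]
      calc h * u * z * (h * u)⁻¹ = h * (u * z) * u⁻¹ * h⁻¹ := by group
        _ = h * (z * u) * u⁻¹ * h⁻¹ := by rw [hu]
        _ = h * z * h⁻¹ := by group
    · intro e'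
      rw [MulAut.conj_apply]
      calc h * u * a * (h * u)⁻¹ = h * (u * a * u⁻¹) * h⁻¹ := by group
        _ = z := by rw [← e']; group
    · intro e'
      rw [MulAut.conj_apply]
      calc h * u * (a * z) * (h * u)⁻¹ = h * (u * (a * z) * u⁻¹) * h⁻¹ := by group
        _ = z := by rw [← e']; group
  suffices h : ∃ g : G, MulAut.conj g z = a ∧ MulAut.conj g a = z * a by simpa using h
  obtain ⟨f, ⟨g, rfl⟩, f1, f2⟩ := hhalf a (z * a) hca (haz ▸ hcaz) rfl
  obtain ⟨f', ⟨g', rfl⟩, f1', f2'⟩ := hhalf (a * z) a hcaz hca (by rw [haz, hz2'])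
  rw [haz] at f1'
  rcases f2 with f2 | f2
  · rcases f2' with f2' | f2'
    · -- `z → za → a → z`
      refine ⟨g' * g', ?_, ?_⟩
      · simp [map_mul, f1', f2', hz2', haz, mul_assoc]
      · simp [map_mul, f1', f2']
    · -- `g` swaps `z, a`; `g'` swaps `z, za`
      have h' : MulAut.conj g' a = a := by
        rw [map_mul, f1'] at f2'
        calc MulAut.conj g' a = MulAut.conj g' a * (z * a) * (z * a)⁻¹ := by group
          _ = a := by
            rw [f2', mul_inv_rev, inv_eq_of_mul_eq_one_right hz2, inv_eq_of_mul_eq_one_right ha2, haz, hz2']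
      refine ⟨(g * g') * (g * g'), ?_, ?_⟩
      · simp [map_mul, f1', f1, f2, h', haz, hz2, hz2', mul_assoc]
      · simp [map_mul, f1', f1, f2, h', haz, hz2, hz2', mul_assoc]
  · refine ⟨g, f1, ?_⟩
    rw [map_mul, f1] at f2
    calc MulAut.conj g a = MulAut.conj g a * a * a := by rw [mul_assoc, ha2, mul_one]
      _ = z * a := by rw [f2]

theorem nonempty_equiv_of_centralizer {G : Type*} [Group G] [Finite G] [IsSimpleGroup G]
    (hcard : Nat.card G = 95040) {z q : G} (hz : orderOf z = 2) (hq : orderOf q = 5) (hzq : Commute z q)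
    (hCz : Nat.card (centralizer ({z} : Set G)) = 240) (hCq : Nat.card (centralizer ({q} : Set G)) = 10)
    (hNq : Nat.card (normalizer (zpowers q : Set G)) = 40)
    (hT : Nat.card {x : G // IsConj z x ∧ IsConj z (x * z)} = 20) :
    Nonempty (G ≃* Cfsg.Spor.M12) := by
  classical
  obtain ⟨p, hp, hker⟩ := exists_hom_five hz hq hzq hCz hCq hNq
  obtain ⟨τ, hpτ, hτ1, hτ2, hτz, hcover⟩ := exists_lift hcard hz hCz hT p hp hker
  have hz2 : z * z = 1 := by rw [← pow_two, ← hz, pow_orderOf_eq_one]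
  have hzne : z ≠ 1 := fun h => by rw [h, orderOf_one] at hz; omega
  let C := centralizer ({z} : Set G)
  have hcomm : ∀ h : C, (h : G) * z = z * h := fun h => mem_centralizer_singleton_iff.1 h.2
  have mkC : ∀ h : G, h * z = z * h → ∃ hc : C, (hc : G) = h := fun h e =>
    ⟨⟨h, mem_centralizer_singleton_iff.2 e⟩, rfl⟩
  have hτsq : τ * τ = 1 := by
    apply Subtype.ext
    obtain ⟨c, hc⟩ := isConj_iff.1 hτ1
    rw [Subgroup.coe_mul, ← hc]
    calc c * z * c⁻¹ * (c * z * c⁻¹) = c * (z * z) * c⁻¹ := by group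
      _ = ((1 : C) : G) := by rw [hz2]; simp
  let K : C → Prop := fun x => ∃ h : C, h * τ * h⁻¹ = x
  have hKconj : ∀ x, K x → ∀ h : C, K (h * x * h⁻¹) := by
    rintro x ⟨u, rfl⟩ h
    exact ⟨h * u, by group⟩
  have hKsq : ∀ x, K x → x * x = 1 := by
    rintro x ⟨u, rfl⟩
    calc u * τ * u⁻¹ * (u * τ * u⁻¹) = u * (τ * τ) * u⁻¹ := by group
      _ = 1 := by rw [hτsq]; group
  have huniq : ∀ x y, K x → K y → p x = p y → x = y := by
    rintro x y ⟨h, rfl⟩ ⟨h', rfl⟩ e
    have h1 : p ((h * τ * h⁻¹)⁻¹ * (h' * τ * h'⁻¹)) = 1 := by rw [map_mul p, map_inv p, e, inv_mul_cancel]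
    rcases (hker _).1 h1 with h2 | h2
    · exact inv_mul_eq_one.1 (Subtype.ext h2)
    · exfalso
      refine hτz (h⁻¹ * h') ?_
      rw [Subgroup.coe_mul, InvMemClass.coe_inv, inv_mul_eq_iff_eq_mul] at h2
      · calc ((h⁻¹ * h' * τ * (h⁻¹ * h')⁻¹ : C) : G)
            = (h : G)⁻¹ * ((h' * τ * h'⁻¹ : C) : G) * h := by
              simp only [Subgroup.coe_mul, InvMemClass.coe_inv, mul_inv_rev, inv_inv, mul_assoc]
          _ = (h : G)⁻¹ * ((h : G) * τ * (h : G)⁻¹ * z) * h := by
              rw [h2]; simp [mul_assoc]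
          _ = (τ : G) * ((h : G)⁻¹ * (z * h)) := by group
          _ = (τ : G) * z := by rw [← hcomm h]; group
  have hlift : ∀ i j : Fin 5, i ≠ j → ∃ x, K x ∧ p x = swap i j := by
    intro i j hij
    obtain ⟨k, hk⟩ := isConj_iff.1 (Equiv.Perm.isConj_swap (show (0 : Fin 5) ≠ 1 by decide) hij)
    obtain ⟨h, hh⟩ := hp k
    exact ⟨h * τ * h⁻¹, ⟨h, rfl⟩, by rw [map_mul, map_mul, map_inv, hh, hpτ, hk]⟩
  obtain ⟨b, hKb, hpb⟩ := hlift 1 2 (by decide)
  obtain ⟨c, hKc, hpc⟩ := hlift 2 3 (by decide)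
  obtain ⟨d, hKd, hpd⟩ := hlift 3 4 (by decide)
  have hKa : K τ := ⟨1, by group⟩
  have hconjEq : ∀ (h x y : C), K x → K y → p h * p x * (p h)⁻¹ = p y → h * x * h⁻¹ = y :=
    fun h x y hx hy e => huniq _ _ (hKconj x hx h) hy (by rw [map_mul p, map_mul p, map_inv p, e])
  have hbraid : ∀ x y : C, K x → K y → p x * p y * (p x)⁻¹ = p y * p x * (p y)⁻¹ →
      x * y * x * y * x * y = 1 := by
    intro x y hx hy e
    have h1 : x * y * x⁻¹ = y * x * y⁻¹ := huniq _ _ (hKconj y hy x) (hKconj x hx y)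
      (by rw [map_mul p, map_mul p, map_inv p, map_mul p, map_mul p, map_inv p, e])
    rw [inv_eq_of_mul_eq_one_right (hKsq x hx), inv_eq_of_mul_eq_one_right (hKsq y hy)] at h1
    calc x * y * x * y * x * y = (x * y * x) * (y * x * y) := by group
      _ = x * y * (x * x) * y * x := by rw [← h1]; group
      _ = 1 := by rw [hKsq x hx, mul_one, mul_assoc x, hKsq y hy, mul_one, hKsq x hx]
  have hswapc : ∀ x y : C, K x → K y → p x * p y * (p x)⁻¹ = p y → x * y = y * x :=
    fun x y hx hy e => mul_inv_eq_iff_eq_mul.1 (hconjEq x y y hy hy e)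
  have hab : τ * b * τ * b * τ * b = 1 := hbraid τ b hKa hKb (by rw [hpτ, hpb]; decide)
  have hbc : b * c * b * c * b * c = 1 := hbraid b c hKb hKc (by rw [hpb, hpc]; decide)
  have hcd : c * d * c * d * c * d = 1 := hbraid c d hKc hKd (by rw [hpc, hpd]; decide)
  have hac : τ * c = c * τ := hswapc τ c hKa hKc (by rw [hpτ, hpc]; decide)
  have had : τ * d = d * τ := hswapc τ d hKa hKd (by rw [hpτ, hpd]; decide)
  have hbd : b * d = d * b := hswapc b d hKb hKd (by rw [hpb, hpd]; decide)
  have hρd : c * d * c * (c * d)⁻¹ = d := hconjEq (c * d) c d hKc hKd (by rw [map_mul, hpc, hpd]; decide)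
  have hρi : c * (c * d) * c⁻¹ = (c * d)⁻¹ := by
    rw [mul_inv_rev, inv_eq_of_mul_eq_one_right (hKsq c hKc), inv_eq_of_mul_eq_one_right (hKsq d hKd),
      ← mul_assoc, hKsq c hKc, one_mul]
  -- the four `G`-elements
  set a : G := (τ : G) with ha
  have ha2 : a * a = 1 := congrArg Subtype.val hτsq
  have haz : a * z = z * a := hcomm τ
  have hc2 : (c : G) * c = 1 := congrArg Subtype.val (hKsq c hKc)
  have hcz : (c : G) * z = z * c := hcomm c
  have hca : (c : G) * a = a * c := (congrArg Subtype.val hac).symm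
  have haz' : ∀ x, a * (z * x) = z * (a * x) := fun x => by rw [← mul_assoc, haz, mul_assoc]
  have hcz' : ∀ x, (c : G) * (z * x) = z * (c * x) := fun x => by rw [← mul_assoc, hcz, mul_assoc]
  have hca' : ∀ x, (c : G) * (a * x) = a * (c * x) := fun x => by rw [← mul_assoc, hca, mul_assoc]
  have hz2' : ∀ x, z * (z * x) = x := fun x => by rw [← mul_assoc, hz2, one_mul]
  have ha2' : ∀ x, a * (a * x) = x := fun x => by rw [← mul_assoc, ha2, one_mul]
  have hc2' : ∀ x, (c : G) * (c * x) = x := fun x => by rw [← mul_assoc, hc2, one_mul]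
  obtain ⟨g0, hg0z, hg0a⟩ := exists_cycle hz2 ha2 haz hτ1 hτ2 (fun x h1 h2 => by
    obtain ⟨u, hu⟩ := hcover x h1 h2
    refine ⟨u, hcomm u, hu.imp ?_ ?_⟩
    · intro e; rw [e]; simp [a]
    · intro e
      rw [e]
      have := hcomm u⁻¹
      simp only [InvMemClass.coe_inv] at this
      simp only [Subgroup.coe_mul, InvMemClass.coe_inv, mul_assoc, a, this])
  -- replace by a 3-element
  let g1 : G := g0 ^ 3520
  have hg0' : MulAut.conj g0 z = a ∧ MulAut.conj g0 a = z * a := ⟨hg0z, hg0a⟩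
  have hpow3 : ∀ n : ℕ, MulAut.conj (g0 ^ (3 * n)) z = z ∧ MulAut.conj (g0 ^ (3 * n)) a = a := by
    intro n
    induction n with
    | zero => simp
    | succ n ih =>
      have e : g0 ^ (3 * (n + 1)) = g0 ^ (3 * n) * (g0 * g0 * g0) := by
        rw [Nat.mul_succ, pow_add, pow_succ, pow_two]
      constructor <;>
        simp only [e, map_mul, MulAut.mul_apply, hg0'.1, hg0'.2, ih.1, ih.2, haz, haz', hz2', ha2', ha2, hz2,
          mul_assoc, mul_one, one_mul]
  have hg1 : MulAut.conj g1 z = a ∧ MulAut.conj g1 a = z * a := by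
    have e : g1 = g0 * g0 ^ (3 * 1173) := by rw [← pow_succ']
    constructor <;>
      rw [e, map_mul, MulAut.mul_apply]
    · rw [(hpow3 _).1, hg0'.1]
    · rw [(hpow3 _).2, hg0'.2]
  have hg1o : g1 ^ 27 = 1 := by
    rw [← pow_mul, show 3520 * 27 = Nat.card G by rw [hcard], pow_card_eq_one']
  let ρ : C := c * d
  have hρi' : c * ρ * c⁻¹ = ρ⁻¹ := hρi
  have hρd' : ρ * c * ρ⁻¹ = d := hρd
  have hρz : (ρ : G) * z = z * ρ := hcomm ρ
  have hρa : (ρ : G) * a = a * ρ := by
    show ((c * d * τ : C) : G) = ((τ * (c * d) : C) : G)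
    rw [mul_assoc, ← had, ← mul_assoc, ← hac, mul_assoc]
  have hρ3 : ρ ^ 3 = 1 := by rw [← hcd]; simp [ρ, pow_succ, mul_assoc]
  have hpρ : p ρ = s23 * s34 := by rw [map_mul, hpc, hpd]
  have hρne : ρ ≠ ρ⁻¹ := fun e => by
    have := congrArg p e
    rw [map_inv, hpρ] at this
    revert this
    decide
  have hstab : ∀ f : G, MulAut.conj f z = a → MulAut.conj f a = z * a → ∀ h : C, (h : G) * a = a * h →
      ∃ h' : C, (h' : G) = f * h * f⁻¹ ∧ (h' : G) * a = a * h' := by
    intro f f1 f2 h hh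
    have f3 : MulAut.conj f (z * a) = z := by
      rw [map_mul, f1, f2, haz', ha2, mul_one]
    have e1 := congrArg (MulAut.conj f) (hcomm h)
    rw [map_mul, map_mul, f1, MulAut.conj_apply] at e1
    have e2 : (h : G) * (z * a) = z * a * h := by rw [← mul_assoc, hcomm h, mul_assoc, hh, mul_assoc]
    have e3 := congrArg (MulAut.conj f) e2
    rw [map_mul, map_mul (MulAut.conj f) (z * a), f3, MulAut.conj_apply] at e3
    exact ⟨⟨_, mem_centralizer_singleton_iff.2 e3⟩, rfl, e1⟩
  have hpcomm : ∀ h : C, (h : G) * a = a * h → p h * s01 = s01 * p h := fun h hh => by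
    rw [← hpτ, ← map_mul, ← map_mul, show h * τ = τ * h from Subtype.ext hh]
  have hcube : ∀ (r : C), r ^ 3 = 1 → (r : G) * a = a * r → r ≠ 1 → r = ρ ∨ r = ρ⁻¹ := by
    intro r hr hra hrne
    have hpr1 : p r ≠ 1 := by
      intro h
      rcases (hker r).1 h with h' | h'
      · exact hrne (Subtype.ext h')
      · have := congrArg Subtype.val hr
        rw [SubmonoidClass.coe_pow, h', pow_succ, pow_two, hz2, one_mul] at this
        exact hzne this
    have hone : ∀ v : C, v ^ 3 = 1 → p r = p v → r * v⁻¹ = v⁻¹ * r → r = v := by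
      intro v hv e ec
      rcases (hker (r * v⁻¹)).1 (by rw [map_mul, map_inv, e, mul_inv_cancel]) with h' | h'
      · exact mul_inv_eq_one.1 (Subtype.ext h')
      · exfalso
        have h3 : (r * v⁻¹) ^ 3 = 1 := by
          rw [(show Commute r v⁻¹ from ec).mul_pow, hr, inv_pow, hv, inv_one, one_mul]
        have := congrArg Subtype.val h3
        rw [SubmonoidClass.coe_pow, h', pow_succ, pow_two, hz2, one_mul] at this
        exact hzne this
    have hkey : ∀ v : C, p r = p v → r * v⁻¹ = v⁻¹ * r := by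
      intro v e
      rcases (hker (v⁻¹ * r)).1 (by rw [map_mul, map_inv, e, inv_mul_cancel]) with h' | h'
      · rw [show r = v from (inv_mul_eq_one.1 (Subtype.ext h')).symm]; simp
      · have h'' : r = v * (v⁻¹ * r) := by group
        have hc' : (v⁻¹ * r) * v = v * (v⁻¹ * r) := Subtype.ext (by
          rw [Subgroup.coe_mul, Subgroup.coe_mul _ v, h', hcomm v])
        calc r * v⁻¹ = (v * (v⁻¹ * r)) * v⁻¹ := by rw [← h'']
          _ = (v⁻¹ * r * v) * v⁻¹ := by rw [hc']
          _ = v⁻¹ * r := by group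
    rcases cube_cases (p r) (by rw [← map_pow, hr, map_one]) hpr1 (hpcomm r hra) with e | e
    · exact Or.inl (hone ρ hρ3 (e.trans hpρ.symm) (hkey _ (e.trans hpρ.symm)))
    · have e' : p r = p ρ⁻¹ := by rw [e, map_inv, hpρ]
      exact Or.inr (hone ρ⁻¹ (by rw [inv_pow, hρ3, inv_one]) e' (hkey _ e'))
  have hg1ρ : g1 * ρ * g1⁻¹ = (ρ : G) := by
    obtain ⟨r, hr, hra⟩ := hstab g1 hg1.1 hg1.2 ρ hρa
    have hr3 : r ^ 3 = 1 := Subtype.ext (by
      rw [SubmonoidClass.coe_pow, hr, conj_pow, ← SubmonoidClass.coe_pow, hρ3]; simp)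
    have hrne : r ≠ 1 := fun e => by
      rw [e, OneMemClass.coe_one, eq_comm, mul_inv_eq_one, mul_eq_left] at hr
      exact hρne (by rw [show ρ = 1 from Subtype.ext hr, inv_one])
    rcases hcube r hr3 hra hrne with e | e
    · rw [← hr, e]
    · exfalso
      rw [e, InvMemClass.coe_inv] at hr
      have hstep : MulAut.conj (g1 * g1) (ρ : G) = ρ := by
        rw [map_mul, MulAut.mul_apply, MulAut.conj_apply g1 (ρ : G), ← hr, map_inv, MulAut.conj_apply, ← hr,
          inv_inv]
      have hev : ∀ n : ℕ, MulAut.conj ((g1 * g1) ^ n) (ρ : G) = ρ := by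
        intro n
        induction n with
        | zero => simp
        | succ n ih => rw [pow_succ, map_mul, MulAut.mul_apply, hstep, ih]
      have e27 : g1 ^ 27 = g1 * (g1 * g1) ^ 13 := by rw [← pow_two, show 27 = 2 * 13 + 1 from rfl, pow_succ', pow_mul]
      have h27 := congrArg (fun x => MulAut.conj x (ρ : G)) hg1o
      simp only [map_one, MulAut.one_apply, e27, map_mul, MulAut.mul_apply, hev] at h27
      rw [MulAut.conj_apply, ← hr] at h27
      exact hρne (Subtype.ext (by rw [InvMemClass.coe_inv, h27]))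
  -- adjust by a power of `ρ`
  obtain ⟨c', hc', hc'a⟩ := hstab g1 hg1.1 hg1.2 c hca
  have hc'inv : p c' * (s23 * s34) * (p c')⁻¹ = (s23 * s34)⁻¹ := by
    rw [← hpρ, ← map_inv p c', ← map_mul, ← map_mul, ← map_inv p ρ]
    congr 1
    apply Subtype.ext
    simp only [Subgroup.coe_mul, InvMemClass.coe_inv]
    rw [hc']
    calc g1 * c * g1⁻¹ * (ρ : G) * (g1 * c * g1⁻¹)⁻¹
        = g1 * c * g1⁻¹ * (g1 * ρ * g1⁻¹) * (g1 * c * g1⁻¹)⁻¹ := by rw [hg1ρ]
      _ = g1 * ((c * ρ * c⁻¹ : C) : G) * g1⁻¹ := by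
        simp only [Subgroup.coe_mul, InvMemClass.coe_inv]; group
      _ = (g1 * ρ * g1⁻¹)⁻¹ := by rw [hρi', InvMemClass.coe_inv]; group
      _ = (ρ : G)⁻¹ := by rw [hg1ρ]
  have hc'2 : p c' * p c' = 1 := by
    rw [← map_mul, show c' * c' = 1 from Subtype.ext (by
      rw [Subgroup.coe_mul, hc', OneMemClass.coe_one]
      calc g1 * c * g1⁻¹ * (g1 * c * g1⁻¹) = g1 * ((c : G) * c) * g1⁻¹ := by group
        _ = 1 := by rw [hc2]; group), map_one]
  obtain ⟨i, j, hij⟩ := invert_cases (p c') (hpcomm c' hc'a) hc'2 hc'inv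
  have hc'form : (c' : G) = a ^ i.val * (ρ : G) ^ j.val * c ∨ (c' : G) = z * (a ^ i.val * (ρ : G) ^ j.val * c) := by
    have e : p ((τ ^ i.val * ρ ^ j.val * c)⁻¹ * c') = 1 := by
      rw [map_mul, map_inv, map_mul, map_mul, map_pow, map_pow, hpτ, hpρ, hpc, ← hij, inv_mul_cancel]
    rcases (hker _).1 e with h' | h'
    · left
      rw [Subgroup.coe_mul, InvMemClass.coe_inv, inv_mul_eq_one] at h'
      simpa [a] using h'.symm
    · right
      rw [Subgroup.coe_mul, InvMemClass.coe_inv, inv_mul_eq_iff_eq_mul, hcomm] at h'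
      simpa [a] using h'
  let g2 : G := (ρ : G) ^ j.val * g1
  have hρj : ∀ x : G, (ρ : G) * x = x * ρ → MulAut.conj ((ρ : G) ^ j.val) x = x := fun x hx => by
    rw [MulAut.conj_apply, ((show Commute (ρ : G) x from hx).pow_left _).eq, mul_inv_cancel_right]
  have hg2z : MulAut.conj g2 z = a := by rw [map_mul, MulAut.mul_apply, hg1.1, hρj a hρa]
  have hg2a : MulAut.conj g2 a = z * a := by
    rw [map_mul, MulAut.mul_apply, hg1.2, map_mul, hρj z hρz, hρj a hρa]
  have hg2ρ : MulAut.conj g2 (ρ : G) = ρ := by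
    rw [map_mul, MulAut.mul_apply, MulAut.conj_apply g1, hg1ρ, hρj _ rfl]
  have hρ3' : (ρ : G) ^ 3 = 1 := by rw [← SubmonoidClass.coe_pow, hρ3]; rfl
  have hg2o : g2 ^ 27 = 1 := by
    have hcm : Commute (ρ : G) g1 := (mul_inv_eq_iff_eq_mul.1 hg1ρ).symm
    rw [(hcm.pow_left _).mul_pow, hg1o, mul_one, ← pow_mul, show j.val * 27 = 3 * (9 * j.val) by ring, pow_mul,
      hρ3', one_pow]
  have hρc : MulAut.conj (c : G) (ρ : G) = (ρ : G)⁻¹ := by
    exact congrArg Subtype.val hρi'
  have hjc : MulAut.conj ((ρ : G) ^ j.val) ((ρ : G) ^ j.val * c) = (c : G) := by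
    have e : (c : G) * ((ρ : G) ^ j.val)⁻¹ = (ρ : G) ^ j.val * c := by
      have h1 : MulAut.conj (c : G) (((ρ : G) ^ j.val)⁻¹) = (ρ : G) ^ j.val := by
        rw [map_inv, map_pow, hρc, inv_pow, inv_inv]
      rw [MulAut.conj_apply] at h1
      exact mul_inv_eq_iff_eq_mul.1 h1
    rw [MulAut.conj_apply]
    calc (ρ : G) ^ j.val * ((ρ : G) ^ j.val * c) * ((ρ : G) ^ j.val)⁻¹
        = (ρ : G) ^ j.val * (ρ : G) ^ j.val * ((c : G) * ((ρ : G) ^ j.val)⁻¹) := by group
      _ = ((ρ : G) ^ 3) ^ j.val * c := by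
        rw [e, ← mul_assoc, ← pow_add, ← pow_add, ← pow_mul, show j.val + j.val + j.val = 3 * j.val by ring]
      _ = c := by rw [hρ3', one_pow, one_mul]
  have hg2c : MulAut.conj g2 (c : G) = c ∨ MulAut.conj g2 (c : G) = z * c ∨
      MulAut.conj g2 (c : G) = a * c ∨ MulAut.conj g2 (c : G) = z * a * c := by
    rw [map_mul, MulAut.mul_apply, MulAut.conj_apply g1, ← hc']
    rcases hc'form with e | e <;> rw [e]
    · rw [mul_assoc, map_mul, hjc, map_pow (MulAut.conj ((ρ : G) ^ j.val)), hρj a hρa]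
      rcases (show i.val = 0 ∨ i.val = 1 by omega) with h | h <;> simp [h]
    · rw [mul_assoc (a ^ i.val), ← mul_assoc z, map_mul, hjc, map_mul, map_pow (MulAut.conj ((ρ : G) ^ j.val)), hρj a hρa, hρj z hρz]
      rcases (show i.val = 0 ∨ i.val = 1 by omega) with h | h <;> simp [h]
  have hg2cube : g2 ^ 3 = 1 := by
    have e3 : g2 ^ 3 = g2 * g2 * g2 := by rw [pow_succ, pow_two]
    have hfix : MulAut.conj (g2 ^ 3) z = z ∧ MulAut.conj (g2 ^ 3) a = a ∧
        MulAut.conj (g2 ^ 3) (c : G) = c := by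
      refine ⟨?_, ?_, ?_⟩
      · simp only [e3, map_mul, MulAut.mul_apply, hg2z, hg2a, haz, haz', hz2', ha2', ha2, hz2, mul_assoc, mul_one]
      · simp only [e3, map_mul, MulAut.mul_apply, hg2z, hg2a, haz, haz', hz2', ha2', ha2, hz2, mul_assoc, mul_one]
      · rcases hg2c with e | e | e | e <;>
          simp only [e3, map_mul, MulAut.mul_apply, hg2z, hg2a, e, haz, haz', hz2', ha2', ha2, hz2, mul_assoc,
            mul_one, one_mul]
    obtain ⟨h, hh⟩ := mkC (g2 ^ 3) (mul_inv_eq_iff_eq_mul.1 hfix.1)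
    have h27 : h ^ 27 = 1 := Subtype.ext (by
      rw [SubmonoidClass.coe_pow, hh, ← pow_mul, mul_comm, pow_mul, hg2o, one_pow]; rfl)
    have hha : (h : G) * a = a * h := by rw [hh]; exact mul_inv_eq_iff_eq_mul.1 hfix.2.1
    have hhc : h * c = c * h := Subtype.ext (by
      rw [Subgroup.coe_mul, Subgroup.coe_mul, hh]; exact mul_inv_eq_iff_eq_mul.1 hfix.2.2)
    have h1 : p h = 1 := three_cases (p h) (by rw [← map_pow, h27, map_one]) (hpcomm h hha)
      (by rw [show s23 = p c from hpc.symm, ← map_mul, ← map_mul, hhc])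
    rcases (hker h).1 h1 with e | e
    · rw [← hh, e]
    · exfalso
      have := congrArg Subtype.val h27
      rw [SubmonoidClass.coe_pow, e, show 27 = 2 * 13 + 1 from rfl, pow_succ, pow_mul, pow_two, hz2, one_pow,
        one_mul] at this
      exact hzne this
  -- the element `y`
  let yC : C := b * τ * c * b
  set y : G := (yC : G) with hy
  have hpy : p yC = s12 * s01 * s23 * s12 := by
    simp only [yC, map_mul, hpb, hpτ, hpc]
  have hyz : MulAut.conj y z = z := by rw [MulAut.conj_apply, hcomm yC, mul_inv_cancel_right]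
  have hya : MulAut.conj y a = c :=
    congrArg Subtype.val (hconjEq yC τ c hKa hKc (by rw [hpy, hpτ, hpc]; decide))
  have hyc : MulAut.conj y (c : G) = a :=
    congrArg Subtype.val (hconjEq yC c τ hKc hKa (by rw [hpy, hpτ, hpc]; decide))
  have hGz : MulAut.conj g2⁻¹ z = z * a := by
    have : MulAut.conj g2 (z * a) = z := by rw [map_mul, hg2z, hg2a, haz', ha2, mul_one]
    nth_rewrite 1 [← this]
    rw [← MulAut.mul_apply, ← map_mul, inv_mul_cancel, map_one, MulAut.one_apply]
  have hGa : MulAut.conj g2⁻¹ a = z := by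
    rw [← hg2z, ← MulAut.mul_apply, ← map_mul, inv_mul_cancel, map_one, MulAut.one_apply]
  have hbad : ∀ w : G, MulAut.conj w z = z → MulAut.conj w a ≠ z * c ∧ MulAut.conj w a ≠ z * (a * c) := by
    intro w hw
    obtain ⟨wc, hwc⟩ := mkC w (mul_inv_eq_iff_eq_mul.1 hw)
    have hval : MulAut.conj w a = ((wc * τ * wc⁻¹ : C) : G) := by simp [hwc, a]
    have hzp : p ⟨z, mem_centralizer_singleton_iff.2 rfl⟩ = 1 := (hker _).2 (Or.inr rfl)
    refine ⟨fun e => ?_, fun e => ?_⟩
    · have e' : wc * τ * wc⁻¹ = ⟨z, mem_centralizer_singleton_iff.2 rfl⟩ * c :=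
        Subtype.ext (hval.symm.trans e)
      have : wc * τ * wc⁻¹ = c := huniq _ _ (hKconj τ hKa wc) hKc (by
        rw [e', map_mul, hzp, one_mul])
      rw [this] at e'
      exact hzne (congrArg Subtype.val (mul_eq_right.1 e'.symm))
    · have e' : wc * τ * wc⁻¹ = ⟨z, mem_centralizer_singleton_iff.2 rfl⟩ * (τ * c) :=
        Subtype.ext (hval.symm.trans e)
      have h := congrArg p e'
      simp only [map_mul, map_inv, hzp, one_mul, hpτ, hpc] at h
      exact conj_ne_dbl _ h
  have hgc : MulAut.conj g2 (c : G) = z * c := by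
    rcases hg2c with e | e | e | e
    · exfalso
      have hG : MulAut.conj g2⁻¹ (c : G) = c := by
        nth_rewrite 1 [← e]
        rw [← MulAut.mul_apply, ← map_mul, inv_mul_cancel, map_one, MulAut.one_apply]
      refine (hbad (g2⁻¹ * y * g2 * y * g2) ?_).1 ?_ <;>
        simp only [map_mul, MulAut.mul_apply, hg2z, hg2a, e, hG, hGz, hGa, hyz, hya, hyc, haz, haz', hcz, hcz',
          hca, hca', hz2', ha2', hc2', ha2, hz2, hc2, mul_assoc, mul_one, one_mul]
    · exact e
    · exfalso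
      have hG : MulAut.conj g2⁻¹ (c : G) = z * c := by
        have h' : MulAut.conj g2 (z * c) = c := by rw [map_mul, hg2z, e, ha2']
        nth_rewrite 1 [← h']
        rw [← MulAut.mul_apply, ← map_mul, inv_mul_cancel, map_one, MulAut.one_apply]
      refine (hbad (g2 * y * g2⁻¹ * y * g2) ?_).1 ?_ <;>
        simp only [map_mul, MulAut.mul_apply, hg2z, hg2a, e, hG, hGz, hGa, hyz, hya, hyc, haz, haz', hcz, hcz',
          hca, hca', hz2', ha2', hc2', ha2, hz2, hc2, mul_assoc, mul_one, one_mul]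
    · exfalso
      refine (hbad (g2 * y * g2 * y * g2⁻¹) ?_).2 ?_ <;>
        simp only [map_mul, MulAut.mul_apply, hg2z, hg2a, e, hGz, hGa, hyz, hya, hyc, haz, haz', hcz, hcz',
          hca, hca', hz2', ha2', hc2', ha2, hz2, hc2, mul_assoc, mul_one, one_mul]
  have hgd : MulAut.conj g2 (d : G) = z * d := by
    have hd : (d : G) = MulAut.conj (ρ : G) (c : G) := (congrArg Subtype.val hρd').symm
    have hρz1 : MulAut.conj (ρ : G) z = z := by rw [MulAut.conj_apply, hρz, mul_inv_cancel_right]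
    rw [hd, ← MulAut.mul_apply, ← map_mul,
      show g2 * (ρ : G) = (ρ : G) * g2 from mul_inv_eq_iff_eq_mul.1 hg2ρ, map_mul, MulAut.mul_apply, hgc, map_mul,
      hρz1]
  -- the order of `g y`
  have hta : MulAut.conj (g2 * y) z = a ∧ MulAut.conj (g2 * y) a = z * c ∧
      MulAut.conj (g2 * y) (c : G) = z * a := by
    refine ⟨?_, ?_, ?_⟩ <;> simp only [map_mul, MulAut.mul_apply, hyz, hya, hyc, hg2z, hg2a, hgc]
  have ht3 : (g2 * y) ^ 3 = 1 ∨ (g2 * y) ^ 3 = a * c := by
    set t := g2 * y with ht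
    have e3 : t ^ 3 = t * t * t := by rw [pow_succ, pow_two]
    have hfix : MulAut.conj (t ^ 3) z = z ∧ MulAut.conj (t ^ 3) a = a ∧
        MulAut.conj (t ^ 3) (c : G) = c := by
      refine ⟨?_, ?_, ?_⟩ <;>
        simp only [e3, map_mul (MulAut.conj (G := G)), MulAut.mul_apply, hta.1, hta.2.1, hta.2.2, map_mul, haz, haz',
          hcz, hcz', hca, hca', hz2', ha2', hc2', ha2, hz2, hc2, mul_assoc, mul_one, one_mul]
    obtain ⟨h, hh⟩ := mkC (t ^ 3) (mul_inv_eq_iff_eq_mul.1 hfix.1)
    have hha : (h : G) * a = a * h := by rw [hh]; exact mul_inv_eq_iff_eq_mul.1 hfix.2.1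
    have hhc : h * c = c * h := Subtype.ext (by
      rw [Subgroup.coe_mul, Subgroup.coe_mul, hh]; exact mul_inv_eq_iff_eq_mul.1 hfix.2.2)
    have ht : MulAut.conj t (h : G) = (h : G) := by
      rw [hh, MulAut.conj_apply, ← pow_succ', pow_succ, mul_inv_cancel_right]
    have hzp : p ⟨z, mem_centralizer_singleton_iff.2 rfl⟩ = 1 := (hker _).2 (Or.inr rfl)
    have hform : ∀ v : C, p h = p v → (h : G) = v ∨ (h : G) = z * v := by
      intro v e
      rcases (hker (h * v⁻¹)).1 (by rw [map_mul, map_inv, e, mul_inv_cancel]) with h' | h'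
      · left
        rwa [Subgroup.coe_mul, InvMemClass.coe_inv, mul_inv_eq_one] at h'
      · right
        rwa [Subgroup.coe_mul, InvMemClass.coe_inv, mul_inv_eq_iff_eq_mul] at h'
    have heq : ∀ u v : C, (u : G) = v → p u = p v := fun u v e => by rw [Subtype.ext e]
    let zc : C := ⟨z, mem_centralizer_singleton_iff.2 rfl⟩
    replace hzp : p zc = 1 := hzp
    rw [← hh]
    rcases four_cases (p h) (hpcomm h hha) (by rw [show s23 = p c from hpc.symm, ← map_mul, ← map_mul, hhc])
      with e | e | e | e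
    · rcases hform 1 (by rw [e, map_one]) with h' | h'
      · exact Or.inl (by rw [h']; rfl)
      · exfalso
        rw [h', OneMemClass.coe_one, mul_one, hta.1] at ht
        have := heq τ zc ht
        rw [hpτ, hzp] at this
        revert this; decide
    · exfalso
      rcases hform τ (by rw [e, hpτ]) with h' | h'
      · rw [h', hta.2.1] at ht
        have := heq (zc * c) τ ht
        rw [map_mul, hzp, hpc, hpτ] at this
        revert this; decide
      · rw [h', map_mul, hta.1, hta.2.1] at ht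
        simp only [haz', mul_assoc] at ht
        have := heq (zc * (τ * c)) (zc * τ) ht
        simp only [map_mul, hzp, hpc, hpτ] at this
        revert this; decide
    · exfalso
      rcases hform c (by rw [e, hpc]) with h' | h'
      · rw [h', hta.2.2] at ht
        have := heq (zc * τ) c ht
        rw [map_mul, hzp, hpc, hpτ] at this
        revert this; decide
      · rw [h', map_mul, hta.1, hta.2.2] at ht
        simp only [haz', ha2, mul_one] at ht
        have := heq zc (zc * c) ht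
        simp only [map_mul, hzp, hpc] at this
        revert this; decide
    · rcases hform (τ * c) (by rw [e, map_mul, hpτ, hpc]) with h' | h'
      · exact Or.inr h'
      · exfalso
        rw [h', Subgroup.coe_mul, map_mul (MulAut.conj t), map_mul (MulAut.conj t), hta.1, hta.2.1, hta.2.2] at ht
        simp only [haz, haz', hcz, hcz', hca, hca', hz2', ha2', ha2, hz2, mul_assoc, mul_one] at ht
        have := heq c (zc * (τ * c)) ht
        simp only [map_mul, hzp, hpc, hpτ] at this
        revert this; decide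
  have hy2 : y * y = 1 := by
    have : yC * yC = 1 := by
      calc yC * yC = b * (τ * c) * (b * b) * (τ * c) * b := by simp only [yC]; group
        _ = b * ((τ * c) * (c * τ)) * b := by rw [hKsq b hKb, mul_one, ← hac, mul_assoc b]
        _ = 1 := by rw [mul_assoc τ, ← mul_assoc c, hKsq c hKc, one_mul, hτsq, mul_one, hKsq b hKb]
    exact congrArg Subtype.val this
  obtain ⟨g, hgz, hga, hgcc, hgdd, hg3, hgy⟩ : ∃ g : G, MulAut.conj g z = a ∧ MulAut.conj g a = z * a ∧
      MulAut.conj g (c : G) = z * c ∧ MulAut.conj g (d : G) = z * d ∧ g ^ 3 = 1 ∧ (g * y) ^ 3 = 1 := by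
    rcases ht3 with h | h
    · exact ⟨g2, hg2z, hg2a, hgc, hgd, hg2cube, h⟩
    have haa : ∀ x : G, a * x = x * a → MulAut.conj a x = x := fun x hx => by
      rw [MulAut.conj_apply, hx, mul_inv_cancel_right]
    have hda : a * (d : G) = d * a := congrArg Subtype.val had
    refine ⟨a * g2 * a, ?_, ?_, ?_, ?_, ?_, ?_⟩
    · simp only [map_mul (MulAut.conj (G := G)), MulAut.mul_apply, haa z haz, hg2z, haa a rfl]
    · simp only [map_mul (MulAut.conj (G := G)), MulAut.mul_apply, haa a rfl, hg2a, map_mul, haa z haz]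
    · simp only [map_mul (MulAut.conj (G := G)), MulAut.mul_apply, haa _ hca.symm, hgc, map_mul, haa z haz]
    · simp only [map_mul (MulAut.conj (G := G)), MulAut.mul_apply, haa _ hda, hgd, map_mul, haa z haz]
    · calc (a * g2 * a) ^ 3 = a * g2 * (a * a) * g2 * (a * a) * g2 * a := by
            rw [pow_succ, pow_two]; group
        _ = a * g2 ^ 3 * a := by rw [ha2, mul_one, mul_one, pow_succ, pow_two]; group
        _ = 1 := by rw [hg2cube, mul_one, ha2]
    · have hay : a * y = y * c := by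
        have := hyc
        rw [MulAut.conj_apply, mul_inv_eq_iff_eq_mul] at this
        exact this.symm
      have htca : MulAut.conj (g2 * y) ((c : G) * a) = c * a := by
        rw [map_mul, hta.2.1, hta.2.2]
        simp only [haz', hca, hca', hz2', mul_assoc]
      have hcom : g2 * y * ((c : G) * a) = c * a * (g2 * y) := mul_inv_eq_iff_eq_mul.1 htca
      have hca2 : (c : G) * a * ((c : G) * a) = 1 := by
        simp only [hca, hca', ha2', hc2, mul_assoc]
      calc (a * g2 * a * y) ^ 3 = (a * (g2 * y) * c) ^ 3 := by rw [mul_assoc (a * g2), hay]; group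
        _ = a * (g2 * y) * ((c * a) * (g2 * y)) * ((c * a) * (g2 * y)) * c := by
          rw [pow_succ, pow_two]; group
        _ = a * (g2 * y) * (g2 * y * ((c : G) * a)) * ((c * a) * (g2 * y)) * c := by rw [hcom]
        _ = a * (g2 * y) * (g2 * y) * (((c : G) * a) * (c * a)) * (g2 * y) * c := by group
        _ = a * (g2 * y) ^ 3 * c := by rw [hca2, mul_one, pow_succ, pow_two]; group
        _ = 1 := by rw [h, ha2', hc2]
  have hgca : g * ((c : G) * a) * g⁻¹ = c * a := by
    rw [← MulAut.conj_apply, map_mul, hgcc, hga]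
    simp only [hcz', hca, hz2', mul_assoc]
  have hdz : (d : G) * z = z * d := hcomm d
  have hdz' : ∀ x, (d : G) * (z * x) = z * (d * x) := fun x => by rw [← mul_assoc, hdz, mul_assoc]
  have hda : a * (d : G) = d * a := congrArg Subtype.val had
  have hgda : g * ((d : G) * a) * g⁻¹ = d * a := by
    rw [← MulAut.conj_apply, map_mul, hgdd, hga]
    simp only [hdz', hz2', mul_assoc]
  have hd2 : (d : G) * d = 1 := congrArg Subtype.val (hKsq d hKd)
  have hb2 : (b : G) * b = 1 := congrArg Subtype.val (hKsq b hKb)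
  have hbz : (b : G) * z = z * b := hcomm b
  rw [MulAut.conj_apply] at hgz hga
  have hg3' : g * (g * g) = 1 := by rw [← hg3, pow_succ, pow_two, mul_assoc]
  have hyd : y = (b : G) * (a * (c * b)) := by simp [hy, yC, a, mul_assoc]
  have hgy' : g * ((b : G) * (a * (c * (b * (g * (b * (a * (c * (b * (g * (b * (a * (c * b)))))))))))))= 1 := by
    rw [← hgy, hyd]; simp only [pow_succ, pow_zero, one_mul, mul_assoc]
  have hrel : ∀ w ∈ baseWords, evW (evSix z a (b : G) (c : G) (d : G) g) w = 1 := by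
    have e_ab : a * (b * (a * (b * (a * (b : G))))) = 1 := by
      have := congrArg Subtype.val hab; simpa [a, mul_assoc] using this
    have e_bc : (b : G) * (c * (b * (c * (b * (c : G))))) = 1 := by
      have := congrArg Subtype.val hbc; simpa [mul_assoc] using this
    have e_cd : (c : G) * (d * (c * (d * (c * (d : G))))) = 1 := by
      have := congrArg Subtype.val hcd; simpa [mul_assoc] using this
    have comm4 : ∀ u v : G, u * v = v * u → u * u = 1 → v * v = 1 → u * (v * (u * v)) = 1 := by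
      intro u v huv hu hv
      rw [← mul_assoc v, ← huv, mul_assoc u, hv, mul_one, hu]
    have hg4 : ∀ x : G, g * (x * a) * g⁻¹ = x * a → x * x = 1 → a * x = x * a →
        g * (x * (a * (g⁻¹ * (a * x)))) = 1 := by
      intro x hx hx2 hxa
      calc g * (x * (a * (g⁻¹ * (a * x)))) = g * (x * a) * g⁻¹ * (a * x) := by group
        _ = 1 := by rw [hx, mul_assoc, ← mul_assoc a, ha2, one_mul, hx2]
    intro w hw
    simp only [baseWords, List.mem_cons, List.not_mem_nil, or_false] at hw
    rcases hw with rfl | rfl | rfl | rfl | rfl | rfl | rfl | rfl | rfl | rfl | rfl | rfl | rfl | rfl | rfl | rfl |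
      rfl | rfl | rfl | rfl | rfl <;>
      simp only [evW, evSix, List.map_cons, List.map_nil, List.prod_cons, List.prod_nil, List.getD_cons_zero,
        List.getD_cons_succ, mul_one]
    · exact hz2
    · exact ha2
    · exact hb2
    · exact hc2
    · exact hd2
    · exact e_ab
    · exact e_bc
    · exact e_cd
    · exact comm4 _ _ hca.symm ha2 hc2
    · exact comm4 _ _ hda ha2 hd2
    · exact comm4 _ _ (congrArg Subtype.val hbd) hb2 hd2
    · exact comm4 _ _ haz.symm hz2 ha2
    · exact comm4 _ _ hbz.symm hz2 hb2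
    · exact comm4 _ _ hcz.symm hz2 hc2
    · exact comm4 _ _ hdz.symm hz2 hd2
    · exact hg3'
    · rw [← mul_assoc, ← mul_assoc, hgz, ha2]
    · rw [← mul_assoc, ← mul_assoc, hga, mul_assoc z, ← mul_assoc a, ha2, one_mul, hz2]
    · exact hg4 _ hgca hc2 hca.symm
    · exact hg4 _ hgda hd2 hda
    · exact hgy'
  refine nonempty_equiv_of_config hcard z a (b : G) (c : G) (d : G) g hrel ?_
  let L : Fin 13 → C := ![1, τ, b, c, d, τ * b, b * τ, b * c, c * b, c * d, d * c, τ * c, τ * d]
  have hL : Function.Injective (p ∘ L) := by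
    have : (p ∘ L) = ![1, s01, s12, s23, s34, s01 * s12, s12 * s01, s12 * s23, s23 * s12, s23 * s34, s34 * s23,
        s01 * s23, s01 * s34] := by
      funext i
      fin_cases i <;> simp [L, hpτ, hpb, hpc, hpd]
    rw [this]
    decide
  have hmem : ∀ i, (L i : G) ∈ closure ({z, a, (b : G), (c : G), (d : G), g} : Set G) := by
    intro i
    have hm : ∀ x ∈ ({z, a, (b : G), (c : G), (d : G), g} : Set G), x ∈
        closure ({z, a, (b : G), (c : G), (d : G), g} : Set G) := fun x hx => subset_closure hx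
    have haM : (τ : G) ∈ _ := hm a (Or.inr (Or.inl rfl))
    have hbM := hm (b : G) (Or.inr (Or.inr (Or.inl rfl)))
    have hcM := hm (c : G) (Or.inr (Or.inr (Or.inr (Or.inl rfl))))
    have hdM := hm (d : G) (Or.inr (Or.inr (Or.inr (Or.inr (Or.inl rfl)))))
    fin_cases i <;> simp only [L, Fin.mk_one, Fin.reduceFinMk, Matrix.cons_val, Matrix.cons_val_zero,
        Matrix.cons_val_one, Subgroup.coe_mul, OneMemClass.coe_one, Fin.zero_eta] <;>
      first
        | exact one_mem _
        | exact haM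
        | exact hbM
        | exact hcM
        | exact hdM
        | exact mul_mem haM hbM
        | exact mul_mem hbM haM
        | exact mul_mem hbM hcM
        | exact mul_mem hcM hbM
        | exact mul_mem hcM hdM
        | exact mul_mem hdM hcM
        | exact mul_mem haM hcM
        | exact mul_mem haM hdM
  have h13 := Nat.card_le_card_of_injective
    (fun i => (⟨(L i : G), hmem i⟩ : closure ({z, a, (b : G), (c : G), (d : G), g} : Set G))) (fun i i' e =>
      hL (congrArg p (Subtype.ext (congrArg (fun v => v.1) e))))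
  rw [Nat.card_fin] at h13
  omega

end CfsgLib.MathieuTwelve
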