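import Cfsg.Agent.Lib.MathieuTwelve.Data
import Cfsg.Agent.Lib.MathieuTwelve.Structure

/-!
# A simple group of order 95040 is the Mathieu group of degree twelve
-/

set_option autoImplicit false
open Cfsg

namespace CfsgLib.MathieuTwelve

universe u

/-- Uniqueness by order. -/
theorem nonempty_equiv_sporM12 {G : Type u} [Group G] [Finite G] [IsSimpleGroup G]
    (hG : Nat.card G = 95040) : Nonempty (G ≃* Cfsg.Spor.M12) := by
  obtain ⟨z, q, hz, hq, hzq, hCz, hCq, hNq, hT⟩ := exists_config_data hG
  exact nonempty_equiv_of_centralizer hG hz hq hzq hCz hCq hNq hT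

end CfsgLib.MathieuTwelve
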