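import Cfsg.Agent.Lib.Schur.OutM12
import Cfsg.Agent.Lib.Golay.Mathieu
import Cfsg.Agent.Lib.MathieuTwelve.Setup

/-!
Six permutations in the Mathieu group of degree twelve satisfying the relations of the configuration.
-/
set_option autoImplicit false
set_option maxRecDepth 16000
set_option synthInstance.maxSize 2000

namespace CfsgLib.MathieuTwelve

open Cfsg CfsgLib.Golay CfsgLib.Presented CfsgLib.Schur.GolaySearch CfsgLib.Schur.GolayOut CfsgLib.Schur.OutM12

/-- image list of `pz` -/
def pzL : List ℕ := [16,2,1,6,12,20,3,11,18,13,19,7,4,9,22,17,0,15,8,10,5,23,14,21]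

/-- one of the six permutations -/
def pz : Equiv.Perm GolayPt :=
  ⟨imgFun pzL, imgFun [16,2,1,6,12,20,3,11,18,13,19,7,4,9,22,17,0,15,8,10,5,23,14,21], by decide +kernel, by decide +kernel⟩

/-- image list of `pa` -/
def paL : List ℕ := [6,9,13,16,8,14,0,10,4,1,7,19,18,2,5,23,3,21,12,11,22,17,20,15]

/-- one of the six permutations -/
def pa : Equiv.Perm GolayPt :=
  ⟨imgFun paL, imgFun [6,9,13,16,8,14,0,10,4,1,7,19,18,2,5,23,3,21,12,11,22,17,20,15], by decide +kernel, by decide +kernel⟩

/-- image list of `pb` -/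
def pbL : List ℕ := [18,12,4,13,2,21,9,17,16,6,14,15,1,3,10,11,8,7,0,22,23,5,19,20]

/-- one of the six permutations -/
def pb : Equiv.Perm GolayPt :=
  ⟨imgFun pbL, imgFun [18,12,4,13,2,21,9,17,16,6,14,15,1,3,10,11,8,7,0,22,23,5,19,20], by decide +kernel, by decide +kernel⟩

/-- image list of `pc` -/
def pcL : List ℕ := [4,9,13,18,0,14,8,21,6,1,17,23,16,2,5,19,12,10,3,15,22,7,20,11]

/-- one of the six permutations -/
def pc : Equiv.Perm GolayPt :=
  ⟨imgFun pcL, imgFun [4,9,13,18,0,14,8,21,6,1,17,23,16,2,5,19,12,10,3,15,22,7,20,11], by decide +kernel, by decide +kernel⟩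

/-- image list of `pd` -/
def pdL : List ℕ := [1,0,16,13,8,7,9,5,4,6,14,20,18,3,10,23,2,21,12,22,11,17,19,15]

/-- one of the six permutations -/
def pd : Equiv.Perm GolayPt :=
  ⟨imgFun pdL, imgFun [1,0,16,13,8,7,9,5,4,6,14,20,18,3,10,23,2,21,12,22,11,17,19,15], by decide +kernel, by decide +kernel⟩

/-- image list of `pg` -/
def pgL : List ℕ := [6,13,2,3,18,22,16,10,4,1,11,7,12,9,5,17,0,21,8,19,20,15,14,23]

/-- one of the six permutations -/
def pg : Equiv.Perm GolayPt :=
  ⟨imgFun pgL, imgFun [16,9,2,3,8,14,0,11,18,13,7,10,12,1,22,21,6,15,4,19,20,17,5,23], by decide +kernel, by decide +kernel⟩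

/-- The six permutations as letters. -/
def modelEv : ℕ → Equiv.Perm GolayPt := evSix pz pa pb pc pd pg

theorem model_rels : ∀ w ∈ baseWords, evW modelEv w = 1 := by decide +kernel

theorem model_side : ([pz, pa, pb, pc, pd, pg].all fun σ => inG side12 (toList σ)) = true := by
  decide +kernel

theorem model_mem : ∀ x ∈ [pz, pa, pb, pc, pd, pg], x ∈ Cfsg.Spor.M12 := by
  intro x hx
  have h := List.all_eq_true.1 model_side x hx
  simp only [inG, Bool.and_eq_true] at h
  rw [mem_M12_side, mem_M24_iff_isPres]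
  exact h

theorem model_gens : evW modelEv [5, 2, 1, 4, 5] = genA ∧ evW modelEv [4, 3, 2, 1] = genB ∧
    evW modelEv [0] = genC := by
  decide +kernel

theorem model_closure : Subgroup.closure {pz, pa, pb, pc, pd, pg} = Cfsg.Spor.M12 := by
  refine le_antisymm ((Subgroup.closure_le _).2 fun x hx => model_mem x (by simpa using hx)) ?_
  rw [← closure_eq, Subgroup.closure_le]
  have h : ∀ w : List ℕ, evW modelEv w ∈ Subgroup.closure ({pz, pa, pb, pc, pd, pg} : Set (Equiv.Perm GolayPt)) :=
    evSix_word_mem pz pa pb pc pd pg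
  rintro x (rfl | rfl | rfl)
  · exact model_gens.1 ▸ h _
  · exact model_gens.2.1 ▸ h _
  · exact model_gens.2.2 ▸ h _

end CfsgLib.MathieuTwelve
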