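import Cfsg.Agent.Lib.MathieuTwelve.Search
import Cfsg.Agent.Lib.Order7920.BlockEleven
import Mathlib.Data.Fin.Tuple.Sort

/-!
# The principal 11-block of a simple group of order 95040
-/

set_option autoImplicit false
set_option linter.style.haveILetI false
set_option linter.unusedSectionVars false
open Cfsg CfsgLib.Characters CfsgLib.CharCorr
open scoped ComplexConjugate

namespace CfsgLib.MathieuTwelve

/-- The four degrees of a row. -/
def Row.ds (r : Row) : Fin 4 → ℤ := ![r.d1, r.d2, r.d3, r.d4]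

universe u

/-- The principal 11-block: four ordinary characters, two exceptional ones, and the rest. -/
structure Principal (G : Type u) [Group G] [Fintype G] where
  /-- ordinary characters -/
  χ : Fin 4 → IrrCharacter G
  /-- exceptional character -/
  f0 : IrrCharacter G
  /-- exceptional character -/
  f1 : IrrCharacter G
  /-- the rest -/
  Z : Finset (IrrCharacter G)
  /-- degrees and coefficient -/
  r : Row
  mem : r ∈ rows
  deg : ∀ i, (charDegree (χ i : G → ℂ) : ℤ) = r.ds i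
  degX : (charDegree (f0 : G → ℂ) : ℤ) = r.x ∧ (charDegree (f1 : G → ℂ) : ℤ) = r.x
  degZ : ∀ η ∈ Z, 11 ∣ charDegree (η : G → ℂ)
  split : ∀ F : IrrCharacter G → ℂ,
    ∑ η, F η = F (principalIrr G) + ∑ i, F (χ i) + (F f0 + F f1) + ∑ η ∈ Z, F η
  rel : ∀ g : G, ¬ 11 ∣ orderOf g →
    1 + ∑ i, (sgn (r.ds i) : ℂ) * (χ i : G → ℂ) g + (r.c : ℂ) * (f0 : G → ℂ) g = 0
  eqX : ∀ g : G, ¬ 11 ∣ orderOf g → (f1 : G → ℂ) g = (f0 : G → ℂ) g
  singular : ∀ g : G, 11 ∣ orderOf g → orderOf g = 11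
  valE : ∀ g : G, orderOf g = 11 → ∀ i, (χ i : G → ℂ) g = (sgn (r.ds i) : ℂ)
  valX : ∀ g : G, orderOf g = 11 → (f0 : G → ℂ) g + (f1 : G → ℂ) g = (r.c : ℂ)
  valZ : ∀ η ∈ Z, ∀ g : G, orderOf g = 11 → (η : G → ℂ) g = 0

variable {G : Type u} [Group G] [Fintype G] [IsSimpleGroup G]

theorem not_comm (hG : Nat.card G = 95040) : ¬ IsMulCommutative G :=
  Small.nc_of_not_prime (by rw [hG]; norm_num)

theorem card_sylow_eleven (hG : Nat.card G = 95040) [Fact (Nat.Prime 11)] (P : Sylow 11 G) :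
    Nat.card (P : Subgroup G) = 11 :=
  (Small.card_sylow_of_card_eq (k := 1) (m := 8640) (by rw [hG]; norm_num) (by norm_num) P).trans
    (pow_one 11)

theorem sgn_eq {X : ℕ} {A : ℤ} (hA : A = 1 ∨ A = -1) (hc : (11 : ℤ) ∣ (X : ℤ) - A) :
    sgn X = A := by
  unfold sgn
  rcases hA with rfl | rfl <;> split_ifs with h <;> omega

/-- The principal block exists. -/
theorem exists_principal (hG : Nat.card G = 95040) [Fact (Nat.Prime 11)]
    (hE : ∀ P : Sylow 11 G, Nat.card (AbelianFrob.CP P) = 11 ∧ Nat.card (AbelianFrob.NP P) = 55) :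
    Nonempty (Principal G) := by
  classical
  have hnc := not_comm hG
  obtain ⟨M, hM⟩ := CfsgLib.Blocks.exists_isPModular (p := 11)
  obtain ⟨P⟩ : Nonempty (Sylow 11 G) := inferInstance
  have hP := card_sylow_eleven hG P
  have hab := Order7920.isMulCommutative_sylow P hP
  have hfrob := Order7920.fpf P hP
  obtain ⟨hC, hN⟩ := hE P
  have hm5 : (AbelianFrob.CP P).relIndex (AbelianFrob.NP P) = 5 := by
    have h := Small.card_centralizer_mul_relIndex ((P : Subgroup G))
    change Nat.card (AbelianFrob.CP P) * (AbelianFrob.CP P).relIndex (AbelianFrob.NP P) =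
      Nat.card (AbelianFrob.NP P) at h
    rw [hC, hN] at h
    omega
  set m := (AbelianFrob.CP P).relIndex (AbelianFrob.NP P) with hm
  have hm' : m + 1 < Nat.card (P : Subgroup G) := by rw [hP, hm5]; norm_num
  obtain ⟨μ, A, d, δ, S⟩ := AbelianFrob.exists_struct P hab hfrob hM hm'
  obtain ⟨hpr, hA1⟩ := S.principal_mem_rest hab hfrob hM hm'
  obtain ⟨ψ₀, hψ₀⟩ : ∃ ψ : AbelianFrob.Dual P, ψ ≠ 1 := by
    obtain ⟨χ, hχ⟩ := Finset.card_pos.1 (lt_of_lt_of_le Nat.two_pos
      (S.two_le_card_exc hab hfrob hm'))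
    obtain ⟨ψ, hψ, -⟩ := S.mem_exc.1 hχ
    exact ⟨ψ, hψ⟩
  have hexc := S.card_exc_mul hab hfrob
  rw [hP, ← hm, hm5] at hexc
  have ht : S.exc.card = 2 := by omega
  set D := charDegree (μ ψ₀ : G → ℂ) with hD
  have h11 : ¬ 11 ∣ orderOf (1 : G) := by rw [orderOf_one]; norm_num
  have hdegE : ∀ χ ∈ S.exc, charDegree (χ : G → ℂ) = D := by
    intro χ hχ
    obtain ⟨ψ, hψ, rfl⟩ := S.mem_exc.1 hχ
    have := S.regular_eq hM hψ hψ₀ h11
    rw [irr_one_eq_charDegree, irr_one_eq_charDegree] at this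
    exact_mod_cast this
  set R := S.rest.erase (principalIrr G) with hR
  have hRne : ∀ χ ∈ R, χ ≠ principalIrr G := fun χ h => (Finset.mem_erase.1 h).1
  have hRB : ∀ χ ∈ R, χ ∈ principalBlock M G := fun χ h =>
    (S.mem_rest.1 (Finset.mem_erase.1 h).2).1
  have hRr : ∀ χ ∈ R, χ ∈ S.rest := fun χ h => (Finset.mem_erase.1 h).2
  have hexmem : μ ψ₀ ∈ S.exc := S.mem_exc.2 ⟨ψ₀, hψ₀, rfl⟩
  have hprne : μ ψ₀ ≠ principalIrr G := fun h => (S.mem_rest.1 hpr).2 (h ▸ hexmem)
  have hA0 : ∀ χ ∈ R, A χ ≠ 0 := fun χ h => S.A_ne_zero hab hfrob hM (by rw [hP]; norm_num) (hRr χ h)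
  have hval : ∀ χ ∈ R, ∀ y : (P : Subgroup G), (y : G) ≠ 1 → (χ : G → ℂ) y = (A χ : ℂ) :=
    fun χ hχ y hy => S.value_rest hab hfrob hM (hRr χ hχ) (AbelianFrob.isPPart_self P hM.1 y.2) y.2 hy
  have hAX : ∀ χ ∈ R, (charDegree (χ : G → ℂ) : ℤ) ≠ A χ := by
    intro χ hχ h
    obtain ⟨y, hy⟩ := exists_prime_orderOf_dvd_card' (G := (P : Subgroup G)) 11 hP.symm.dvd
    have hy1 : (y : G) ≠ 1 := fun e => by
      rw [← Subgroup.orderOf_coe, e, orderOf_one] at hy; omega
    refine hy1 (Order7920.eq_one_of_apply_eq_one (hRne χ hχ) ?_)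
    rw [hval χ hχ y hy1, irr_one_eq_charDegree, ← h, Int.cast_natCast]
  have hcong : ∀ χ ∈ R, (11 : ℤ) ∣ (charDegree (χ : G → ℂ) : ℤ) - A χ := by
    intro χ hχ
    obtain ⟨b, k, -, -, hk, -, hX, -, -⟩ := Order7920.bcoef_sum_formulas P hP hM S (hRB χ hχ)
    exact ⟨b - A χ, by rw [hX, hk (hRr χ hχ)]; push_cast; ring⟩
  have hcongD : (11 : ℤ) ∣ (D : ℤ) - d - 5 * δ := by
    obtain ⟨b, k, -, -, -, hk, hX, -, -⟩ := Order7920.bcoef_sum_formulas P hP hM S (S.mem ψ₀ hψ₀)
    obtain ⟨h1, h2⟩ := hk hexmem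
    exact ⟨b - d, by rw [← hD] at hX; rw [hX, h1, h2, ← hm, hm5]; push_cast; ring⟩
  have hXlt : ∀ χ : IrrCharacter G, charDegree (χ : G → ℂ) < 309 := fun χ =>
    Order7920.charDegree_lt (by rw [hG]; norm_num)
  have hdvd : ∀ χ : IrrCharacter G, charDegree (χ : G → ℂ) ∣ 95040 := fun χ =>
    hG ▸ charDegree_irr_dvd_card χ
  have hX1 : ∀ χ : IrrCharacter G, χ ≠ principalIrr G → 1 < charDegree (χ : G → ℂ) := by
    intro χ hχ
    have h1 : charDegree (χ : G → ℂ) ≠ 1 := fun h =>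
      hχ (Order7920.eq_principal_of_charDegree_one hnc h)
    have h2 : charDegree (χ : G → ℂ) ≠ 0 := fun h => by
      have := hdvd χ
      rw [h] at this
      norm_num at this
    omega
  have hnorm := S.norm_eq hab hfrob hM hψ₀
  rw [← Finset.add_sum_erase _ _ hpr, hA1, ← hm, ← hR, hm5, ht] at hnorm
  push_cast at hnorm
  have hrel : ((S.exc.card : ℤ) * d - δ) * D + (1 + ∑ χ ∈ R, A χ * charDegree (χ : G → ℂ)) = 0 := by
    have h := S.regular_rel hM hψ₀ h11
    rw [← Finset.add_sum_erase _ _ hpr, hA1, irr_one_eq_charDegree, ← hR] at h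
    rw [Finset.sum_congr rfl fun χ _ => by rw [irr_one_eq_charDegree χ]] at h
    simp only [principalIrr, Int.cast_one, one_mul] at h
    exact_mod_cast h
  rw [ht] at hrel
  push_cast at hrel
  have hsq : 1 + ∑ χ ∈ R, charDegree (χ : G → ℂ) ^ 2 + 2 * D ^ 2 ≤ 95040 := by
    have hsub : ∑ χ ∈ Finset.univ.filter (· ∈ principalBlock M G), charDegree (χ : G → ℂ) ^ 2 ≤
        ∑ χ : IrrCharacter G, charDegree (χ : G → ℂ) ^ 2 :=
      Finset.sum_le_sum_of_subset (Finset.subset_univ _)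
    rw [Chars17.natSum_sq_degrees, hG, S.sum_split, ← Finset.add_sum_erase _ _ hpr,
      Finset.sum_congr rfl ((fun χ hχ => by rw [hdegE χ hχ]) :
        ∀ χ ∈ S.exc, charDegree (χ : G → ℂ) ^ 2 = D ^ 2),
      Finset.sum_const, smul_eq_mul, ht] at hsub
    refine le_trans (le_of_eq ?_) hsub
    congr 2
    simp [principalIrr, charDegree]
  have hA2 : ∀ χ ∈ R, 1 ≤ A χ ^ 2 := fun χ h => by
    have := sq_pos_of_ne_zero (hA0 χ h)
    omega
  have hdd : d * (d - δ) = 0 := by
    by_contra h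
    have hd2 : (5 : ℤ) ≤ (d - δ) ^ 2 + d ^ 2 := by
      rcases S.sign with rfl | rfl
      · have : d ≠ 0 ∧ d ≠ 1 := ⟨fun e => h (by rw [e]; ring), fun e => h (by rw [e]; ring)⟩
        rcases (show d ≤ -1 ∨ 2 ≤ d by omega) with h' | h' <;> nlinarith
      · have : d ≠ 0 ∧ d ≠ -1 := ⟨fun e => h (by rw [e]; ring), fun e => h (by rw [e]; ring)⟩
        rcases (show d ≤ -2 ∨ 1 ≤ d by omega) with h' | h' <;> nlinarith
    have hR0 : R = ∅ := by
      rw [← Finset.card_eq_zero]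
      have hle : (R.card : ℤ) ≤ ∑ χ ∈ R, A χ ^ 2 := by
        rw [Finset.card_eq_sum_ones, Nat.cast_sum]
        exact Finset.sum_le_sum fun χ h => by simpa using hA2 χ h
      omega
    rw [hR0, Finset.sum_empty] at hrel
    have hD1 : D = 1 := by
      have : (D : ℤ) ∣ 1 := ⟨-(2 * d - δ), by linarith⟩
      exact Nat.eq_one_of_dvd_one (Int.natCast_dvd_natCast.1 (by exact_mod_cast this))
    exact absurd hD1 (hX1 _ hprne).ne'
  have hδ2 := S.delta_sq
  have hsum4 : ∑ χ ∈ R, A χ ^ 2 = 4 := by linear_combination hnorm - 2 * hdd - hδ2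
  set c := 2 * d - δ with hc
  have hc1 : c = 1 ∨ c = -1 := by
    rcases mul_eq_zero.1 hdd with h | h
    · rcases S.sign with rfl | rfl <;> omega
    · rw [sub_eq_zero] at h
      rcases S.sign with rfl | rfl <;> omega
  have hcD : (11 : ℤ) ∣ (D : ℤ) + 5 * c := by
    obtain ⟨k, hk⟩ := hcongD
    exact ⟨k + d, by rw [hc]; linear_combination hk⟩
  have hpm : ∀ χ ∈ R, A χ = 1 ∨ A χ = -1 := by
    by_contra! hall
    obtain ⟨χ, hχ, h1, h2⟩ := hall
    have h4 : 4 ≤ A χ ^ 2 := by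
      rcases (show A χ ≤ -2 ∨ 2 ≤ A χ by have := hA0 χ hχ; omega) with h' | h' <;> nlinarith
    have hzero : ∑ η ∈ R.erase χ, A η ^ 2 = 0 ∧ A χ ^ 2 = 4 := by
      have := Finset.add_sum_erase R (fun η => A η ^ 2) hχ
      rw [hsum4] at this
      have h0 : 0 ≤ ∑ η ∈ R.erase χ, A η ^ 2 := Finset.sum_nonneg fun η _ => sq_nonneg _
      constructor <;> omega
    have hsingle : R = {χ} := by
      refine Finset.eq_singleton_iff_unique_mem.2 ⟨hχ, fun η hη => ?_⟩
      by_contra hne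
      have := (Finset.sum_eq_zero_iff_of_nonneg fun η _ => sq_nonneg (A η)).1 hzero.1 η
        (Finset.mem_erase.2 ⟨hne, hη⟩)
      have := hA2 η hη
      omega
    rw [hsingle, Finset.sum_singleton] at hrel hsq
    have hA' := sq_eq_sq_iff_eq_or_eq_neg.1 (hzero.2.trans (by norm_num : (4 : ℤ) = 2 ^ 2))
    have hne := hAX χ hχ
    have hcg := hcong χ hχ
    have hd2 := hXlt χ
    have hX1' := hX1 χ (hRne χ hχ)
    set X := charDegree (χ : G → ℂ) with hXdef
    have hXm : X % 11 = 2 ∨ X % 11 = 9 := by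
      rcases hA' with h | h <;> rw [h] at hcg <;> omega
    have hD219 : D < 219 := by
      have : D ^ 2 < 219 ^ 2 := by omega
      exact lt_of_pow_lt_pow_left₀ 2 (Nat.zero_le _) this
    have hDm : D % 11 = 5 ∨ D % 11 = 6 := by
      rcases hc1 with h | h <;> rw [h] at hcD <;> omega
    refine no_two X (mem_degTwo X hd2 (hdvd χ) hXm) D (by omega) ?_ (hdvd _) hDm ?_
    · rcases hc1 with h | h <;> rw [h] at hrel <;> rcases hA' with h' | h' <;> rw [h'] at hrel <;>
        simp only [one_mul, neg_mul] at hrel <;> omega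
    · rcases hA' with h' | h' <;> rw [h'] at hne hcg <;> omega
  have hcard : R.card = 4 := by
    have h : ∑ χ ∈ R, A χ ^ 2 = ∑ χ ∈ R, (1 : ℤ) :=
      Finset.sum_congr rfl fun χ hχ => sq_eq_one_iff.2 (hpm χ hχ)
    rw [hsum4, Finset.sum_const, nsmul_eq_mul, mul_one] at h
    omega
  have hsgn : ∀ χ ∈ R, sgn (charDegree (χ : G → ℂ)) = A χ := fun χ hχ =>
    sgn_eq (hpm χ hχ) (hcong χ hχ)
  -- sort by degree
  let e₀ : Fin 4 ≃ R := (Fintype.equivFinOfCardEq (by rw [Fintype.card_coe, hcard])).symm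
  let σ := Tuple.sort fun i => charDegree ((e₀ i : IrrCharacter G) : G → ℂ)
  let e : Fin 4 ≃ R := σ.trans e₀
  have hmono : ∀ i j : Fin 4, i ≤ j →
      charDegree ((e i : IrrCharacter G) : G → ℂ) ≤ charDegree ((e j : IrrCharacter G) : G → ℂ) :=
    fun i j h => Tuple.monotone_sort (fun i => charDegree ((e₀ i : IrrCharacter G) : G → ℂ)) h
  have hsumR : ∀ {β : Type} [AddCommMonoid β] (F : IrrCharacter G → β),
      ∑ i, F (e i) = ∑ χ ∈ R, F χ := by
    intro β _ F
    rw [Equiv.sum_comp e fun x : R => F x, Finset.sum_coe_sort R F]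
  obtain ⟨E0, E1, hne01, hexceq⟩ := Finset.card_eq_two.1 ht
  have hE0 : E0 ∈ S.exc := by rw [hexceq]; simp
  have hE1 : E1 ∈ S.exc := by rw [hexceq]; simp
  let r : Row := ⟨charDegree ((e 0 : IrrCharacter G) : G → ℂ), charDegree ((e 1 : IrrCharacter G) : G → ℂ),
    charDegree ((e 2 : IrrCharacter G) : G → ℂ), charDegree ((e 3 : IrrCharacter G) : G → ℂ), D, c⟩
  have hds : ∀ i, (charDegree ((e i : IrrCharacter G) : G → ℂ) : ℤ) = r.ds i := by
    intro i; fin_cases i <;> rfl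
  have hdegOne : ∀ i, r.ds i ∈ degOne := by
    intro i
    rw [← hds]
    refine mem_degOne _ (hXlt _) (hdvd _) ?_ (hX1 _ (hRne _ (e i).2))
    have := hcong _ (e i).2
    rcases hpm _ (e i).2 with h | h <;> rw [h] at this <;> omega
  have hRZ : ∑ χ ∈ R, A χ * (charDegree (χ : G → ℂ) : ℤ) = ∑ i, sgn (r.ds i) * r.ds i := by
    rw [← hsumR fun χ : IrrCharacter G => A χ * (charDegree (χ : G → ℂ) : ℤ)]
    refine Finset.sum_congr rfl fun i _ => ?_
    rw [← hds, hsgn _ (e i).2]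
  have hrow : r ∈ rows := by
    refine mem_rows ?_ (hdegOne 0) (hdegOne 1) (hdegOne 2) (hdegOne 3)
    simp only [Row.degOK, Bool.and_eq_true, Bool.or_eq_true, beq_iff_eq, decide_eq_true_eq]
    refine ⟨⟨⟨⟨⟨⟨⟨⟨?_, ?_⟩, ?_⟩, ?_⟩, ?_⟩, ?_⟩, ?_⟩, ?_⟩, ?_⟩
    · exact Int.ofNat_le.2 (hmono 0 1 (by decide))
    · exact Int.ofNat_le.2 (hmono 1 2 (by decide))
    · exact Int.ofNat_le.2 (hmono 2 3 (by decide))
    · exact hc1
    · show (1 : ℤ) < (D : ℤ)
      exact_mod_cast hX1 _ hprne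
    · show (95040 : ℤ) % (D : ℤ) = 0
      exact Int.emod_eq_zero_of_dvd (by exact_mod_cast hdvd (μ ψ₀))
    · exact Int.emod_eq_zero_of_dvd hcD
    · rw [hRZ, Fin.sum_univ_four] at hrel
      simp only [Row.lin, r, Row.ds, Matrix.cons_val] at hrel ⊢
      linarith
    · have h := hsq
      rw [← hsumR fun χ : IrrCharacter G => charDegree (χ : G → ℂ) ^ 2, Fin.sum_univ_four] at h
      simp only [Row.sq, r]
      zify at h
      linarith
  -- outside the block
  set Z := Finset.univ.filter (fun χ : IrrCharacter G => χ ∉ principalBlock M G) with hZ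
  let W : IrrCharacter G → ℤ := fun χ =>
    11 * (∑ ψ : AbelianFrob.Dual P, AbelianFrob.bcoef P χ ψ ^ 2) - (charDegree (χ : G → ℂ) : ℤ) ^ 2
  have hW : ∀ χ : IrrCharacter G, ((W χ : ℤ) : ℂ) =
      ∑ y ∈ Finset.univ.erase (1 : (P : Subgroup G)), (χ : G → ℂ) y * conj ((χ : G → ℂ) y) := by
    intro χ
    have h := Order7920.sum_norm_sylow P hab χ
    rw [← Finset.add_sum_erase _ _ (Finset.mem_univ (1 : (P : Subgroup G))), OneMemClass.coe_one,
      irr_one_eq_charDegree, Complex.conj_natCast, hP] at h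
    simp only [W]
    push_cast at h ⊢
    linear_combination -h
  have hWnn : ∀ χ : IrrCharacter G, ((W χ : ℤ) : ℝ) =
      ∑ y ∈ Finset.univ.erase (1 : (P : Subgroup G)), Complex.normSq ((χ : G → ℂ) y) := by
    intro χ
    have h := hW χ
    simp only [Complex.mul_conj] at h
    exact_mod_cast h
  have hWtot : ∑ χ : IrrCharacter G, W χ = 110 := by
    have h : ((∑ χ : IrrCharacter G, W χ : ℤ) : ℂ) = ((110 : ℤ) : ℂ) := by
      push_cast
      rw [Finset.sum_congr rfl (fun χ _ => hW χ), Finset.sum_comm,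
        Finset.sum_congr rfl (fun y hy => show _ = (11 : ℂ) by
          rw [column_orth, if_pos (IsConj.refl _), Order7920.centralizer_singleton_eq P hP y.2
            (fun e => (Finset.mem_erase.1 hy).1 (Subtype.ext e)), hC]
          norm_num), Finset.sum_const, Finset.card_erase_of_mem (Finset.mem_univ _), Finset.card_univ,
        ← Nat.card_eq_fintype_card, hP]
      norm_num
    exact_mod_cast h
  have hWB : ∑ χ ∈ Finset.univ.filter (· ∈ principalBlock M G), W χ = 110 := by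
    have hr : ∀ χ ∈ S.rest, W χ = 10 * A χ ^ 2 := by
      intro χ hχ
      obtain ⟨b, k, -, -, hk, -, hX, -, hsq'⟩ :=
        Order7920.bcoef_sum_formulas P hP hM S (S.mem_rest.1 hχ).1
      simp only [W]
      rw [hsq', hX, hk hχ]
      push_cast
      ring
    have he : ∀ χ ∈ S.exc, W χ = 30 := by
      intro χ hχ
      obtain ⟨φ, hφ, rfl⟩ := S.mem_exc.1 hχ
      obtain ⟨b, k, -, -, -, hk, hX, -, hsq'⟩ := Order7920.bcoef_sum_formulas P hP hM S (S.mem φ hφ)
      obtain ⟨h1, h2⟩ := hk hχ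
      simp only [W]
      rw [hsq', hX, h1, h2, ← hm, hm5]
      push_cast
      linear_combination 10 * hdd - 25 * hδ2
    rw [S.sum_split, Finset.sum_congr rfl hr, Finset.sum_congr rfl he, Finset.sum_const, ht,
      ← Finset.add_sum_erase _ _ hpr, hA1, ← Finset.mul_sum, ← hR, hsum4]
    norm_num
  have hZvan : ∀ χ ∈ Z, ∀ y : (P : Subgroup G), y ≠ 1 → (χ : G → ℂ) y = 0 := by
    intro χ hχ y hy
    have h0 : ∑ η ∈ Z, W η = 0 := by
      have h := Finset.sum_filter_add_sum_filter_not (Finset.univ : Finset (IrrCharacter G))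
        (· ∈ principalBlock M G) W
      rw [hWB, hWtot] at h
      rw [hZ]
      omega
    have hnn : ∀ η : IrrCharacter G, 0 ≤ W η := fun η => by
      have : (0 : ℝ) ≤ (W η : ℝ) := by
        rw [hWnn]; exact Finset.sum_nonneg fun _ _ => Complex.normSq_nonneg _
      exact_mod_cast this
    have h1 := (Finset.sum_eq_zero_iff_of_nonneg fun η _ => hnn η).1 h0 χ hχ
    have h2 := hWnn χ
    rw [h1, Int.cast_zero] at h2
    exact Complex.normSq_eq_zero.1 ((Finset.sum_eq_zero_iff_of_nonneg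
      fun _ _ => Complex.normSq_nonneg _).1 h2.symm y (Finset.mem_erase.2 ⟨hy, Finset.mem_univ _⟩))
  have hsplit : ∀ F : IrrCharacter G → ℂ, ∑ η, F η =
      F (principalIrr G) + ∑ i, F (e i) + (F E0 + F E1) + ∑ η ∈ Z, F η := by
    intro F
    rw [← Finset.sum_filter_add_sum_filter_not (Finset.univ : Finset (IrrCharacter G))
      (· ∈ principalBlock M G) F, S.sum_split, ← Finset.add_sum_erase _ _ hpr, hexceq,
      Finset.sum_pair hne01, hsumR]
  -- elements of order eleven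
  have hconj : ∀ g : G, orderOf g = 11 → ∃ y : (P : Subgroup G), (y : G) ≠ 1 ∧
      ∀ η : IrrCharacter G, (η : G → ℂ) g = (η : G → ℂ) y := by
    intro g hg
    have hpg : IsPGroup 11 (Subgroup.zpowers g) :=
      IsPGroup.of_card (n := 1) (by rw [Nat.card_zpowers, hg, pow_one])
    obtain ⟨Q, hQ⟩ := hpg.exists_le_sylow
    obtain ⟨t, rfl⟩ := MulAction.exists_smul_eq G P Q
    have hgm : g ∈ ((t • P : Sylow 11 G) : Subgroup G) := hQ (Subgroup.mem_zpowers g)
    rw [Sylow.coe_subgroup_smul] at hgm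
    obtain ⟨y, hy, rfl⟩ := hgm
    refine ⟨⟨y, hy⟩, fun h => ?_, fun η => irr_isClassFunction η y t⟩
    simp only at h
    rw [h] at hg
    simp at hg
  have hvalA : ∀ i, ∀ y : (P : Subgroup G), (y : G) ≠ 1 →
      ((e i : IrrCharacter G) : G → ℂ) y = (sgn (r.ds i) : ℂ) := by
    intro i y hy
    rw [hval _ (e i).2 y hy, ← hds, hsgn _ (e i).2]
  refine ⟨{
    χ := fun i => e i, f0 := E0, f1 := E1, Z := Z, r := r, mem := hrow, deg := hds
    degX := ⟨congrArg Nat.cast (hdegE E0 hE0), congrArg Nat.cast (hdegE E1 hE1)⟩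
    degZ := ?_, split := hsplit, rel := ?_, eqX := ?_, singular := ?_
    valE := ?_, valX := ?_, valZ := ?_ }⟩
  · intro χ hχ
    have h := AbelianFrob.bcoef_eq P χ 1
    rw [← Finset.add_sum_erase _ _ (Finset.mem_univ (1 : (P : Subgroup G))),
      Finset.sum_eq_zero (fun y hy => by rw [hZvan χ hχ y (Finset.mem_erase.1 hy).1, zero_mul]),
      add_zero, OneMemClass.coe_one, hP, irr_one_eq_charDegree] at h
    simp only [inv_one, map_one, Units.val_one, mul_one] at h
    have h' : ((charDegree (χ : G → ℂ) : ℤ) : ℂ) = ((11 * AbelianFrob.bcoef P χ 1 : ℤ) : ℂ) := by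
      push_cast
      rw [h]
      push_cast
      ring
    exact Int.natCast_dvd_natCast.1 ⟨_, Int.cast_inj.1 h'⟩
  · intro g hg
    obtain ⟨ψ, hψ, rfl⟩ := S.mem_exc.1 hE0
    have h := S.regular_rel hM hψ hg
    rw [← Finset.add_sum_erase _ _ hpr, hA1, ht, ← hR,
      ← hsumR fun χ : IrrCharacter G => (A χ : ℂ) * (χ : G → ℂ) g,
      Finset.sum_congr rfl (fun i _ => by rw [← hsgn _ (e i).2, hds] :
        ∀ i ∈ (Finset.univ : Finset (Fin 4)), (A (e i : IrrCharacter G) : ℂ) *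
          ((e i : IrrCharacter G) : G → ℂ) g =
          (sgn (r.ds i) : ℂ) * ((e i : IrrCharacter G) : G → ℂ) g)] at h
    simp only [principalIrr, Int.cast_one, one_mul, Nat.cast_ofNat] at h
    simp only [r, hc, Int.cast_sub, Int.cast_mul, Int.cast_ofNat]
    linear_combination h
  · intro g hg
    obtain ⟨ψ, hψ, h0⟩ := S.mem_exc.1 hE0
    obtain ⟨φ, hφ, h1⟩ := S.mem_exc.1 hE1
    rw [← h0, ← h1]
    exact S.regular_eq hM hφ hψ hg
  · intro g hg
    set y := g ^ (orderOf g / 11) with hy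
    have hy11 : orderOf y = 11 := by
      rw [hy, orderOf_pow_orderOf_div (orderOf_pos g).ne' hg]
    obtain ⟨Q, hQ, -⟩ := Small.exists_unique_sylow_mem hy11 fun P => card_sylow_eleven hG P
    have hmem : g ∈ Subgroup.centralizer ({y} : Set G) :=
      Subgroup.mem_centralizer_singleton_iff.2 ((Commute.refl g).pow_right _).eq
    rw [Order7920.centralizer_singleton_eq Q (card_sylow_eleven hG Q) hQ
      (fun h => by rw [h, orderOf_one] at hy11; omega)] at hmem
    have h := Subgroup.orderOf_dvd_natCard _ hmem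
    rw [(hE Q).1] at h
    exact Nat.dvd_antisymm h hg
  · intro g hg i
    obtain ⟨y, hy1, hy⟩ := hconj g hg
    rw [hy, hvalA i y hy1]
  · intro g hg
    obtain ⟨y, hy1, hy⟩ := hconj g hg
    rw [hy, hy]
    have horth := column_orth (y : G) (1 : G)
    rw [if_neg fun hc => hy1 (isConj_one_left.1 hc), hsplit,
      Finset.sum_eq_zero (fun η hη => by
        rw [hZvan η hη y (fun h => hy1 (congrArg Subtype.val h)), zero_mul] :
        ∀ η ∈ Z, (η : G → ℂ) (y : G) * conj ((η : G → ℂ) 1) = 0)] at horth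
    rw [Finset.sum_congr rfl (fun i _ => by
      rw [hvalA i y hy1, irr_one_eq_charDegree, Complex.conj_natCast, ← Int.cast_natCast (R := ℂ), hds] :
      ∀ i ∈ (Finset.univ : Finset (Fin 4)), ((e i : IrrCharacter G) : G → ℂ) (y : G) *
        conj (((e i : IrrCharacter G) : G → ℂ) 1) = (sgn (r.ds i) : ℂ) * (r.ds i : ℂ))] at horth
    simp only [irr_one_eq_charDegree, Complex.conj_natCast, hdegE E0 hE0, hdegE E1 hE1] at horth
    have hrel' : (c : ℂ) * D + (1 + ∑ i, (sgn (r.ds i) : ℂ) * (r.ds i : ℂ)) = 0 := by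
      rw [hRZ] at hrel
      have h := congrArg (Int.cast (R := ℂ)) hrel
      push_cast at h
      exact h
    have hpr1 : ((principalIrr G : IrrCharacter G) : G → ℂ) (y : G) *
        conj (charDegree ((principalIrr G : IrrCharacter G) : G → ℂ) : ℂ) = 1 := by
      simp [principalIrr, charDegree]
    simp only [Complex.conj_natCast] at hpr1
    rw [hpr1] at horth
    have hD0 : (D : ℂ) ≠ 0 := Nat.cast_ne_zero.2 (Nat.zero_lt_of_lt (hX1 _ hprne)).ne'
    refine mul_left_cancel₀ hD0 ?_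
    show (D : ℂ) * _ = (D : ℂ) * (c : ℂ)
    linear_combination horth - hrel'
  · intro η hη g hg
    obtain ⟨y, hy1, hy⟩ := hconj g hg
    rw [hy]
    exact hZvan η hη y fun h => hy1 (congrArg Subtype.val h)

end CfsgLib.MathieuTwelve
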