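import Cfsg.Agent.Lib.MathieuTwelve.ElevenBlock
import Mathlib.GroupTheory.Perm.Centralizer

/-!
# The 11-local structure of a simple group of order 95040
-/

set_option autoImplicit false
set_option linter.style.haveILetI false
set_option linter.unusedSectionVars false
open Cfsg CfsgLib.Order7920

namespace CfsgLib.MathieuTwelve

universe u

variable {G : Type u} [Group G] [Fintype G]

/-- The centraliser of an element of order `p` in a simple group with a subgroup of index `p + 1`. -/
theorem card_centralizer_le_of_index [IsSimpleGroup G] {p : ℕ} [hp : Fact p.Prime] {y : G}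
    (hy : orderOf y = p) {H : Subgroup G} (hH : H.index = p + 1) :
    Nat.card (Subgroup.centralizer ({y} : Set G)) ≤ p := by
  classical
  have hne : H ≠ ⊤ := fun h => by
    rw [h, Subgroup.index_top] at hH
    have := hp.out.two_le
    omega
  set f := MulAction.toPermHom G (G ⧸ H)
  have hf : Function.Injective f := Small.toPermHom_injective hne
  set σ := f y with hσ
  have hord : orderOf σ = p := by rw [hσ, orderOf_injective f hf, hy]
  have hcardQ : Fintype.card (G ⧸ H) = p + 1 := by
    rw [← Nat.card_eq_fintype_card, ← Subgroup.index_eq_card, hH]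
  obtain ⟨n, hn⟩ := Equiv.Perm.cycleType_prime_order (σ := σ) (by rw [hord]; exact hp.out)
  rw [hord] at hn
  have hle := Equiv.Perm.sum_cycleType_le σ
  rw [hn, Multiset.sum_replicate, smul_eq_mul, hcardQ] at hle
  obtain rfl : n = 0 := by
    by_contra h
    have h1 : 2 * p ≤ (n + 1) * p := Nat.mul_le_mul_right p (by omega)
    have := hp.out.two_le
    omega
  have hc := Equiv.Perm.nat_card_centralizer σ
  rw [hn, hcardQ] at hc
  simp only [zero_add, Multiset.replicate_one, Multiset.sum_singleton, Multiset.prod_singleton,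
    Multiset.toFinset_singleton, Finset.prod_singleton, Multiset.count_singleton_self,
    Nat.add_sub_cancel_left, Nat.factorial_one, one_mul, mul_one] at hc
  refine le_of_le_of_eq ?_ hc
  refine Nat.card_le_card_of_injective (fun c => ⟨f c, ?_⟩) fun a b h => ?_
  · rw [Subgroup.mem_centralizer_singleton_iff, hσ, ← map_mul, ← map_mul,
      Subgroup.mem_centralizer_singleton_iff.1 c.2]
  · exact Subtype.ext (hf (congrArg Subtype.val h))

theorem exponent_cases : ∀ (i : Fin 7) (j : Fin 4) (k : Fin 2) (l : Fin 2),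
    1 < (2 ^ (i : ℕ) * 3 ^ (j : ℕ) * 5 ^ (k : ℕ) * 11 ^ (l : ℕ)) → (2 ^ (i : ℕ) * 3 ^ (j : ℕ) * 5 ^ (k : ℕ) * 11 ^ (l : ℕ)) % 11 = 1 →
      (2 ^ (i : ℕ) * 3 ^ (j : ℕ) * 5 ^ (k : ℕ) * 11 ^ (l : ℕ)) ∈ [12, 45, 144, 320, 540, 1728] := by
  decide +kernel

theorem mul_cases {n : ℕ} (h1 : 1 < n) (h2 : n % 11 = 1) (h3 : n ∣ 8640) :
    n = 12 ∨ n = 45 ∨ n = 144 ∨ n = 320 ∨ n = 540 ∨ n = 1728 := by
  obtain ⟨i, hi, j, hj, k, hk, l, hl, rfl⟩ :=
    exponents_of_dvd (h3.trans (by norm_num : 8640 ∣ 95040))
  simpa using exponent_cases ⟨i, hi⟩ ⟨j, hj⟩ ⟨k, hk⟩ ⟨l, hl⟩ h1 h2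

theorem index_cases : ∀ n : ℕ, n < 145 → 1 < n → n % 11 = 1 → n ∣ 144 → n = 12 ∨ n = 144 := by
  decide +kernel

variable [IsSimpleGroup G] (hcard : Nat.card G = 95040) [Fact (Nat.Prime 11)] (P : Sylow 11 G)

include hcard in
theorem no_index_twelve {H : Subgroup G} (hH : H.index = 12) :
    Nat.card (AbelianFrob.CP P) ≤ 11 := by
  have hP := card_sylow_of_card hcard P
  obtain ⟨y, hy⟩ := exists_prime_orderOf_dvd_card' (G := (P : Subgroup G)) 11 hP.symm.dvd
  rw [← Subgroup.orderOf_coe] at hy
  rw [← centralizer_singleton_eq P hP y.2 fun h => by rw [h, orderOf_one] at hy; omega]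
  exact card_centralizer_le_of_index hy (by rw [hH])

include hcard in
/-- The case where `C(P)` has order 66 and `N(P)/C(P)` order 10. -/
theorem not_ten (hC : Nat.card (AbelianFrob.CP P) = 66)
    (hN : Nat.card (AbelianFrob.NP P) = 660) : False := by
  classical
  have hnc := not_comm_of_card hcard
  have hP := card_sylow_of_card hcard P
  have hab := isMulCommutative_sylow P hP
  haveI : Fact (Nat.Prime 3) := ⟨by norm_num⟩
  set C := AbelianFrob.CP P with hCdef
  obtain ⟨Q⟩ : Nonempty (Sylow 3 C) := inferInstance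
  have hQ : Nat.card (Q : Subgroup C) = 3 :=
    (Small.card_sylow_of_card_eq (k := 1) (m := 22) (by rw [hC]; norm_num) (by norm_num) Q).trans
      (pow_one 3)
  have hsub : Subsingleton (Sylow 3 C) := by
    have hmul := Small.card_normalizer_mul_card_sylow Q
    have h3 : 3 ∣ Nat.card (Subgroup.normalizer ((Q : Subgroup C) : Set C)) :=
      hQ.symm.dvd.trans (Subgroup.card_dvd_of_le Subgroup.le_normalizer)
    have hPc : (P : Subgroup G).subgroupOf C ≤
        Subgroup.normalizer ((Q : Subgroup C) : Set C) := by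
      intro z hz
      refine Small.centralizer_le_normalizer' _ (Subgroup.mem_centralizer_iff.2 fun w _ => ?_)
      exact Subtype.ext (Subgroup.mem_centralizer_iff.1 w.2 (z : G) hz).symm
    have h11 : 11 ∣ Nat.card (Subgroup.normalizer ((Q : Subgroup C) : Set C)) := by
      have := Subgroup.card_dvd_of_le hPc
      rwa [Nat.card_congr (Subgroup.subgroupOfEquivOfLe (AbelianFrob.le_CP P hab)).toEquiv, hP]
        at this
    obtain ⟨k, hk⟩ := Nat.Coprime.mul_dvd_of_dvd_of_dvd (by norm_num : Nat.Coprime 3 11) h3 h11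
    have hmod := card_sylow_modEq_one 3 C
    rw [hk, hC] at hmul
    have h2 : Nat.card (Sylow 3 C) ∣ 2 := by
      refine ⟨k, Nat.eq_of_mul_eq_mul_left (show 0 < 33 by norm_num) ?_⟩
      linarith
    have h1 : Nat.card (Sylow 3 C) = 1 := by
      rcases (Nat.dvd_prime Nat.prime_two).1 h2 with h | h
      · exact h
      · rw [h] at hmod; exact absurd hmod (by decide)
    exact (Nat.card_eq_one_iff_unique.1 h1).1
  set X : Subgroup G := (Q : Subgroup C).map C.subtype with hXdef
  have hX : Nat.card X = 3 := by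
    rw [hXdef, Subgroup.card_map_of_injective C.subtype_injective, hQ]
  have hNX : AbelianFrob.NP P ≤ Subgroup.normalizer (X : Set G) := by
    intro n hn
    haveI : Finite (X : Set G) := Set.toFinite _
    refine Subgroup.mem_normalizer_fintype ?_
    rintro z ⟨q, hq, rfl⟩
    have hmemC : n * (q : G) * n⁻¹ ∈ C := by
      refine Subgroup.mem_centralizer_iff.2 fun w hw => ?_
      have h1 : n⁻¹ * w * n ∈ (P : Subgroup G) := (Subgroup.mem_normalizer_iff''.1 hn w).1 hw
      have h2 := Subgroup.mem_centralizer_iff.1 q.2 _ h1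
      calc w * (n * (q : G) * n⁻¹) = n * (n⁻¹ * w * n * (q : G)) * n⁻¹ := by group
        _ = n * (q : G) * n⁻¹ * w := by rw [h2]; group
    refine ⟨⟨_, hmemC⟩, ?_, rfl⟩
    have hpg : IsPGroup 3 (Subgroup.zpowers (⟨_, hmemC⟩ : C)) := by
      obtain ⟨k, hk⟩ := IsPGroup.iff_orderOf.1 Q.2 ⟨q, hq⟩
      refine IsPGroup.of_card (n := k) ?_
      rw [Nat.card_zpowers, ← Subgroup.orderOf_coe]
      rw [← Subgroup.orderOf_coe, ← Subgroup.orderOf_coe] at hk
      rw [← hk]
      exact MulEquiv.orderOf_eq (MulAut.conj n) _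
    obtain ⟨Q', hQ'⟩ := hpg.exists_le_sylow
    obtain rfl := Subsingleton.elim Q' Q
    exact hQ' (Subgroup.mem_zpowers _)
  set M := Subgroup.normalizer (X : Set G) with hM
  have hMtop : M ≠ ⊤ := Small.normalizer_ne_top
    (fun h => by rw [h, Subgroup.card_bot] at hX; omega)
    (fun h => by rw [h, Subgroup.card_top, hcard] at hX; omega)
  have h9 : 3 ^ 2 ∣ Nat.card M :=
    Sylow.prime_pow_dvd_card_normalizer (n := 1) (by rw [hcard]; norm_num) (by rw [hX]; norm_num)
  set n' := (AbelianFrob.NP P).relIndex M with hn'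
  have hMcard : Nat.card M = 660 * n' := by
    rw [hn', ← Subgroup.relIndex_bot_left, ← Subgroup.relIndex_mul_relIndex ⊥ _ _ bot_le hNX,
      Subgroup.relIndex_bot_left, hN]
  have hPM : (P : Subgroup G) ≤ M := Subgroup.le_normalizer.trans hNX
  have hmod : n' % 11 = 1 := by
    have h := card_sylow_modEq_one 11 M
    rw [(P.subtype hPM).card_eq_index_normalizer, ← (P.subtype hPM).coe_coe, Sylow.coe_subtype,
      ← Subgroup.subgroupOf_normalizer_eq hPM] at h
    exact h
  have hne1 : n' ≠ 1 := fun h => by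
    rw [hMcard, h] at h9
    omega
  have hd : n' ∣ 144 := by
    have := Subgroup.card_subgroup_dvd_card M
    rw [hcard, hMcard, show (95040 : ℕ) = 660 * 144 by norm_num] at this
    exact Nat.dvd_of_mul_dvd_mul_left (by norm_num) this
  have hlt := Nat.le_of_dvd (by norm_num) hd
  have hidx := M.card_mul_index
  rcases index_cases n' (by omega) (by omega) hmod hd with h | h <;>
    rw [hcard, hMcard, h] at hidx
  · have := no_index_twelve hcard P (H := M) (by omega)
    rw [← hCdef, hC] at this
    omega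
  · exact hMtop (Subgroup.index_eq_one.1 (by omega))

include hcard in
/-- A Sylow 11-subgroup is self-centralising with normaliser of order 55. -/
theorem centralizer_eleven :
    Nat.card (AbelianFrob.CP P) = 11 ∧ Nat.card (AbelianFrob.NP P) = 55 := by
  have hnc := not_comm_of_card hcard
  have hP := card_sylow_of_card hcard P
  obtain ⟨e, he1, hedvd, h11, hNmul, hGmul⟩ := Small.sylow_prime_order_data hnc P hP
  have hrel := Small.card_centralizer_mul_relIndex (P : Subgroup G)
  change Nat.card (AbelianFrob.CP P) * (AbelianFrob.CP P).relIndex (AbelianFrob.NP P) =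
    Nat.card (AbelianFrob.NP P) at hrel
  change Nat.card (AbelianFrob.CP P) * e = Nat.card (AbelianFrob.NP P) at hNmul
  change Nat.card (AbelianFrob.CP P) * e * _ = _ at hGmul
  have hee : (AbelianFrob.CP P).relIndex (AbelianFrob.NP P) = e :=
    Nat.eq_of_mul_eq_mul_left Nat.card_pos (hrel.trans hNmul.symm)
  obtain ⟨k, hk⟩ : 11 ∣ Nat.card (AbelianFrob.CP P) := prime_dvd_card_centralizer P hP
  obtain ⟨⟨hn1, -⟩, hn2, hn3⟩ := (Finset.mem_filter.1 (Small.card_sylow_mem (p := 11) (G := G) hnc
    (k := 1) (m := 8640) one_ne_zero (by rw [hcard]; norm_num) (by norm_num))).imp_left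
    Nat.mem_divisors.1
  rw [hk, hcard] at hGmul
  have he : e = 2 ∨ e = 5 ∨ e = 10 := by
    have h := Nat.le_of_dvd (by norm_num) hedvd
    interval_cases e <;> omega
  have hsmall : Nat.card (Sylow 11 G) = 12 → k ≤ 1 := fun h => by
    have := no_index_twelve hcard P
      (H := Subgroup.normalizer ((P : Subgroup G) : Set G)) (by rw [← h, P.card_eq_index_normalizer]; rfl)
    omega
  rcases mul_cases hn3 hn2 hn1 with
    h | h | h | h | h | h <;> rw [h] at hGmul
  · have := hsmall h
    rcases he with rfl | rfl | rfl <;> omega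
  all_goals
    rcases he with rfl | rfl | rfl
  all_goals
    first
      | omega
      | exact absurd (not_two_five hcard P (by omega) (Or.inl hee)) not_false
      | exact absurd (not_two_five hcard P (by omega) (Or.inr hee)) not_false
      | exact absurd (not_ten hcard P (by omega) (by omega)) not_false
      | (constructor <;> omega)

end CfsgLib.MathieuTwelve
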