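import Cfsg.Agent.Lib.MathieuTwelve.Rest
import Cfsg.Agent.Lib.MathieuTwelve.ElevenLocal

/-!
# Data of a simple group of order 95040
-/

set_option autoImplicit false
open Cfsg

namespace CfsgLib.MathieuTwelve

universe u

variable {G : Type u} [Group G] [Finite G] [IsSimpleGroup G]

/-- The centraliser of an involution and of an element of order five. -/
theorem exists_config_data (hG : Nat.card G = 95040) :
    ∃ z q : G, orderOf z = 2 ∧ orderOf q = 5 ∧ Commute z q ∧
      Nat.card (Subgroup.centralizer ({z} : Set G)) = 240 ∧
      Nat.card (Subgroup.centralizer ({q} : Set G)) = 10 ∧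
      Nat.card (Subgroup.normalizer ((Subgroup.zpowers q : Subgroup G) : Set G)) = 40 ∧
      Nat.card {x : G // IsConj z x ∧ IsConj z (x * z)} = 20 := by
  let _ : Fintype G := Fintype.ofFinite G
  haveI : Fact (Nat.Prime 11) := ⟨by norm_num⟩
  have hE := fun P => centralizer_eleven hG P
  obtain ⟨B⟩ := exists_principal hG hE
  obtain ⟨D⟩ := B.exists_five_data hG hE
  exact B.exists_centralizer_data hG D

end CfsgLib.MathieuTwelve
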