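import Cfsg.Agent.Lib.MathieuTwelve.Rest
import Cfsg.Agent.Lib.MathieuTwelve.Data
import Cfsg.Prelude.Def_DegreeGraph
import Cfsg.Agent.Lib.Golay.Mathieu

/-!
# Degrees of a simple group of order 95040 divisible by 22, 33 and 55
-/

set_option autoImplicit false
set_option linter.style.haveILetI false
set_option linter.unusedSectionVars false
open Cfsg CfsgLib.Characters CfsgLib.CharCorr CfsgLib.ClassCount
open scoped ComplexConjugate

namespace CfsgLib.MathieuTwelve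

/-- Without degrees divisible by 11 times one of 2, 3, 5 the search for the rest has no solution. -/
theorem rest_degree_small : ∀ r ∈ [2, 3, 5],
    go (fun _ => false) (itemList120.filter fun i => i.n % r != 0) (target 120 4) = true ∧
    go (fun _ => false) (itemList120.filter fun i => i.n % r != 0) (target 120 (-4)) = true := by
  decide +kernel

theorem rest_degree_big : ∀ r ∈ [2, 3, 5],
    go (fun _ => false) (itemList240.filter fun i => i.n % r != 0) (target 240 4) = true ∧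
    go (fun _ => false) (itemList240.filter fun i => i.n % r != 0) (target 240 (-4)) = true := by
  decide +kernel

universe u

variable {G : Type u} [Group G] [Fintype G] [IsSimpleGroup G]

open scoped Classical in
theorem Principal.exists_degree_dvd (B : Principal G) (hG : Nat.card G = 95040)
    [Fact (Nat.Prime 11)] (D : FiveData B) {r : ℕ} (hrm : (r : ℤ) ∈ [2, 3, 5]) :
    ∃ η : IrrCharacter G, 11 * r ∣ charDegree (η : G → ℂ) := by
  by_contra! hno
  set C := Nat.card (Subgroup.centralizer ({D.z} : Set G)) with hC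
  obtain ⟨hd, hdX⟩ : ((charDegree (B.χ 0 : G → ℂ) : ℤ) = 45 ∧ (charDegree (B.χ 1 : G → ℂ) : ℤ) = 54 ∧
      (charDegree (B.χ 2 : G → ℂ) : ℤ) = 120 ∧ (charDegree (B.χ 3 : G → ℂ) : ℤ) = 144) ∧
      (charDegree (B.f0 : G → ℂ) : ℤ) = 16 ∧ (charDegree (B.f1 : G → ℂ) : ℤ) = 16 := by
    simp only [B.deg, B.degX.1, B.degX.2, D.row, Row.ds]
    refine ⟨⟨?_, ?_, ?_, ?_⟩, ?_, ?_⟩ <;> trivial
  obtain ⟨hd0, hd1, hd2, hd3⟩ := hd
  obtain ⟨hx0, hx1⟩ := hdX
  have ho5 : ¬ 11 ∣ orderOf D.q := by rw [D.hq]; norm_num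
  have ho2 : ¬ 11 ∣ orderOf D.z := by rw [D.hz]; norm_num
  have hoqz : orderOf (D.q * D.z) = 10 := by
    rw [D.comm.symm.orderOf_mul_eq_mul_orderOf_of_coprime (by rw [D.hq, D.hz]; norm_num), D.hq, D.hz]
  have ho10 : ¬ 11 ∣ orderOf (D.q * D.z) := by rw [hoqz]; norm_num
  have hone : ∀ η : IrrCharacter G, (η : G → ℂ) 1 = ((charDegree (η : G → ℂ) : ℤ) : ℂ) := fun η => by
    rw [irr_one_eq_charDegree, Int.cast_natCast]
  -- values in the block
  have hu1 := val_principal D.hu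
  have hv1 := val_principal D.hv
  have hs1 := val_principal D.hs
  have hp1 : charDegree ((principalIrr G : IrrCharacter G) : G → ℂ) = 1 := by simp [principalIrr, charDegree]
  obtain ⟨hueq, hulast⟩ := B.lin_eq ho5 D.hu
  have hveq := (B.lin_eq ho2 D.hv).1
  have hseq := (B.lin_eq ho10 D.hs).1
  obtain ⟨u0, u1, u2, u3⟩ := D.uval
  obtain ⟨v0, v1, v2⟩ := D.vval
  obtain ⟨s0, s1, s2⟩ := D.sval
  have uf : D.u B.f0 = 1 := by
    rw [← hulast, D.row, u0, u1, u2, u3]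
    decide
  -- items
  let n : IrrCharacter G → ℤ := fun η => ((charDegree (η : G → ℂ) / 11 : ℕ) : ℤ)
  let item : IrrCharacter G → Item := fun η => ⟨n η, D.u η, D.s η, D.v η⟩
  have hn : ∀ η ∈ B.Z, (charDegree (η : G → ℂ) : ℤ) = 11 * n η := by
    intro η hη
    obtain ⟨c, hc⟩ := B.degZ η hη
    simp only [n, hc, Nat.mul_div_cancel_left c (by norm_num : 0 < 11)]
    push_cast
    rfl
  set L := B.Z.toList.map item with hL
  have hsum : ∀ f : Item → ℤ, (L.map f).sum = ∑ η ∈ B.Z, f (item η) := by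
    intro f
    rw [hL, List.map_map]
    exact Finset.sum_map_toList B.Z _
  have key : ∀ (F F' : IrrCharacter G → ℤ) (c t : ℤ), ∑ η, F η * F' η = c →
      c - (F (principalIrr G) * F' (principalIrr G) + (F (B.χ 0) * F' (B.χ 0) + F (B.χ 1) * F' (B.χ 1) +
        F (B.χ 2) * F' (B.χ 2) + F (B.χ 3) * F' (B.χ 3)) + (F B.f0 * F' B.f0 + F B.f1 * F' B.f1)) = t →
      ∑ η ∈ B.Z, F η * F' η = t := by
    intro F F' c t h h'
    rw [B.split_int fun η => F η * F' η] at h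
    linarith
  have hdd : ∑ η : IrrCharacter G, (charDegree (η : G → ℂ) : ℤ) * charDegree (η : G → ℂ) = 95040 := by
    have h := Chars17.natSum_sq_degrees (G := G)
    rw [hG] at h
    simp only [sq] at h
    exact_mod_cast h
  have hne : ∀ {g h : G}, orderOf g ≠ orderOf h → ¬ IsConj g h := fun h => not_conj_of_orderOf_ne h
  have Zdd := key _ _ _ 54450 hdd (by rw [hp1, hd0, hd1, hd2, hd3, hx0, hx1]; norm_num)
  have Zqq := key _ _ _ 5 (sum_sq_eq D.q D.hu) (by rw [D.hCq, hu1, u0, u1, u2, u3, hueq, uf]; norm_num)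
  have Zrr := key _ _ _ 5 (sum_sq_eq (D.q * D.z) D.hs) (by
    rw [D.hCqz, hs1, s0, s1, s2, hseq]
    rcases D.sign with ⟨-, -, a, b⟩ | ⟨-, -, a, b⟩ <;> rw [a, b] <;> norm_num)
  have Zvv := key _ _ _ ((C : ℤ) - 110) (sum_sq_eq D.z D.hv) (by
    rw [← hC, hv1, v0, v1, v2, hveq]
    rcases D.sign with ⟨a, b, -, -⟩ | ⟨a, b, -, -⟩ <;> rw [a, b] <;> ring)
  have Zdq := key _ _ _ 165 (sum_mul_eq_zero (hne (by rw [orderOf_one, D.hq]; norm_num)) hone D.hu) (by
    rw [hp1, hd0, hd1, hd2, hd3, hx0, hx1, hu1, u0, u1, u2, u3, hueq, uf]; norm_num)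
  have Zdr := key _ _ _ (if D.v B.f0 = 4 then 121 else -231)
    (sum_mul_eq_zero (hne (by rw [orderOf_one, hoqz]; norm_num)) hone D.hs) (by
    rw [hp1, hd0, hd1, hd2, hd3, hx0, hx1, hs1, s0, s1, s2, hseq]
    rcases D.sign with ⟨-, e, a, b⟩ | ⟨-, e, a, b⟩ <;> rw [a, b, e] <;> norm_num)
  have Zdv := key _ _ _ (if D.v B.f0 = 4 then -1254 else 154)
    (sum_mul_eq_zero (hne (by rw [orderOf_one, D.hz]; norm_num)) hone D.hv) (by
    rw [hp1, hd0, hd1, hd2, hd3, hx0, hx1, hv1, v0, v1, v2, hveq]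
    rcases D.sign with ⟨a, b, -, -⟩ | ⟨a, b, -, -⟩ <;> rw [a, b] <;> norm_num)
  have Zqr := key _ _ _ (if D.v B.f0 = 4 then 1 else -1)
    (sum_mul_eq_zero (hne (by rw [D.hq, hoqz]; norm_num)) D.hu D.hs) (by
    rw [hu1, u0, u1, u2, u3, hueq, uf, hs1, s0, s1, s2, hseq]
    rcases D.sign with ⟨-, e, a, b⟩ | ⟨-, e, a, b⟩ <;> rw [a, b, e] <;> norm_num)
  have Zqv := key _ _ _ (if D.v B.f0 = 4 then 1 else 9)
    (sum_mul_eq_zero (hne (by rw [D.hq, D.hz]; norm_num)) D.hu D.hv) (by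
    rw [hu1, u0, u1, u2, u3, hueq, uf, hv1, v0, v1, v2, hveq]
    rcases D.sign with ⟨a, b, -, -⟩ | ⟨a, b, -, -⟩ <;> rw [a, b] <;> norm_num)
  have Zrv := key _ _ _ 5
    (sum_mul_eq_zero (hne (by rw [hoqz, D.hz]; norm_num)) D.hs D.hv) (by
    rw [hs1, s0, s1, s2, hseq, hv1, v0, v1, v2, hveq]
    rcases D.sign with ⟨a, b, c, d⟩ | ⟨a, b, c, d⟩ <;> rw [a, b, c, d] <;> norm_num)
  rw [Finset.sum_congr rfl (fun η hη => by rw [hn η hη] :
      ∀ η ∈ B.Z, (charDegree (η : G → ℂ) : ℤ) * charDegree (η : G → ℂ) = 11 * n η * (11 * n η))] at Zdd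
  rw [Finset.sum_congr rfl (fun η hη => by rw [hn η hη] :
      ∀ η ∈ B.Z, (charDegree (η : G → ℂ) : ℤ) * D.u η = 11 * n η * D.u η)] at Zdq
  rw [Finset.sum_congr rfl (fun η hη => by rw [hn η hη] :
      ∀ η ∈ B.Z, (charDegree (η : G → ℂ) : ℤ) * D.s η = 11 * n η * D.s η)] at Zdr
  rw [Finset.sum_congr rfl (fun η hη => by rw [hn η hη] :
      ∀ η ∈ B.Z, (charDegree (η : G → ℂ) : ℤ) * D.v η = 11 * n η * D.v η)] at Zdv
  simp only [mul_assoc, mul_left_comm (n _) (11 : ℤ), ← Finset.mul_sum] at Zdd Zdq Zdr Zdv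
  have hC240 : C ≤ 240 := by rcases D.hCz with h | h <;> rw [← hC] at h <;> omega
  have hok : ∀ η ∈ B.Z, item η ∈ items (C : ℤ) := by
    intro η hη
    refine mem_items (by exact_mod_cast hC240) ?_
    have hne : η ≠ principalIrr G := fun e => by
      have := B.degZ η hη; rw [e, hp1] at this; norm_num at this
    have hdeg := hn η hη
    have hpos := (degree_eq η).2.2
    have hdvd : (11 * n η) ∣ (95040 : ℤ) := by
      rw [← hdeg]
      exact_mod_cast (hG ▸ charDegree_irr_dvd_card η : charDegree (η : G → ℂ) ∣ 95040)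
    have h1 : n η * n η ≤ 450 := by
      have := Finset.single_le_sum (f := fun η => n η * n η) (fun _ _ => mul_self_nonneg _) hη
      linarith
    have h2 : D.u η * D.u η ≤ 5 := le_of_le_of_eq
      (Finset.single_le_sum (f := fun η => D.u η * D.u η) (fun _ _ => mul_self_nonneg _) hη) Zqq
    have h3 : D.s η * D.s η ≤ 5 := le_of_le_of_eq
      (Finset.single_le_sum (f := fun η => D.s η * D.s η) (fun _ _ => mul_self_nonneg _) hη) Zrr
    have h4 : D.v η * D.v η ≤ (C : ℤ) - 110 := le_of_le_of_eq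
      (Finset.single_le_sum (f := fun η => D.v η * D.v η) (fun _ _ => mul_self_nonneg _) hη) Zvv
    have h5 := D.v_lt η hne
    rw [hdeg] at h5
    have h6 : (D.u η - 11 * n η) % 5 = 0 := hdeg ▸ D.u_mod η
    have h7 : (11 * n η) % 5 ≠ 0 ∨ (D.u η = 0 ∧ D.s η = 0) := by
      by_cases h : 5 ∣ charDegree (η : G → ℂ)
      · exact Or.inr (D.five η h)
      · left; omega
    have h8 : (D.v η - 11 * n η) % 4 = 0 := hdeg ▸ D.v_mod η
    have h9 := hdeg ▸ classInt_eq hG η D.z (D.hv η)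
    have h10 : (8640 : ℤ) % n η = 0 := by
      obtain ⟨c, hc⟩ := hdvd
      exact Int.emod_eq_zero_of_dvd ⟨c, by linarith⟩
    simp only [Item.ok, item, Bool.and_eq_true, decide_eq_true_eq, beq_iff_eq, Bool.or_eq_true,
      bne_iff_ne, ne_eq]
    exact ⟨⟨⟨⟨⟨⟨⟨⟨⟨⟨⟨⟨h10, by omega⟩, h1⟩, h2⟩, h3⟩, h4⟩, h5⟩, h6⟩, h7⟩, D.s_par η⟩, D.s_mod η⟩, h8⟩, h9⟩
  have hr : ∀ η ∈ B.Z, (item η).n % (r : ℤ) ≠ 0 := by
    intro η hη hmod
    refine hno η ?_
    obtain ⟨c, hc⟩ := B.degZ η hη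
    simp only [item, n, hc, Nat.mul_div_cancel_left c (by norm_num : 0 < 11)] at hmod
    rw [hc]
    exact Nat.mul_dvd_mul_left 11 (by exact_mod_cast Int.dvd_of_emod_eq_zero hmod)
  have htot : ∀ f : Item → ℤ, (L.map f).sum = ∑ η ∈ B.Z, f (item η) := hsum
  have hgo : ∀ (its : List Item), (∀ i ∈ items (C : ℤ), i.n % (r : ℤ) ≠ 0 → i ∈ its) →
      (∀ i ∈ its, i.n ≠ 0) → go (fun _ => false) its (target (C : ℤ) (D.v B.f0)) = true →
      False := by
    intro its hsub hnz hgo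
    have hLmem : ∀ x ∈ L, x ∈ its := by
      intro x hx
      obtain ⟨η, hη, rfl⟩ := List.mem_map.1 hx
      exact hsub _ (hok η (Finset.mem_toList.1 hη)) (hr η (Finset.mem_toList.1 hη))
    have h := go_sound its _ hgo hnz L hLmem
    rcases D.sign with ⟨-, e, -, -⟩ | ⟨-, e, -, -⟩ <;>
      simp only [e, target, totals, htot, item, if_true, show ¬((-4 : ℤ) = 4) by norm_num,
        if_false] at h Zdr Zdv Zqr Zqv ⊢ <;>
      (refine Bool.false_ne_true (h ?_ ?_ ?_ ?_ ?_ ?_ ?_ ?_ ?_ ?_) <;> first | linarith)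
  have hmem : ∀ {l : List Item} {i : Item}, i ∈ l → i.n % (r : ℤ) ≠ 0 →
      i ∈ l.filter fun i => i.n % (r : ℤ) != 0 := fun h h' => List.mem_filter.2 ⟨h, bne_iff_ne.2 h'⟩
  have hn120 : ∀ i ∈ itemList120, i.n ≠ 0 := by decide
  have hn240 : ∀ i ∈ itemList240, i.n ≠ 0 := by decide
  rcases D.hCz with hC' | hC' <;> rw [← hC] at hC' <;> rw [hC'] at hgo <;>
    rcases D.sign with ⟨-, e, -, -⟩ | ⟨-, e, -, -⟩ <;> rw [e] at hgo
  · exact hgo _ (fun i hi h => hmem (items_small i hi) h) (fun i hi => hn120 i (List.mem_filter.1 hi).1)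
      (rest_degree_small _ hrm).1
  · exact hgo _ (fun i hi h => hmem (items_small i hi) h) (fun i hi => hn120 i (List.mem_filter.1 hi).1)
      (rest_degree_small _ hrm).2
  · exact hgo _ (fun i hi h => hmem (items_big i hi) h) (fun i hi => hn240 i (List.mem_filter.1 hi).1)
      (rest_degree_big _ hrm).1
  · exact hgo _ (fun i hi h => hmem (items_big i hi) h) (fun i hi => hn240 i (List.mem_filter.1 hi).1)
      (rest_degree_big _ hrm).2

omit [Fintype G] in
/-- A simple group of order 95040 has degrees divisible by 22, 33 and 55. -/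
theorem exists_degree_dvd [Finite G] (hG : Nat.card G = 95040) :
    (∃ d ∈ Cfsg.charDegrees G, 22 ∣ d) ∧ (∃ d ∈ Cfsg.charDegrees G, 33 ∣ d) ∧
      ∃ d ∈ Cfsg.charDegrees G, 55 ∣ d := by
  let _ : Fintype G := Fintype.ofFinite G
  haveI : Fact (Nat.Prime 11) := ⟨by norm_num⟩
  have hE := fun P => centralizer_eleven hG P
  obtain ⟨B⟩ := exists_principal hG hE
  obtain ⟨D⟩ := B.exists_five_data hG hE
  refine ⟨?_, ?_, ?_⟩
  · obtain ⟨η, h⟩ := B.exists_degree_dvd hG D (r := 2) (by simp)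
    exact ⟨_, ⟨η, rfl⟩, h⟩
  · obtain ⟨η, h⟩ := B.exists_degree_dvd hG D (r := 3) (by simp)
    exact ⟨_, ⟨η, rfl⟩, h⟩
  · obtain ⟨η, h⟩ := B.exists_degree_dvd hG D (r := 5) (by simp)
    exact ⟨_, ⟨η, rfl⟩, h⟩

end CfsgLib.MathieuTwelve
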