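import Cfsg.Agent.Lib.MathieuTwelve.Search

/-!
Finite searches over values at involutions.
-/
set_option autoImplicit false
set_option maxRecDepth 16000

namespace CfsgLib.MathieuTwelve

/-- Values at an involution centralising an element of order 11. -/
def elevenInvCheck : Bool :=
  rows.all fun r =>
    let f := fun d v : ℤ => (v - d) % 44 == 0
    let cs := centOrders.filter fun C => C % 11 == 0 && decide (C ≤ 7920)
    (vals r.d1 88 (f r.d1)).all fun v1 => (vals r.d2 88 (f r.d2)).all fun v2 =>
      (vals r.d3 88 (f r.d3)).all fun v3 => (vals r.d4 88 (f r.d4)).all fun v4 =>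
        let w := r.last v1 v2 v3 v4
        !(decide (|w| < r.x) && f r.x w &&
          cs.any fun C => decide (Row.sq v1 v2 v3 v4 w ≤ C) && r.classOK C v1 v2 v3 v4 w)

theorem elevenInvCheck_ok : elevenInvCheck = true := by decide +kernel

/-- Centraliser orders of involutions when 11 is excluded and `m` divides the order. -/
def invCents (m : ℤ) : List ℤ := centOrders.filter fun C => C % m == 0 && C % 11 != 0

/-- Two characters of degree 12 take the value `-8` at an involution. -/
def twelveInvCheck : Bool :=
  rows.all fun r =>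
    let f := fun d v : ℤ => (v - d) % 4 == 0
    (vals r.d1 93 (f r.d1)).all fun v1 => (vals r.d2 93 (f r.d2)).all fun v2 =>
      !(decide (2 ≤ ([(r.d1, v1), (r.d2, v2)].countP fun p => p == ((12 : ℤ), (-8 : ℤ))) +
          ([r.d3, r.d4].countP fun d => d == (12 : ℤ)))) ||
      (vals r.d3 93 (f r.d3)).all fun v3 => (vals r.d4 93 (f r.d4)).all fun v4 =>
        let w := r.last v1 v2 v3 v4
        !(decide (2 ≤ [(r.d1, v1), (r.d2, v2), (r.d3, v3), (r.d4, v4)].countP fun p => p == ((12 : ℤ), (-8 : ℤ))) &&
          decide (|w| < r.x) && f r.x w && r.quad v1 v2 v3 v4 w == 0 &&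
          (invCents 20).any fun C => decide (Row.sq v1 v2 v3 v4 w ≤ C) && r.classOK C v1 v2 v3 v4 w)

theorem twelveInvCheck_ok : twelveInvCheck = true := by decide +kernel

/-- A central involution when two degrees are 12. -/
def twelveCentralCheck : Bool :=
  rows.all fun r =>
    decide ([r.d1, r.d2, r.d3, r.d4].countP (fun d => d == (12 : ℤ)) < 2) ||
      [(⟨10, 10, 12, 12, 5, -1⟩ : Row), ⟨10, 12, 12, 45, 60, -1⟩].contains r ||
    let f := fun d v : ℤ => (v - d) % 4 == 0
    (vals r.d1 93 (f r.d1)).all fun v1 => (vals r.d2 93 (f r.d2)).all fun v2 =>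
      (vals r.d3 93 (f r.d3)).all fun v3 => (vals r.d4 93 (f r.d4)).all fun v4 =>
        let w := r.last v1 v2 v3 v4
        !(decide (|w| < r.x) && f r.x w && r.quad v1 v2 v3 v4 w == 0 &&
          (invCents 64).any fun C => decide (Row.sq v1 v2 v3 v4 w ≤ C) && r.classOK C v1 v2 v3 v4 w)

theorem twelveCentralCheck_ok : twelveCentralCheck = true := by decide +kernel

end CfsgLib.MathieuTwelve
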