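import Cfsg.Agent.Lib.Order7920.PrimeSection
import Cfsg.Agent.Lib.AbelianFrob.Exceptional
import Cfsg.Agent.Lib.Blocks.Knorr
import Cfsg.Agent.Lib.Blocks.ClassCount
import Cfsg.Agent.Lib.Small.Order4320
import Cfsg.Agent.Lib.MathieuTwelve.SearchInvolution
import Mathlib.Data.Fin.Tuple.Sort

/-!
# The principal 11-block of a simple group of order 95040 with `C(P)` of even order

If a Sylow 11-subgroup is centralised by an involution, its normaliser does not induce a group of
order 2 or 5 on it.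
-/

set_option autoImplicit false
set_option linter.style.haveILetI false
set_option linter.unusedSectionVars false
open Cfsg CfsgLib.Characters CfsgLib.CharCorr CfsgLib.Order7920
open scoped ComplexConjugate

namespace CfsgLib.MathieuTwelve

universe u

variable {G : Type u} [Group G] [Fintype G]

/-- The values at an involution centralising a Sylow subgroup of prime order are congruent to the
degrees modulo twice the prime. -/
theorem two_mul_prime_dvd_value_sub [IsSimpleGroup G] {p : ℕ} [hp : Fact p.Prime] (hp2 : p ≠ 2) (P : Sylow p G)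
    (hP : Nat.card (P : Subgroup G) = p) {M : Ideal AlgInt} (hM : IsPModular p M) {u : G}
    (hu : orderOf u = 2) (huC : u ∈ AbelianFrob.CP P) {χ : IrrCharacter G}
    (hχ : χ ∈ principalBlock M G) {v : ℤ} (hv : (χ : G → ℂ) u = v) :
    (2 * p : ℤ) ∣ v - (charDegree (χ : G → ℂ) : ℤ) := by
  classical
  have hab := isMulCommutative_sylow P hP
  have hc : ∀ w ∈ (P : Subgroup G), w * u = u * w := fun w hw =>
    Subgroup.mem_centralizer_iff.1 huC w hw
  have huu : u * u = 1 := by
    have := pow_orderOf_eq_one u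
    rwa [hu, sq] at this
  have huinv : u⁻¹ = u := inv_eq_of_mul_eq_one_left huu
  have huP : u ∉ (P : Subgroup G) := fun h => hp2 (by
    have h1 := orderOf_dvd_natCard (⟨u, h⟩ : (P : Subgroup G))
    rw [Subgroup.orderOf_mk, hu, hP] at h1
    exact ((Nat.prime_dvd_prime_iff_eq Nat.prime_two hp.out).1 h1).symm)
  let H : Subgroup G :=
    { carrier := {x | x ∈ (P : Subgroup G) ∨ x * u ∈ (P : Subgroup G)}
      one_mem' := Or.inl (one_mem _)
      mul_mem' := by
        rintro a b (ha | ha) (hb | hb)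
        · exact Or.inl (mul_mem ha hb)
        · exact Or.inr (by rw [mul_assoc]; exact mul_mem ha hb)
        · exact Or.inr (by
            rw [mul_assoc, hc b hb, ← mul_assoc]; exact mul_mem ha hb)
        · refine Or.inl ?_
          have e : a * b = (a * u) * (b * u) := by
            have h1 := hc (b * u) hb
            rw [mul_assoc a u, ← h1, mul_assoc b u, huu, mul_one]
          rw [e]; exact mul_mem ha hb
      inv_mem' := by
        rintro a (ha | ha)
        · exact Or.inl (inv_mem ha)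
        · refine Or.inr ?_
          have h1 := hc _ (inv_mem ha)
          have e : a⁻¹ * u = (a * u)⁻¹ := by
            calc a⁻¹ * u = u * (u⁻¹ * a⁻¹) * u := by group
              _ = (a * u)⁻¹ := by
                rw [← mul_inv_rev, ← h1, mul_assoc, huu, mul_one]
          rw [e]; exact inv_mem ha }
  obtain ⟨m, hm⟩ := ClassCount.exists_mult χ H
  let g : ↥(P : Subgroup G) × Bool → H := fun q =>
    ⟨(q.1 : G) * (if q.2 then u else 1), by
      cases q.2
      · exact Or.inl (by simpa using q.1.2)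
      · refine Or.inr ?_
        simp only [if_true, mul_assoc, huu, mul_one]
        exact q.1.2⟩
  have hg : Function.Bijective g := by
    constructor
    · rintro ⟨a, i⟩ ⟨b, j⟩ h
      have h' : (a : G) * (if i then u else 1) = (b : G) * (if j then u else 1) :=
        congrArg Subtype.val h
      cases i <;> cases j <;> simp only [if_true, Bool.false_eq_true, if_false, mul_one] at h'
      · rw [Subtype.ext h']
      · exfalso
        refine huP ?_
        have := mul_mem (inv_mem b.2) a.2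
        rwa [h', inv_mul_cancel_left] at this
      · exfalso
        refine huP ?_
        have := mul_mem (inv_mem a.2) b.2
        rwa [← h', inv_mul_cancel_left] at this
      · rw [Subtype.ext (mul_right_cancel h')]
    · rintro ⟨x, hx | hx⟩
      · exact ⟨(⟨x, hx⟩, false), Subtype.ext (by simp [g])⟩
      · exact ⟨(⟨x * u, hx⟩, true), Subtype.ext (by simp [g, mul_assoc, huu])⟩
  have hcard : Nat.card H = 2 * p := by
    rw [← Nat.card_congr (Equiv.ofBijective g hg), Nat.card_prod, hP, Nat.card_eq_fintype_card,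
      Fintype.card_bool, mul_comm]
  rw [hcard, ← Fintype.sum_bijective g hg (fun q => (χ : G → ℂ) ((g q : G))⁻¹) _ (fun q => rfl),
    Fintype.sum_prod_type] at hm
  simp only [g, Fintype.sum_bool, if_true, Bool.false_eq_true, if_false, mul_one, mul_inv_rev,
    huinv, inv_one, one_mul, Finset.sum_add_distrib] at hm
  set b := AbelianFrob.bcoef P χ 1
  have hS : ∑ w : (P : Subgroup G), (χ : G → ℂ) (w : G)⁻¹ = (p : ℂ) * b := by
    have h := AbelianFrob.bcoef_eq P χ 1
    rw [hP] at h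
    simp only [inv_one, map_one, MonoidHom.one_apply, Units.val_one, mul_one] at h
    rw [h, ← mul_assoc, mul_inv_cancel₀ (Nat.cast_ne_zero.2 hp.out.ne_zero), one_mul]
    exact Fintype.sum_equiv (Equiv.inv _) _ _ fun w => rfl
  have hT : ∑ w : (P : Subgroup G), (χ : G → ℂ) (u * (w : G)⁻¹) =
      (v : ℂ) - (charDegree (χ : G → ℂ) : ℂ) + (p : ℂ) * b := by
    rw [← hS, ← Finset.add_sum_erase _ _ (Finset.mem_univ (1 : (P : Subgroup G))),
      ← Finset.add_sum_erase _ (fun w : (P : Subgroup G) => (χ : G → ℂ) (w : G)⁻¹)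
        (Finset.mem_univ (1 : (P : Subgroup G))),
      Finset.sum_congr rfl (g := fun w : (P : Subgroup G) => (χ : G → ℂ) (w : G)⁻¹) fun w hw => ?_]
    · simp only [OneMemClass.coe_one, inv_one, mul_one, hv, irr_one_eq_charDegree]
      ring
    · have hw1 : (w : G)⁻¹ ≠ 1 := inv_ne_one.2 fun e => (Finset.mem_erase.1 hw).1 (Subtype.ext e)
      have hcw : Commute ((w : G)⁻¹) u := hc _ (inv_mem w.2)
      obtain ⟨-, -, -, hk, -⟩ := AbelianFrob.isPPart_self P hp.out (inv_mem w.2)
      rw [← hcw.eq]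
      refine AbelianFrob.value_eq P hab (fpf P hP) hM hχ (Blocks.isPPart_mul hcw hk ?_)
        (inv_mem w.2) hw1
      rw [hu]
      exact fun h => hp2 ((Nat.prime_dvd_prime_iff_eq hp.out Nat.prime_two).1 h)
  rw [hS, hT] at hm
  refine ⟨(m : ℤ) - b, ?_⟩
  have h : ((v - (charDegree (χ : G → ℂ) : ℤ) : ℤ) : ℂ) = ((2 * p * ((m : ℤ) - b) : ℤ) : ℂ) := by
    push_cast at hm ⊢
    linear_combination hm
  exact_mod_cast h

/-- An integral value is a multiple of the degree after multiplying by the class size. -/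
theorem index_mul_value_dvd {χ : IrrCharacter G} {u : G} {v : ℤ} (hv : (χ : G → ℂ) u = v) :
    (charDegree (χ : G → ℂ) : ℤ) ∣
      ((Subgroup.centralizer ({u} : Set G)).index : ℤ) * v := by
  have hint := ClassCount.centralChar_isIntegral χ u
  obtain ⟨h1, -, hpos⟩ := ClassCount.degree_eq χ
  set D := charDegree (χ : G → ℂ) with hD
  set n := (Subgroup.centralizer ({u} : Set G)).index with hn
  have hq : centralChar (χ : G → ℂ) u = ((((n : ℤ) * v : ℤ) : ℚ) / (D : ℚ) : ℚ) := by
    simp only [centralChar, h1, hv, ← hn]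
    push_cast
    ring
  obtain ⟨z, hz⟩ := exists_int_of_isIntegral_rat (hq ▸ hint)
  refine ⟨z, ?_⟩
  have hD0 : (D : ℚ) ≠ 0 := Nat.cast_ne_zero.2 hpos.ne'
  rw [eq_div_iff hD0] at hz
  exact_mod_cast hz.symm.trans (mul_comm _ _)

section Order

variable [IsSimpleGroup G]

theorem not_comm_of_card (hcard : Nat.card G = 95040) : ¬ IsMulCommutative G :=
  Small.nc_of_not_prime (by rw [hcard]; norm_num)

theorem card_sylow_of_card (hcard : Nat.card G = 95040) [Fact (Nat.Prime 11)] (P : Sylow 11 G) :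
    Nat.card (P : Subgroup G) = 11 :=
  (Small.card_sylow_of_card_eq (k := 1) (m := 8640) (by rw [hcard]; norm_num) (by norm_num) P).trans
    (pow_one 11)

theorem index_small : ∀ n : ℕ, n < 12 → (2 * 95040 ∣ n.factorial) → n = 11 := by decide +kernel

/-- The divisors of 95040 by their exponents. -/
theorem exponents_of_dvd {C : ℕ} (h : C ∣ 95040) : ∃ i < 7, ∃ j < 4, ∃ k < 2, ∃ l < 2,
    C = 2 ^ i * 3 ^ j * 5 ^ k * 11 ^ l := by
  rw [show (95040 : ℕ) = 2 ^ 6 * 3 ^ 3 * 5 ^ 1 * 11 ^ 1 by norm_num] at h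
  obtain ⟨x, d, hx, hd, rfl⟩ := Nat.dvd_mul.1 h
  obtain ⟨y, c, hy, hc, rfl⟩ := Nat.dvd_mul.1 hx
  obtain ⟨a, b, ha, hb, rfl⟩ := Nat.dvd_mul.1 hy
  obtain ⟨i, hi, rfl⟩ := (Nat.dvd_prime_pow Nat.prime_two).1 ha
  obtain ⟨j, hj, rfl⟩ := (Nat.dvd_prime_pow Nat.prime_three).1 hb
  obtain ⟨k, hk, rfl⟩ := (Nat.dvd_prime_pow (by norm_num)).1 hc
  obtain ⟨l, hl, rfl⟩ := (Nat.dvd_prime_pow (by norm_num)).1 hd
  exact ⟨i, by omega, j, by omega, k, by omega, l, by omega, rfl⟩

theorem centOrder_mem {C : ℕ} (h : C ∣ 95040) : (C : ℤ) ∈ centOrders := by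
  obtain ⟨i, hi, j, hj, k, hk, l, hl, rfl⟩ := exponents_of_dvd h
  refine List.mem_map.2 ⟨((i, j), (k, l)), ?_, by push_cast; rfl⟩
  simp [List.mem_range, hi, hj, hk, hl]

theorem two_none : ∀ D : ℕ, D < 138 → D ∣ 95040 → 11 ≤ D → (D % 11 = 2 ∨ D % 11 = 9) →
    ¬ (D + 1 ∣ 95040) ∧ ¬ (D - 1 ∣ 95040) := by decide +kernel

/-- The centraliser of a nontrivial element whose centraliser has order divisible by 11 has order at
most 7920. -/
theorem centralizer_bound (hcard : Nat.card G = 95040) {u : G} (hu : u ≠ 1)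
    (h11 : 11 ∣ Nat.card (Subgroup.centralizer ({u} : Set G))) :
    Nat.card (Subgroup.centralizer ({u} : Set G)) ≤ 7920 := by
  have hnc := not_comm_of_card hcard
  set H := Subgroup.centralizer ({u} : Set G) with hH
  have hne : H ≠ ⊤ := fun h => hu (by
    have : u ∈ Subgroup.center G := Subgroup.mem_center_iff.2 fun g =>
      Subgroup.mem_centralizer_singleton_iff.1 (h ▸ Subgroup.mem_top g : g ∈ H)
    rwa [Small.center_eq_bot_of_nc hnc, Subgroup.mem_bot] at this)
  have hi := Small.two_mul_card_dvd_factorial_index hnc hne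
  rw [hcard] at hi
  have hm := H.card_mul_index
  rw [hcard] at hm
  by_contra hlt
  have hlt' : H.index < 12 := by
    by_contra h
    nlinarith
  rw [index_small _ hlt' hi] at hm
  obtain ⟨k, hk⟩ := h11
  omega

variable (hcard : Nat.card G = 95040) [Fact (Nat.Prime 11)] (P : Sylow 11 G)

include hcard in
theorem charDegree_lt_309 (χ : IrrCharacter G) : charDegree (χ : G → ℂ) < 309 := by
  have h := Finset.single_le_sum (f := fun η : IrrCharacter G => charDegree (η : G → ℂ) ^ 2)
    (fun _ _ => Nat.zero_le _) (Finset.mem_univ χ)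
  rw [Chars17.natSum_sq_degrees, hcard] at h
  nlinarith

set_option maxHeartbeats 1200000 in
include hcard in
/-- `N(P)` induces neither two nor five automorphisms when `C(P)` has even order. -/
theorem not_two_five (heven : 2 ∣ Nat.card (AbelianFrob.CP P))
    (he : (AbelianFrob.CP P).relIndex (AbelianFrob.NP P) = 2 ∨
      (AbelianFrob.CP P).relIndex (AbelianFrob.NP P) = 5) : False := by
  classical
  have hnc := not_comm_of_card hcard
  obtain ⟨M, hM⟩ := CfsgLib.Blocks.exists_isPModular (p := 11)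
  have hP := card_sylow_of_card hcard P
  have hab := isMulCommutative_sylow P hP
  have hfrob := fpf P hP
  have hC : Nat.card (AbelianFrob.CP P) ≠ 11 := fun h => by rw [h] at heven; omega
  haveI := Fact.mk Nat.prime_two
  obtain ⟨u', hu'⟩ := exists_prime_orderOf_dvd_card' (G := AbelianFrob.CP P) 2 heven
  set u : G := (u' : G) with hudef
  have hu : orderOf u = 2 := by rw [hudef, Subgroup.orderOf_coe, hu']
  have huC : u ∈ AbelianFrob.CP P := u'.2
  have hu1 : u ≠ 1 := fun h => by rw [h, orderOf_one] at hu; omega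
  have hureg : ¬ 11 ∣ orderOf u := by rw [hu]; norm_num
  set m := (AbelianFrob.CP P).relIndex (AbelianFrob.NP P) with hm
  have hm' : m + 1 < Nat.card (P : Subgroup G) := by rw [hP]; omega
  obtain ⟨μ, A, d, δ, S⟩ := AbelianFrob.exists_struct P hab hfrob hM hm'
  obtain ⟨hpr, hA1⟩ := S.principal_mem_rest hab hfrob hM hm'
  obtain ⟨ψ₀, hψ₀⟩ : ∃ ψ : AbelianFrob.Dual P, ψ ≠ 1 := by
    obtain ⟨χ, hχ⟩ := Finset.card_pos.1 (lt_of_lt_of_le Nat.two_pos
      (S.two_le_card_exc hab hfrob hm'))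
    obtain ⟨ψ, hψ, -⟩ := S.mem_exc.1 hχ
    exact ⟨ψ, hψ⟩
  have hexc := S.card_exc_mul hab hfrob
  rw [hP, ← hm] at hexc
  have h11 : ¬ 11 ∣ orderOf (1 : G) := by rw [orderOf_one]; norm_num
  set D := charDegree (μ ψ₀ : G → ℂ) with hD
  have hdegE : ∀ χ ∈ S.exc, charDegree (χ : G → ℂ) = D := by
    intro χ hχ
    obtain ⟨ψ, hψ, rfl⟩ := S.mem_exc.1 hχ
    have := S.regular_eq hM hψ hψ₀ h11
    rw [irr_one_eq_charDegree, irr_one_eq_charDegree] at this
    exact_mod_cast this
  set R := S.rest.erase (principalIrr G) with hR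
  have hRne : ∀ χ ∈ R, χ ≠ principalIrr G := fun χ h => (Finset.mem_erase.1 h).1
  have hRB : ∀ χ ∈ R, χ ∈ principalBlock M G := fun χ h =>
    (S.mem_rest.1 (Finset.mem_erase.1 h).2).1
  have hRr : ∀ χ ∈ R, χ ∈ S.rest := fun χ h => (Finset.mem_erase.1 h).2
  have hexmem : μ ψ₀ ∈ S.exc := S.mem_exc.2 ⟨ψ₀, hψ₀, rfl⟩
  have hprne : μ ψ₀ ≠ principalIrr G := fun h => (S.mem_rest.1 hpr).2 (h ▸ hexmem)
  have hA0 : ∀ χ ∈ R, A χ ≠ 0 := fun χ h => S.A_ne_zero hab hfrob hM (by omega) (hRr χ h)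
  have hA2 : ∀ χ ∈ R, 1 ≤ A χ ^ 2 := fun χ h => by
    have := sq_pos_of_ne_zero (hA0 χ h)
    omega
  have hcong : ∀ χ ∈ R, (11 : ℤ) ∣ (charDegree (χ : G → ℂ) : ℤ) - A χ := by
    intro χ hχ
    obtain ⟨b, k, -, -, hk, -, hX, -, -⟩ := bcoef_sum_formulas P hP hM S (hRB χ hχ)
    exact ⟨b - A χ, by rw [hX, hk (hRr χ hχ)]; push_cast; ring⟩
  have hcongD : (11 : ℤ) ∣ (D : ℤ) - d - m * δ := by
    obtain ⟨b, k, -, -, -, hk, hX, -, -⟩ := bcoef_sum_formulas P hP hM S (S.mem ψ₀ hψ₀)
    obtain ⟨h1, h2⟩ := hk hexmem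
    exact ⟨b - d, by rw [← hD] at hX; rw [hX, h1, h2]; push_cast; ring⟩
  have hdvd : ∀ χ : IrrCharacter G, charDegree (χ : G → ℂ) ∣ 95040 := fun χ =>
    hcard ▸ (ClassCount.degree_eq χ).2.1
  have hX11 : ∀ χ ∈ R, 11 ≤ charDegree (χ : G → ℂ) := fun χ h =>
    le_charDegree_of_centralizer P hP hM hC (hRB χ h) (hRne χ h)
  have hD11 : 11 ≤ D := le_charDegree_of_centralizer P hP hM hC (S.mem ψ₀ hψ₀) hprne
  have hnorm := S.norm_eq hab hfrob hM hψ₀
  rw [← Finset.add_sum_erase _ _ hpr, hA1, ← hm, ← hR] at hnorm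
  have hrel : ((S.exc.card : ℤ) * d - δ) * D +
      (1 + ∑ χ ∈ R, A χ * charDegree (χ : G → ℂ)) = 0 := by
    have h := S.regular_rel hM hψ₀ h11
    rw [← Finset.add_sum_erase _ _ hpr, hA1, irr_one_eq_charDegree, ← hR] at h
    rw [Finset.sum_congr rfl fun χ _ => by rw [irr_one_eq_charDegree χ]] at h
    simp only [principalIrr, Int.cast_one, one_mul] at h
    exact_mod_cast h
  have hsq : 1 + ∑ χ ∈ R, charDegree (χ : G → ℂ) ^ 2 + S.exc.card * D ^ 2 ≤ 95040 := by
    have hsub : ∑ χ ∈ Finset.univ.filter (· ∈ principalBlock M G), charDegree (χ : G → ℂ) ^ 2 ≤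
        ∑ χ : IrrCharacter G, charDegree (χ : G → ℂ) ^ 2 :=
      Finset.sum_le_sum_of_subset (Finset.subset_univ _)
    rw [Chars17.natSum_sq_degrees, hcard, S.sum_split, ← Finset.add_sum_erase _ _ hpr,
      Finset.sum_congr rfl ((fun χ hχ => by rw [hdegE χ hχ]) :
        ∀ χ ∈ S.exc, charDegree (χ : G → ℂ) ^ 2 = D ^ 2),
      Finset.sum_const, smul_eq_mul] at hsub
    refine le_trans (le_of_eq ?_) hsub
    congr 2
    simp [principalIrr, charDegree]
  have hRcard : (R.card : ℤ) ≤ ∑ χ ∈ R, A χ ^ 2 := by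
    rw [Finset.card_eq_sum_ones, Nat.cast_sum]
    exact Finset.sum_le_sum fun χ h => by simpa using hA2 χ h
  rcases he with hm2 | hm5
  · have ht : S.exc.card = 5 := by rw [hm2] at hexc; omega
    rw [hm2, ht] at hnorm
    push_cast at hnorm
    have hd0 : d = 0 := by
      by_contra h
      have h1 := sq_pos_of_ne_zero h
      nlinarith [sq_nonneg (d - δ), Finset.sum_nonneg (fun χ (_ : χ ∈ R) => sq_nonneg (A χ))]
    subst hd0
    rw [hm2] at hcongD
    push_cast at hcongD
    have hsum1 : ∑ χ ∈ R, A χ ^ 2 = 1 := by linear_combination hnorm - S.delta_sq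
    rw [ht] at hrel hsq
    have hRnonempty : R.Nonempty := Finset.nonempty_of_sum_ne_zero (hsum1 ▸ one_ne_zero)
    obtain ⟨χ, hχ⟩ := Finset.card_eq_one.1
      (le_antisymm (by omega : R.card ≤ 1) (Finset.card_pos.2 hRnonempty))
    have hχR : χ ∈ R := by rw [hχ]; exact Finset.mem_singleton_self χ
    rw [hχ, Finset.sum_singleton] at hsum1 hrel
    push_cast at hrel
    have hD138 : D < 138 := by
      by_contra hle
      have h5 : 5 * D ^ 2 ≤ 95040 := by omega
      nlinarith
    have h1 := hX11 χ hχR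
    have h2 := hdvd χ
    have h3 : charDegree (χ : G → ℂ) = D + 1 ∨ charDegree (χ : G → ℂ) = D - 1 := by
      rcases S.sign with rfl | rfl <;> rcases sq_eq_one_iff.1 hsum1 with e | e <;>
        rw [e] at hrel <;> omega
    have h4 : D % 11 = 2 ∨ D % 11 = 9 := by
      rcases S.sign with rfl | rfl <;> omega
    obtain ⟨h5, h6⟩ := two_none D hD138 (hdvd _) hD11 h4
    rcases h3 with e | e <;> rw [e] at h2
    · exact h5 h2
    · exact h6 h2
  have ht : S.exc.card = 2 := by rw [hm5] at hexc; omega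
  rw [hm5, ht] at hnorm
  push_cast at hnorm
  rw [ht] at hrel hsq
  push_cast at hrel
  rw [hm5] at hcongD
  push_cast at hcongD
  have hδ2 := S.delta_sq
  have hdd : d * (d - δ) = 0 := by
    by_contra h
    have hd2 : (5 : ℤ) ≤ (d - δ) ^ 2 + d ^ 2 := by
      rcases S.sign with rfl | rfl
      · have : d ≠ 0 ∧ d ≠ 1 := ⟨fun e => h (by rw [e]; ring), fun e => h (by rw [e]; ring)⟩
        rcases (show d ≤ -1 ∨ 2 ≤ d by omega) with h' | h' <;> nlinarith
      · have : d ≠ 0 ∧ d ≠ -1 := ⟨fun e => h (by rw [e]; ring), fun e => h (by rw [e]; ring)⟩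
        rcases (show d ≤ -2 ∨ 1 ≤ d by omega) with h' | h' <;> nlinarith
    have hR0 : R = ∅ := by
      rw [← Finset.card_eq_zero]
      omega
    rw [hR0, Finset.sum_empty] at hrel
    have : (D : ℤ) ∣ 1 := ⟨-(2 * d - δ), by linarith⟩
    have := Nat.eq_one_of_dvd_one (Int.natCast_dvd_natCast.1 (by exact_mod_cast this))
    omega
  have hsum4 : ∑ χ ∈ R, A χ ^ 2 = 4 := by linear_combination hnorm - 2 * hdd - hδ2
  set c := 2 * d - δ with hc
  have hc1 : c = 1 ∨ c = -1 := sq_eq_one_iff.1 (by rw [hc]; linear_combination 4 * hdd + hδ2)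
  have hcD : (11 : ℤ) ∣ (D : ℤ) + 5 * c := by
    obtain ⟨k, hk⟩ := hcongD
    refine ⟨k + d, ?_⟩
    rw [hc]; linear_combination hk
  have hDlt : D < 309 := charDegree_lt_309 hcard _
  have hpm : ∀ χ ∈ R, A χ = 1 ∨ A χ = -1 := by
    by_contra! hall
    obtain ⟨χ, hχ, h1, h2⟩ := hall
    have h4 : 4 ≤ A χ ^ 2 := by
      rcases (show A χ ≤ -2 ∨ 2 ≤ A χ by have := hA0 χ hχ; omega) with h' | h' <;> nlinarith
    have hzero : ∑ η ∈ R.erase χ, A η ^ 2 = 0 ∧ A χ ^ 2 = 4 := by
      have := Finset.add_sum_erase R (fun η => A η ^ 2) hχ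
      rw [hsum4] at this
      have h0 : 0 ≤ ∑ η ∈ R.erase χ, A η ^ 2 := Finset.sum_nonneg fun η _ => sq_nonneg _
      constructor <;> omega
    have hsingle : R = {χ} := by
      refine Finset.eq_singleton_iff_unique_mem.2 ⟨hχ, fun η hη => ?_⟩
      by_contra hne
      have := (Finset.sum_eq_zero_iff_of_nonneg fun η _ => sq_nonneg (A η)).1 hzero.1 η
        (Finset.mem_erase.2 ⟨hne, hη⟩)
      have := hA2 η hη
      omega
    rw [hsingle, Finset.sum_singleton] at hrel
    set X := charDegree (χ : G → ℂ) with hX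
    have hX11' := hX11 χ hχ
    have hcX := hcong χ hχ
    rw [← hX] at hcX
    have hA22 : A χ = 2 ∨ A χ = -2 :=
      sq_eq_sq_iff_eq_or_eq_neg.1 (hzero.2.trans (by norm_num : (4 : ℤ) = 2 ^ 2))
    refine no_two (X : ℤ) (mem_degTwo X (charDegree_lt_309 hcard χ) (hdvd χ) ?_) D (by omega) ?_
      (hdvd _) ?_ (by omega)
    · rcases hA22 with e | e <;> rw [e] at hcX <;> omega
    · rcases hA22 with e | e <;> rw [e] at hrel <;> rcases hc1 with e' | e' <;> rw [e'] at hrel <;>
        omega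
    · rcases hc1 with e' | e' <;> rw [e'] at hcD <;> omega
  have hsgn : ∀ χ ∈ R, (charDegree (χ : G → ℂ) : ℤ) ∈ degOne ∧
      A χ = sgn (charDegree (χ : G → ℂ) : ℤ) := by
    intro χ hχ
    have h1 := hX11 χ hχ
    have h2 := hcong χ hχ
    refine ⟨mem_degOne _ (charDegree_lt_309 hcard χ) (hdvd χ) ?_ (by omega), ?_⟩
    · rcases hpm χ hχ with e | e <;> rw [e] at h2 <;> omega
    · unfold sgn
      rcases hpm χ hχ with e | e <;> rw [e] at h2 ⊢ <;> split_ifs <;> omega
  have hR4 : R.card = 4 := by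
    have h := Finset.sum_congr rfl (fun χ (hχ : χ ∈ R) =>
      (sq_eq_one_iff.2 (hpm χ hχ) : A χ ^ 2 = 1))
    rw [hsum4, Finset.sum_const, nsmul_eq_mul, mul_one] at h
    exact_mod_cast h.symm
  let f₀ : Fin 4 → R := (Finset.equivFinOfCardEq hR4).symm
  let σ := Tuple.sort fun i => charDegree ((f₀ i : IrrCharacter G) : G → ℂ)
  let f : Fin 4 ≃ R := σ.trans (Finset.equivFinOfCardEq hR4).symm
  let X : Fin 4 → ℤ := fun i => (charDegree ((f i : IrrCharacter G) : G → ℂ) : ℤ)
  have hmono : ∀ i j : Fin 4, i ≤ j → X i ≤ X j := fun i j h =>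
    Int.ofNat_le.2 (Tuple.monotone_sort (fun i => charDegree ((f₀ i : IrrCharacter G) : G → ℂ)) h)
  have hsum : ∀ {α : Type} [AddCommMonoid α] (F : IrrCharacter G → α),
      ∑ χ ∈ R, F χ = F (f 0) + F (f 1) + F (f 2) + F (f 3) := fun {α} _ F => by
    rw [← Finset.sum_coe_sort, ← Fintype.sum_equiv f (fun i => F (f i)) _ fun _ => rfl,
      Fin.sum_univ_four]
  set r : Row := ⟨X 0, X 1, X 2, X 3, D, c⟩ with hr
  have hXdeg : ∀ i, X i ∈ degOne := fun i => (hsgn _ (f i).2).1
  have hAX : ∀ i, A (f i) = sgn (X i) := fun i => (hsgn _ (f i).2).2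
  have hlin : r.lin (X 0) (X 1) (X 2) (X 3) D = 0 := by
    rw [hsum, hAX, hAX, hAX, hAX] at hrel
    simp only [hr, Row.lin, X] at hrel ⊢
    linear_combination hrel
  have hdegOK : r.degOK = true := by
    have hsq' : Row.sq (X 0) (X 1) (X 2) (X 3) D ≤ 95040 := by
      rw [hsum] at hsq
      simp only [Row.sq, X]
      zify at hsq
      linarith
    have h3 : (95040 : ℤ) % (D : ℤ) = 0 :=
      Int.emod_eq_zero_of_dvd (by exact_mod_cast hdvd (μ ψ₀))
    have h4 : (1 : ℤ) < (D : ℤ) := by omega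
    have h5 : ((D : ℤ) + 5 * c) % 11 = 0 := Int.emod_eq_zero_of_dvd hcD
    have h6 := hmono 0 1 (by decide)
    have h7 := hmono 1 2 (by decide)
    have h8 := hmono 2 3 (by decide)
    simp only [hr] at hlin ⊢
    simp only [Row.degOK, Bool.and_eq_true, Bool.or_eq_true, beq_iff_eq, decide_eq_true_eq]
    exact ⟨⟨⟨⟨⟨⟨⟨⟨h6, h7⟩, h8⟩, hc1⟩, h4⟩, h3⟩, h5⟩, hlin⟩, hsq'⟩
  have hrow := mem_rows hdegOK (hXdeg 0) (hXdeg 1) (hXdeg 2) (hXdeg 3)
  -- the values at the involution
  set C := Nat.card (Subgroup.centralizer ({u} : Set G)) with hCdef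
  have hC11 : 11 ∣ C := by
    rw [hCdef, ← hP]
    refine Subgroup.card_dvd_of_le fun w hw => ?_
    exact Subgroup.mem_centralizer_singleton_iff.2 (Subgroup.mem_centralizer_iff.1 huC w hw)
  have hCle : C ≤ 7920 := centralizer_bound hcard hu1 hC11
  have hCdvd : C ∣ 95040 := hcard ▸ Subgroup.card_subgroup_dvd_card _
  have hval : ∀ χ : IrrCharacter G, χ ∈ principalBlock M G → χ ≠ principalIrr G →
      ∃ v : ℤ, (χ : G → ℂ) u = v ∧ |v| < (charDegree (χ : G → ℂ) : ℤ) ∧
        ((v - (charDegree (χ : G → ℂ) : ℤ)) % 44 == 0) = true ∧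
        classInt C (charDegree (χ : G → ℂ) : ℤ) v = true := by
    intro χ hχ hne
    obtain ⟨v, hv, h4, hlt⟩ := Small.Order4320.value_involution hnc hne hu (irr_one_eq_charDegree χ)
    have h22 := two_mul_prime_dvd_value_sub (by norm_num) P hP hM hu huC hχ hv
    refine ⟨v, hv, ?_, ?_, ?_⟩
    · rwa [sq_lt_sq, Nat.abs_cast] at hlt
    · rw [beq_iff_eq]
      push_cast at h22
      omega
    · have h := index_mul_value_dvd hv
      have hi := (Subgroup.centralizer ({u} : Set G)).index_mul_card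
      rw [hcard, ← hCdef] at hi
      have hq : (95040 : ℤ) / C = ((Subgroup.centralizer ({u} : Set G)).index : ℤ) := by
        rw [← Nat.cast_ofNat, ← Int.natCast_div, ← hi, Nat.mul_div_cancel _ (by
          rw [hCdef]; exact Nat.card_pos)]
      rw [classInt, hq, beq_iff_eq]
      exact Int.emod_eq_zero_of_dvd h
  choose V hV hVlt hV44 hVint using fun i => hval _ (hRB _ (f i).2) (hRne _ (f i).2)
  obtain ⟨w, hw, hwlt, hw44, hwint⟩ := hval _ (S.mem ψ₀ hψ₀) hprne
  rw [← hD] at hwlt hw44 hwint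
  have hlast : r.last (V 0) (V 1) (V 2) (V 3) = w := by
    have h := S.regular_rel hM hψ₀ hureg
    rw [← Finset.add_sum_erase _ _ hpr, hA1, ← hR, hsum, hV, hV, hV, hV, hAX, hAX, hAX, hAX, hw,
      ht] at h
    simp only [principalIrr, Int.cast_one, one_mul] at h
    have h' : c * w + (1 + sgn (X 0) * V 0 + sgn (X 1) * V 1 + sgn (X 2) * V 2 +
        sgn (X 3) * V 3) = 0 := by
      have : ((c * w + (1 + sgn (X 0) * V 0 + sgn (X 1) * V 1 + sgn (X 2) * V 2 +
          sgn (X 3) * V 3) : ℤ) : ℂ) = ((0 : ℤ) : ℂ) := by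
        rw [hc]
        push_cast at h ⊢
        linear_combination h
      exact_mod_cast this
    simp only [hr, Row.last]
    have hc2 : c * c = 1 := by rcases hc1 with e | e <;> rw [e] <;> norm_num
    linear_combination (-c) * h' + w * hc2
  have hsqC : Row.sq (V 0) (V 1) (V 2) (V 3) w ≤ (C : ℤ) := by
    let F : IrrCharacter G → ℝ := fun χ => Complex.normSq ((χ : G → ℂ) u)
    have hF : ∑ χ : IrrCharacter G, F χ = (C : ℝ) := by
      have h : ∑ χ : IrrCharacter G, ((F χ : ℝ) : ℂ) = ((C : ℝ) : ℂ) := by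
        rw [Finset.sum_congr rfl fun χ _ => (Complex.mul_conj _).symm, column_orth,
          if_pos (IsConj.refl u), hCdef]
        simp
      exact_mod_cast h
    have hle := Finset.sum_le_sum_of_subset_of_nonneg
      (Finset.subset_univ (Finset.univ.filter (· ∈ principalBlock M G))) (f := F)
      (fun χ _ _ => Complex.normSq_nonneg _)
    rw [hF, S.sum_split, ← Finset.add_sum_erase _ _ hpr, ← hR, hsum,
      Finset.sum_congr rfl (g := fun _ => (w : ℝ) * w) (fun χ hχ => by
        obtain ⟨φ, hφ, rfl⟩ := S.mem_exc.1 hχ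
        simp only [F]
        rw [S.regular_eq hM hφ hψ₀ hureg, hw, ← Complex.ofReal_intCast, Complex.normSq_ofReal]),
      Finset.sum_const, ht] at hle
    simp only [F, hV, principalIrr, Complex.normSq_one, ← Complex.ofReal_intCast,
      Complex.normSq_ofReal, nsmul_eq_mul] at hle
    have h2 : ((Row.sq (V 0) (V 1) (V 2) (V 3) w : ℤ) : ℝ) ≤ ((C : ℤ) : ℝ) := by
      simp only [Row.sq]
      push_cast at hle ⊢
      linarith
    exact_mod_cast h2
  have hb : ∀ v : ℤ, v * v ≤ (C : ℤ) → v * v ≤ ((88 : ℕ) : ℤ) * (88 : ℕ) := fun v hv => by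
    have h : -88 ≤ v ∧ v ≤ 88 := by constructor <;> nlinarith
    push_cast
    nlinarith
  have hmem : ∀ i, V i ∈ vals (X i) 88 (fun v => (v - X i) % 44 == 0) := fun i => by
    refine mem_vals (hVlt i) (hb _ ?_) (hV44 i)
    refine le_trans ?_ hsqC
    simp only [Row.sq]
    have := mul_self_nonneg (V 0); have := mul_self_nonneg (V 1); have := mul_self_nonneg (V 2)
    have := mul_self_nonneg (V 3); have := mul_self_nonneg w
    fin_cases i <;> simp <;> linarith
  have hchk := List.all_eq_true.1 elevenInvCheck_ok r hrow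
  simp only [List.all_eq_true] at hchk
  have hb0 := hchk (V 0) (hmem 0) (V 1) (hmem 1) (V 2) (hmem 2) (V 3) (hmem 3)
  rw [hlast] at hb0
  simp only [Bool.not_eq_true', Bool.and_eq_false_iff, decide_eq_false_iff_not,
    List.any_eq_false, List.mem_filter, Bool.and_eq_true, decide_eq_true_eq, beq_eq_false_iff_ne,
    beq_iff_eq, hr] at hb0
  rcases hb0 with (h | h) | h
  · exact h hwlt
  · exact h (by simpa using hw44)
  · refine h (C : ℤ) ⟨centOrder_mem hCdvd, ?_, ?_⟩ ⟨hsqC, ?_⟩
    · omega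
    · exact_mod_cast hCle
    · simp only [Row.classOK, Bool.and_eq_true]
      exact ⟨⟨⟨⟨hVint 0, hVint 1⟩, hVint 2⟩, hVint 3⟩, hwint⟩

end Order

end CfsgLib.MathieuTwelve
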