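import Cfsg.Agent.Lib.MathieuTwelve.SearchFive

/-!
The search at elements of order five with centraliser of order `5 * 2`.
-/
set_option autoImplicit false
set_option maxRecDepth 16000

namespace CfsgLib.MathieuTwelve

theorem fiveCheck_two : fiveCheck 2 = true := by decide +kernel

end CfsgLib.MathieuTwelve
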