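import Cfsg.Agent.Lib.MathieuTwelve.FiveTwoIndex
import Cfsg.Agent.Lib.MathieuTwelve.SearchFiveTwo
import Cfsg.Agent.Lib.MathieuTwelve.SearchFiveTwelve
import Cfsg.Agent.Lib.MathieuTwelve.SearchFiveTwentySeven
import Cfsg.Agent.Lib.MathieuTwelve.SearchFiveSeventyTwo

/-!
# An element of order five and an involution centralising it
-/

set_option autoImplicit false
set_option linter.style.haveILetI false
set_option linter.unusedSectionVars false
open Cfsg CfsgLib.Characters CfsgLib.CharCorr CfsgLib.ClassCount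
open scoped ComplexConjugate

namespace CfsgLib.MathieuTwelve

theorem five_cases : ∀ k ∈ Nat.divisors 1728, ∀ e ∈ [2, 4], 19008 % (k * e) = 0 →
    19008 / (k * e) % 5 = 1 → (e = 2 ∧ (k % 2 = 0 ∨ k = 9)) ∨ (e = 4 ∧ k ∈ [2, 12, 27, 72, 432]) := by
  decide +kernel

theorem rows_coef : ∀ r ∈ rows, sgn r.d1 * (95040 / r.d1) ≤ 19008 ∧ sgn r.d2 * (95040 / r.d2) ≤ 19008 ∧
    sgn r.d3 * (95040 / r.d3) ≤ 19008 ∧ sgn r.d4 * (95040 / r.d4) ≤ 19008 ∧
    r.c * (95040 / r.x) ≤ 2 * 19008 := by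
  decide +kernel

theorem quad_le {r : Row} (hr : r ∈ rows) (v1 v2 v3 v4 w : ℤ) :
    r.quad v1 v2 v3 v4 w ≤ 95040 + 19008 * (v1 * v1 + v2 * v2 + v3 * v3 + v4 * v4 + 2 * (w * w)) := by
  obtain ⟨h1, h2, h3, h4, h5⟩ := rows_coef r hr
  have := mul_le_mul_of_nonneg_right h1 (mul_self_nonneg v1)
  have := mul_le_mul_of_nonneg_right h2 (mul_self_nonneg v2)
  have := mul_le_mul_of_nonneg_right h3 (mul_self_nonneg v3)
  have := mul_le_mul_of_nonneg_right h4 (mul_self_nonneg v4)
  have := mul_le_mul_of_nonneg_right h5 (mul_self_nonneg w)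
  simp only [Row.quad]
  linarith

universe u

variable {G : Type u} [Group G] [Fintype G]

/-- What the searches at elements of order five leave. -/
structure FiveData (B : Principal G) where
  /-- an element of order five -/
  q : G
  /-- an involution centralising it -/
  z : G
  /-- values at `q` -/
  u : IrrCharacter G → ℤ
  /-- values at `z` -/
  v : IrrCharacter G → ℤ
  /-- values at `q * z` -/
  s : IrrCharacter G → ℤ
  hq : orderOf q = 5
  hz : orderOf z = 2
  comm : Commute z q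
  hCq : Nat.card (Subgroup.centralizer ({q} : Set G)) = 10
  hCqz : Nat.card (Subgroup.centralizer ({q * z} : Set G)) = 10
  hNq : Nat.card (Subgroup.normalizer ((Subgroup.zpowers q : Subgroup G) : Set G)) = 40
  hu : ∀ η : IrrCharacter G, (η : G → ℂ) q = (u η : ℂ)
  hv : ∀ η : IrrCharacter G, (η : G → ℂ) z = (v η : ℂ)
  hs : ∀ η : IrrCharacter G, (η : G → ℂ) (q * z) = (s η : ℂ)
  row : B.r = ⟨45, 54, 120, 144, 16, -1⟩
  uval : u (B.χ 0) = 0 ∧ u (B.χ 1) = -1 ∧ u (B.χ 2) = 0 ∧ u (B.χ 3) = -1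
  vval : v (B.χ 0) = 5 ∧ v (B.χ 1) = 6 ∧ v (B.χ 2) = 0
  sval : s (B.χ 0) = 0 ∧ s (B.χ 1) = 1 ∧ s (B.χ 2) = 0
  sign : (v (B.χ 3) = 4 ∧ v B.f0 = 4 ∧ s (B.χ 3) = -1 ∧ s B.f0 = -1) ∨
    (v (B.χ 3) = -4 ∧ v B.f0 = -4 ∧ s (B.χ 3) = 1 ∧ s B.f0 = 1)
  hCz : Nat.card (Subgroup.centralizer ({z} : Set G)) = 120 ∨
    Nat.card (Subgroup.centralizer ({z} : Set G)) = 240
  u_mod : ∀ η : IrrCharacter G, (u η - charDegree (η : G → ℂ)) % 5 = 0
  five : ∀ η : IrrCharacter G, 5 ∣ charDegree (η : G → ℂ) → u η = 0 ∧ s η = 0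
  s_par : ∀ η : IrrCharacter G, (s η - u η) % 2 = 0
  s_mod : ∀ η : IrrCharacter G, (v η - s η) % 5 = 0
  v_mod : ∀ η : IrrCharacter G, (v η - charDegree (η : G → ℂ)) % 4 = 0
  v_lt : ∀ η : IrrCharacter G, η ≠ principalIrr G → |v η| < charDegree (η : G → ℂ)

theorem mem_fiveBound {k : ℕ} {v : ℤ} (h : v * v ≤ 5 * (k : ℤ)) :
    v * v ≤ (fiveBound k : ℤ) * (fiveBound k) := by
  have h1 : v.natAbs ≤ fiveBound k := by
    refine Nat.le_sqrt.2 ?_
    have : ((v.natAbs * v.natAbs : ℕ) : ℤ) ≤ ((5 * k : ℕ) : ℤ) := by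
      rw [Int.natAbs_mul_self]; exact_mod_cast h
    exact_mod_cast this
  have h2 : (v.natAbs : ℤ) ≤ (fiveBound k : ℤ) := by exact_mod_cast h1
  rw [← Int.natAbs_mul_self, Nat.cast_mul]
  exact mul_le_mul h2 h2 (Int.natCast_nonneg _) (Int.natCast_nonneg _)

theorem centralizer_singleton_le_normalizer (y : G) :
    Subgroup.centralizer ({y} : Set G) ≤ Subgroup.normalizer ((Subgroup.zpowers y : Subgroup G) : Set G) := by
  rw [← centralizer_zpowers]
  exact Subgroup.centralizer_le_normalizer _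

variable [IsSimpleGroup G]

open scoped Classical in
/-- Values at `q * z` when something centralising `z` moves `q` to all its powers. -/
theorem exists_mixed_values (hG : Nat.card G = 95040) {q z : G} (hq : orderOf q = 5) (hz : orderOf z = 2)
    (hcomm : Commute z q)
    (hmove : ∀ x ∈ Subgroup.zpowers q, x ≠ 1 → ∃ n : G, Commute n z ∧ n * q * n⁻¹ = x)
    {u v : IrrCharacter G → ℤ} (hu : ∀ η : IrrCharacter G, (η : G → ℂ) q = (u η : ℂ))
    (hum : ∀ η : IrrCharacter G, (u η - charDegree (η : G → ℂ)) % 5 = 0)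
    (hv : ∀ η : IrrCharacter G, (η : G → ℂ) z = (v η : ℂ)) :
    ∃ s : IrrCharacter G → ℤ, (∀ η : IrrCharacter G, (η : G → ℂ) (q * z) = (s η : ℂ)) ∧
      (∀ η : IrrCharacter G, (s η - u η) % 2 = 0) ∧ (∀ η : IrrCharacter G, (v η - s η) % 5 = 0) ∧
      ∀ η : IrrCharacter G, 5 ∣ charDegree (η : G → ℂ) → s η = 0 := by
  haveI : Fact (Nat.Prime 5) := ⟨by norm_num⟩
  have hex : ∀ η : IrrCharacter G, ∃ s : ℤ, (η : G → ℂ) (q * z) = (s : ℂ) ∧ (s - u η) % 2 = 0 ∧
      (v η - s) % 5 = 0 := by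
    intro η
    set d := charDegree (η : G → ℂ) with hd
    let _ : Fintype (Subgroup.zpowers q) := Fintype.ofFinite _
    let _ : Fintype (Subgroup.zpowers z) := Fintype.ofFinite _
    obtain ⟨m, hm⟩ := Sporadic.CharTools.exists_nat_sum (irr_isCharacter η)
      (MonoidHom.noncommCoprod (Subgroup.zpowers q).subtype (Subgroup.zpowers z).subtype
        fun y w => by
          obtain ⟨k, hk⟩ := Subgroup.mem_zpowers_iff.1 w.2
          obtain ⟨l, hl⟩ := Subgroup.mem_zpowers_iff.1 y.2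
          show Commute (y : G) (w : G)
          rw [← hk, ← hl]
          exact (hcomm.symm.zpow_left l).zpow_right k)
    rw [Fintype.sum_prod_type, Nat.card_prod, Nat.card_zpowers, hq, Nat.card_zpowers, hz] at hm
    simp only [MonoidHom.noncommCoprod_apply, Subgroup.coe_subtype] at hm
    have e : ∀ y : G, ∑ a : Subgroup.zpowers z, (η : G → ℂ) (y * a) =
        (η : G → ℂ) (y * 1) + (η : G → ℂ) (y * z) := fun y => by
      convert Sporadic.CharTools.sum_zpowers_two (fun g => (η : G → ℂ) (y * g)) hz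
    simp only [e] at hm
    rw [← Finset.add_sum_erase _ _ (Finset.mem_univ (1 : Subgroup.zpowers q)),
      Finset.sum_congr rfl ((fun y hy => by
        have hy1 : (y : G) ≠ 1 := fun h => (Finset.mem_erase.1 hy).1 (Subtype.ext h)
        obtain ⟨n, hnz, hn⟩ := hmove y y.2 hy1
        have hyz : (η : G → ℂ) ((y : G) * z) = (η : G → ℂ) (q * z) := by
          have heq : (y : G) * z = n * (q * z) * n⁻¹ :=
            calc (y : G) * z = n * q * n⁻¹ * z := by rw [hn]
              _ = n * q * (z * n⁻¹) := by rw [mul_assoc, (hnz.inv_left).eq]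
              _ = n * (q * z) * n⁻¹ := by group
          rw [heq, irr_isClassFunction η (q * z) n]
        rw [mul_one, hyz, ← hn, irr_isClassFunction η q n, hu]) :
        ∀ y ∈ Finset.univ.erase (1 : Subgroup.zpowers q),
          (η : G → ℂ) ((y : G) * 1) + (η : G → ℂ) ((y : G) * z) = (u η : ℂ) + (η : G → ℂ) (q * z)),
      Finset.sum_const, Finset.card_erase_of_mem (Finset.mem_univ _), Finset.card_univ,
      ← Nat.card_eq_fintype_card, Nat.card_zpowers, hq] at hm
    simp only [OneMemClass.coe_one, one_mul, irr_one_eq_charDegree, hv, nsmul_eq_mul] at hm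
    norm_num at hm
    have hr : (η : G → ℂ) (q * z) = (((10 * (m : ℤ) - d - v η - 4 * u η : ℤ) : ℚ) / 4 : ℚ) := by
      push_cast
      linear_combination (1 / 4 : ℂ) * hm
    have hi : IsIntegral ℤ ((((10 * (m : ℤ) - d - v η - 4 * u η : ℤ) : ℚ) / 4 : ℚ) : ℂ) := by
      rw [← hr]; exact ClassCount.irr_isIntegral η _
    obtain ⟨s, hsq⟩ := exists_int_of_isIntegral_rat hi
    have hval : (η : G → ℂ) (q * z) = (s : ℂ) := by rw [hr, ← hsq]; simp
    refine ⟨s, hval, ?_, ?_⟩
    · -- average over the involution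
      have hB : ∀ b ∈ Subgroup.zpowers z, Commute q b := fun b hb => by
        obtain ⟨k, rfl⟩ := Subgroup.mem_zpowers_iff.1 hb
        exact hcomm.symm.zpow_right k
      have h := Sporadic.CharTools.isIntegral_average (irr_isCharacter η) q (Subgroup.zpowers z) hB
      rw [Nat.card_zpowers, hz, e q, mul_one, hu, hval] at h
      have h2 : ((2 : ℕ) : ℂ)⁻¹ * ((u η : ℂ) + (s : ℂ)) = ((((u η + s : ℤ) : ℚ) / 2 : ℚ) : ℂ) := by
        push_cast; ring
      obtain ⟨j, hj⟩ := exists_int_of_isIntegral_rat (h2 ▸ h)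
      have hj' : u η + s = 2 * j := by
        have : (((u η + s : ℤ)) : ℚ) = ((2 * j : ℤ) : ℚ) := by push_cast at hj ⊢; linarith
        exact_mod_cast this
      omega
    · have h4 : (10 * (m : ℤ) - d - v η - 4 * u η : ℤ) = 4 * s := by
        have : ((10 * (m : ℤ) - d - v η - 4 * u η : ℤ) : ℚ) = ((4 * s : ℤ) : ℚ) := by
          push_cast at hsq ⊢; linarith
        exact_mod_cast this
      have := hum η
      omega
  choose s h1 h2 h3 using hex
  refine ⟨s, h1, h2, h3, fun η h5 => ?_⟩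
  have h := h1 η
  rw [vanish_five hG η h5 (by
    rw [hcomm.symm.orderOf_mul_eq_mul_orderOf_of_coprime (by rw [hq, hz]; norm_num), hq, hz]
    norm_num)] at h
  exact_mod_cast h.symm

open scoped Classical in
/-- An involution centralising `q` and a group moving `q` to all its powers. -/
theorem exists_invol_five (hG : Nat.card G = 95040) [Fact (Nat.Prime 5)] {q : G} (hq : orderOf q = 5)
    {k : ℕ} (hk : k ∈ [2, 12, 72]) (hC : Nat.card (Subgroup.centralizer ({q} : Set G)) = 5 * k)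
    (hN : Nat.card (Subgroup.normalizer ((Subgroup.zpowers q : Subgroup G) : Set G)) = 20 * k) :
    ∃ z : G, orderOf z = 2 ∧ Commute z q ∧
      ∀ x ∈ Subgroup.zpowers q, x ≠ 1 → ∃ n : G, Commute n z ∧ n * q * n⁻¹ = x := by
  haveI : Fact (Nat.Prime 2) := ⟨Nat.prime_two⟩
  set N := Subgroup.normalizer ((Subgroup.zpowers q : Subgroup G) : Set G) with hNdef
  set C := Subgroup.centralizer ({q} : Set G) with hCdef
  obtain ⟨a, hka, ha, hgcd⟩ : ∃ a : ℕ, 2 ^ a ∣ 20 * k ∧ 8 ≤ 2 ^ a ∧ 4 * Nat.gcd (2 ^ a) (5 * k) = 2 ^ a := by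
    simp only [List.mem_cons, List.not_mem_nil, or_false] at hk
    rcases hk with rfl | rfl | rfl
    · exact ⟨3, by norm_num⟩
    · exact ⟨4, by norm_num⟩
    · exact ⟨5, by norm_num⟩
  obtain ⟨T', hT'⟩ := Sylow.exists_subgroup_card_pow_prime (G := N) 2 (n := a) (hN ▸ hka)
  set T := T'.map N.subtype with hTdef
  have hTN : T ≤ N := Subgroup.map_subtype_le T'
  have hT : Nat.card T = 2 ^ a := by
    rw [hTdef, Subgroup.card_map_of_injective N.subtype_injective, hT']
  have hTp : IsPGroup 2 T := IsPGroup.of_card hT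
  have hdvd : Nat.card (T ⊓ C : Subgroup G) ∣ Nat.gcd (2 ^ a) (5 * k) :=
    Nat.dvd_gcd (hT ▸ Subgroup.card_dvd_of_le inf_le_left) (hC ▸ Subgroup.card_dvd_of_le inf_le_right)
  have hCnormal : ∀ n ∈ N, ∀ c ∈ C, n * c * n⁻¹ ∈ C := by
    intro n hn c hc
    refine Subgroup.mem_centralizer_singleton_iff.2 ?_
    obtain ⟨j, hj⟩ := Subgroup.mem_zpowers_iff.1
      ((Subgroup.mem_normalizer_iff.1 (N.inv_mem hn) q).1 (Subgroup.mem_zpowers q))
    rw [inv_inv] at hj
    have h : Commute c (n⁻¹ * q * n) := hj ▸ Commute.zpow_right (show Commute c q from Subgroup.mem_centralizer_singleton_iff.1 hc) j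
    calc n * c * n⁻¹ * q = n * (c * (n⁻¹ * q * n)) * n⁻¹ := by group
      _ = n * ((n⁻¹ * q * n) * c) * n⁻¹ := by rw [h.eq]
      _ = q * (n * c * n⁻¹) := by group
  have hidx : C.relIndex T ≤ 4 := by
    have hCN : C ≤ N := centralizer_singleton_le_normalizer q
    have h2 : C.relIndex N = 4 := by
      have h := Subgroup.relIndex_mul_relIndex ⊥ C N bot_le hCN
      rw [Subgroup.relIndex_bot_left, Subgroup.relIndex_bot_left, hC, hN] at h
      have hk0 : 0 < k := by
        simp only [List.mem_cons, List.not_mem_nil, or_false] at hk; omega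
      nlinarith
    rw [← h2]
    exact Subgroup.relIndex_le_of_le_right hTN (by rw [h2]; norm_num)
  have hmul : Nat.card (T ⊓ C : Subgroup G) * C.relIndex T = 2 ^ a := by
    rw [← hT, ← Subgroup.inf_relIndex_left T C, ← Subgroup.relIndex_bot_left, ← Subgroup.relIndex_bot_left]
    exact Subgroup.relIndex_mul_relIndex ⊥ _ _ bot_le inf_le_left
  set S' : Subgroup T := C.subgroupOf T with hS'
  haveI : S'.Normal := ⟨fun c hc n => hCnormal n (hTN n.2) c hc⟩
  have hS2 : 2 ∣ Nat.card S' := by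
    have hcard : Nat.card S' = Nat.card (T ⊓ C : Subgroup G) := by
      rw [hS', ← Subgroup.inf_subgroupOf_left]
      exact Nat.card_congr (Subgroup.subgroupOfEquivOfLe inf_le_left).toEquiv
    obtain ⟨b, -, hb⟩ := (Nat.dvd_prime_pow Nat.prime_two).1
      (Dvd.intro _ hmul : Nat.card (T ⊓ C : Subgroup G) ∣ 2 ^ a)
    rw [hcard, hb]
    refine dvd_pow_self 2 fun h => ?_
    rw [hb, h, pow_zero, one_mul] at hmul
    omega
  letI : MulAction T S' := MulAction.compHom S' (MulAut.conjNormal (H := S'))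
  obtain ⟨b, hb, hb1⟩ := hTp.exists_fixed_point_of_prime_dvd_card_of_fixed_point (α := S') hS2
    (a := 1) (fun t => Subtype.ext (by
      show ((MulAut.conjNormal (H := S') t (1 : S') : S') : T) = 1
      simp))
  have hfix : ∀ t : T, Commute (t : G) ((b : T) : G) := by
    intro t
    have h := congrArg (fun x : S' => ((x : T) : G)) (hb t)
    change (((MulAut.conjNormal (H := S') t b : S') : T) : G) = ((b : T) : G) at h
    rw [MulAut.conjNormal_apply] at h
    simp only [Subgroup.coe_mul, Subgroup.coe_inv] at h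
    exact mul_inv_eq_iff_eq_mul.1 h
  have hord : 2 ∣ orderOf ((b : T) : G) := by
    have hne : orderOf ((b : T) : G) ≠ 1 := fun h =>
      hb1 (Subtype.ext (Subtype.ext (orderOf_eq_one_iff.1 h))).symm
    obtain ⟨c, hc⟩ := IsPGroup.iff_orderOf.1 hTp (b : T)
    rw [← Subgroup.orderOf_coe] at hc
    rw [hc] at hne ⊢
    exact dvd_pow_self 2 fun h => hne (by rw [h, pow_zero])
  refine ⟨((b : T) : G) ^ (orderOf ((b : T) : G) / 2),
    orderOf_pow_orderOf_div (orderOf_pos _).ne' hord,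
    Commute.pow_left (Subgroup.mem_centralizer_singleton_iff.1
      (show ((b : T) : G) ∈ C from b.2)) _, fun x hx hx1 => ?_⟩
  obtain ⟨n, hn, hnx⟩ := conj_of_card (p := 5) (Subgroup.zpowers q) T (by rw [Nat.card_zpowers, hq]) hTN
    (Subgroup.mem_zpowers q) (fun e => by rw [e, orderOf_one] at hq; omega)
    (by
      rw [hT, ← hgcd]
      exact Nat.mul_le_mul_left 4 (Nat.le_of_dvd (Nat.gcd_pos_of_pos_left _ (by positivity)) hdvd))
    x hx hx1
  exact ⟨n, (hfix ⟨n, hn⟩).pow_right _, hnx⟩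

open scoped Classical in
/-- The configuration at the prime five. -/
theorem Principal.exists_five_data (B : Principal G) (hG : Nat.card G = 95040) [Fact (Nat.Prime 11)]
    (hE : ∀ P : Sylow 11 G, Nat.card (AbelianFrob.CP P) = 11 ∧ Nat.card (AbelianFrob.NP P) = 55) :
    Nonempty (FiveData B) := by
  haveI : Fact (Nat.Prime 5) := ⟨by norm_num⟩
  obtain ⟨q, q', hq, hqq', ha⟩ := exists_five B hG hE
  set a := q⁻¹ * q' with hadef
  have hq1 : q ≠ 1 := fun e => by rw [e, orderOf_one] at hq; omega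
  have hq11 : ¬ 11 ∣ orderOf q := by rw [hq]; norm_num
  obtain ⟨Q, hQ, -⟩ := Small.exists_unique_sylow_mem hq fun Q => card_sylow_five hG Q
  have hP := card_sylow_five hG Q
  have hQz := Small.eq_zpowers_of_mem hP hQ hq1
  have hCP : AbelianFrob.CP Q = Subgroup.centralizer ({q} : Set G) :=
    (Order7920.centralizer_singleton_eq Q hP hQ hq1).symm
  obtain ⟨e, he1, hed, hC5, heN, hen⟩ := Small.sylow_prime_order_data (not_comm hG) Q hP
  have hrel := Small.card_centralizer_mul_relIndex (Q : Subgroup G)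
  rw [← heN] at hrel
  have hre : (AbelianFrob.CP Q).relIndex (AbelianFrob.NP Q) = e :=
    Nat.eq_of_mul_eq_mul_left Nat.card_pos hrel
  change 5 ∣ Nat.card (AbelianFrob.CP Q) at hC5
  change Nat.card (AbelianFrob.CP Q) * e * _ = _ at hen
  obtain ⟨k, hk⟩ := hC5
  have hCq : Nat.card (Subgroup.centralizer ({q} : Set G)) = 5 * k := hCP ▸ hk
  have hk' : k ∈ Nat.divisors 1728 := by
    refine Nat.mem_divisors.2 ⟨?_, by norm_num⟩
    have h1 : 5 * k ∣ 11 * 8640 := by
      have := Subgroup.card_subgroup_dvd_card (AbelianFrob.CP Q)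
      rwa [hG, hk] at this
    have h2 : ¬ 11 ∣ 5 * k := hCq ▸ B.not_eleven_dvd hq1 hq11
    have h3 := ((show Nat.Prime 11 by norm_num).coprime_iff_not_dvd.2 h2).symm.dvd_of_dvd_mul_left h1
    rw [show (8640 : ℕ) = 5 * 1728 by norm_num] at h3
    exact Nat.dvd_of_mul_dvd_mul_left (by norm_num) h3
  have he24 : e = 2 ∨ e = 4 := by
    have := Nat.le_of_dvd (by norm_num) hed
    interval_cases e <;> simp_all
  have hn5 : Nat.card (Sylow 5 G) % 5 = 1 := card_sylow_modEq_one 5 G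
  rw [hk, hG] at hen
  have hprod : k * e * Nat.card (Sylow 5 G) = 19008 := by
    have : 5 * (k * e * Nat.card (Sylow 5 G)) = 5 * 19008 := by rw [← mul_assoc, ← mul_assoc, hen]
    exact Nat.eq_of_mul_eq_mul_left (by norm_num) this
  have hke : 0 < k * e := Nat.pos_of_ne_zero fun h => by rw [h, zero_mul] at hprod; omega
  rcases five_cases k hk' e (by simpa using he24) (by rw [← hprod, Nat.mul_mod_right])
    (by rw [← hprod, Nat.mul_div_cancel_left _ hke]; exact hn5) with ⟨he, hev⟩ | ⟨he, hkl⟩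
  · exfalso
    rcases hev with h | h
    · exact B.not_even hG hE Q (hre.trans he) (by rw [hk]; omega)
    · exact B.not_forty_five hG hE Q (hre.trans he) (by rw [hk, h])
  subst he
  -- all powers of `q` are conjugate
  have hN : Nat.card (Subgroup.normalizer ((Subgroup.zpowers q : Subgroup G) : Set G)) = 20 * k := by
    rw [← hQz, ← heN]
    show Nat.card (AbelianFrob.CP Q) * 4 = _
    rw [hk]; ring
  have hmoveN : ∀ x ∈ Subgroup.zpowers q, x ≠ 1 → IsConj q x := by
    intro x hx hx1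
    obtain ⟨n, -, hn⟩ := conj_of_card (p := 5) (Subgroup.zpowers q)
      (Subgroup.normalizer ((Subgroup.zpowers q : Subgroup G) : Set G)) (by rw [Nat.card_zpowers, hq])
      le_rfl (Subgroup.mem_zpowers q) hq1 (by
        rw [inf_eq_right.2 (centralizer_singleton_le_normalizer q), hCq, hN]; omega) x hx hx1
    exact isConj_iff.2 ⟨n, hn⟩
  choose u hu hum0 using fun η : IrrCharacter G => Sporadic.CharTools.exists_int_of_rational
    (irr_isCharacter η) (irr_one_eq_charDegree η) (p := 5) hq hmoveN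
  have hum : ∀ η : IrrCharacter G, (u η - charDegree (η : G → ℂ)) % 5 = 0 := fun η => by
    have := hum0 η; omega
  have hu0 : ∀ η : IrrCharacter G, 5 ∣ charDegree (η : G → ℂ) → u η = 0 := fun η h => by
    have h' := hu η
    rw [vanish_five hG η h (by rw [hq])] at h'
    exact_mod_cast h'.symm
  have hult : ∀ η : IrrCharacter G, η ≠ principalIrr G → |u η| < charDegree (η : G → ℂ) := by
    intro η hη
    have h := Sporadic.CharTools.norm_lt_degree (not_comm hG) hη (irr_one_eq_charDegree η) hq1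
    rw [hu, Complex.norm_intCast] at h
    exact_mod_cast h
  have hlin := B.lin_eq hq11 hu
  have hsq := B.sq_le hq11 hu
  have hZnn : 0 ≤ ∑ η ∈ B.Z, u η * u η := Finset.sum_nonneg fun η _ => mul_self_nonneg _
  rw [hCq] at hsq
  push_cast at hsq
  obtain ⟨hd1, hd2, hd3, hd4, hdx, -⟩ := rows_degrees _ B.mem
  have hge : ∀ i, 5 ≤ B.r.ds i := by intro i; fin_cases i <;> simp [Row.ds] <;> assumption
  have hnep : ∀ η : IrrCharacter G, (5 : ℤ) ≤ charDegree (η : G → ℂ) → η ≠ principalIrr G := by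
    intro η h e
    subst e
    simp [principalIrr, charDegree] at h
  -- pairs with product `a`
  obtain ⟨j, hj, hpos⟩ : ∃ j : ℕ, (pairs q q {a}).card = 11 * j ∧ 0 < j := by
    obtain ⟨j, hj⟩ := eleven_dvd_pairs hG hE ha hq
    refine ⟨j, hj, Nat.pos_of_ne_zero fun h => ?_⟩
    rw [h, mul_zero, Finset.card_eq_zero] at hj
    refine Finset.notMem_empty (q⁻¹, q') (hj ▸ ?_)
    simp only [pairs, Finset.mem_filter, Finset.mem_product, mem_cls, Finset.mem_singleton]
    exact ⟨⟨hmoveN _ (Subgroup.inv_mem _ (Subgroup.mem_zpowers q)) (inv_ne_one.2 hq1), hqq'⟩, hadef.symm⟩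
  have hquad := B.quad_pairs hG ha hq11 hu
  rw [hj, hCq] at hquad
  push_cast at hquad
  simp only [Row.sq] at hsq
  have hsqi : ∀ i, u (B.χ i) * u (B.χ i) ≤ 5 * (k : ℤ) := by
    intro i
    have := mul_self_nonneg (u (B.χ 0))
    have := mul_self_nonneg (u (B.χ 1))
    have := mul_self_nonneg (u (B.χ 2))
    have := mul_self_nonneg (u (B.χ 3))
    have := mul_self_nonneg (u B.f0)
    fin_cases i <;> simp only [Fin.zero_eta, Fin.mk_one, Fin.reduceFinMk] <;> linarith
  by_cases h432 : k = 432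
  · exfalso
    subst h432
    have h := quad_le B.mem (u (B.χ 0)) (u (B.χ 1)) (u (B.χ 2)) (u (B.χ 3)) (u B.f0)
    push_cast at hquad hsq
    have : (1 : ℤ) ≤ (j : ℤ) := by exact_mod_cast hpos
    nlinarith
  have hkl' : k ∈ [2, 12, 27, 72] := by
    simp only [List.mem_cons, List.not_mem_nil, or_false] at hkl ⊢; omega
  have hchk : fiveCheck k = true := by
    simp only [List.mem_cons, List.not_mem_nil, or_false] at hkl'
    rcases hkl' with rfl | rfl | rfl | rfl
    exacts [fiveCheck_two, fiveCheck_twelve, fiveCheck_twentyseven, fiveCheck_seventytwo]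
  simp only [fiveCheck, List.all_eq_true] at hchk
  have hslot : ∀ η : IrrCharacter G, ∀ d : ℤ, (charDegree (η : G → ℂ) : ℤ) = d →
      fiveSlot d (u η) = true := by
    intro η d hd
    simp only [fiveSlot, Bool.and_eq_true, beq_iff_eq, Bool.or_eq_true, bne_iff_ne, ne_eq, ← hd]
    refine ⟨hum η, ?_⟩
    by_cases h : 5 ∣ charDegree (η : G → ℂ)
    · exact Or.inr (hu0 η h)
    · left; omega
  have hmem : ∀ i, u (B.χ i) ∈ vals (B.r.ds i) (fiveBound k) (fiveSlot (B.r.ds i)) := fun i =>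
    mem_vals (B.deg i ▸ hult _ (hnep _ (B.deg i ▸ hge i))) (mem_fiveBound (hsqi i)) (hslot _ _ (B.deg i))
  have h := hchk B.r B.mem _ (hmem 0) _ (hmem 1) _ (hmem 2) _ (hmem 3)
  rw [hlin.2] at h
  have hguard : (decide (|u B.f0| < B.r.x) && fiveSlot B.r.x (u B.f0) &&
      decide (Row.sq (u (B.χ 0)) (u (B.χ 1)) (u (B.χ 2)) (u (B.χ 3)) (u B.f0) ≤ 5 * (k : ℤ)) &&
      B.r.classOK (5 * (k : ℤ)) (u (B.χ 0)) (u (B.χ 1)) (u (B.χ 2)) (u (B.χ 3)) (u B.f0) &&
      decide (0 < B.r.quad (u (B.χ 0)) (u (B.χ 1)) (u (B.χ 2)) (u (B.χ 3)) (u B.f0)) &&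
      B.r.quad (u (B.χ 0)) (u (B.χ 1)) (u (B.χ 2)) (u (B.χ 3)) (u B.f0) % (275 * (k : ℤ) * k) == 0) =
        true := by
    simp only [Bool.and_eq_true, decide_eq_true_eq, beq_iff_eq]
    refine ⟨⟨⟨⟨⟨B.degX.1 ▸ hult _ (hnep _ (B.degX.1 ▸ hdx)), hslot _ _ B.degX.1⟩,
      by simp only [Row.sq]; linarith⟩, ?_⟩, ?_⟩, ?_⟩
    · have := B.classOK hG hu
      rw [hCq] at this
      exact_mod_cast this
    · have : (1 : ℤ) ≤ (j : ℤ) := by exact_mod_cast hpos
      have hk0 : (2 : ℤ) ≤ (k : ℤ) := by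
        simp only [List.mem_cons, List.not_mem_nil, or_false] at hkl'
        omega
      rw [← hquad]
      positivity
    · rw [← hquad, show (11 * (j : ℤ)) * (5 * k) * (5 * k) = 275 * (k : ℤ) * k * j by ring,
        Int.mul_emod_right]
  rw [hguard, Bool.not_true, Bool.false_or, Bool.and_eq_true] at h
  obtain ⟨heven, hcond⟩ := h
  have hk3 : k ∈ [2, 12, 72] := by
    simp only [List.mem_cons, List.not_mem_nil, or_false, beq_iff_eq] at hkl' heven ⊢; omega
  obtain ⟨z, hz, hcomm, hmove⟩ := exists_invol_five hG hq hk3 hCq hN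
  obtain ⟨v, hv, hv4, hvlt⟩ := exists_invol_values hG hz
  obtain ⟨s, hs, hspar, hsmod, hs0⟩ := exists_mixed_values hG hq hz hcomm hmove hu hum hv
  have hoqz : orderOf (q * z) = 10 := by
    rw [hcomm.symm.orderOf_mul_eq_mul_orderOf_of_coprime (by rw [hq, hz]; norm_num), hq, hz]
  have hqz11 : ¬ 11 ∣ orderOf (q * z) := by rw [hoqz]; norm_num
  have hz11 : ¬ 11 ∣ orderOf z := by rw [hz]; norm_num
  have hCle : Subgroup.centralizer ({q * z} : Set G) ≤ Subgroup.centralizer ({q} : Set G) := by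
    intro c hc
    refine Subgroup.mem_centralizer_singleton_iff.2 ?_
    have h : Commute c (q * z) := Subgroup.mem_centralizer_singleton_iff.1 hc
    have h6 : (q * z) ^ 6 = q := by
      rw [hcomm.symm.mul_pow, show 6 = orderOf q + 1 by rw [hq], pow_succ, pow_orderOf_eq_one, one_mul,
        show orderOf q + 1 = orderOf z * 3 by rw [hq, hz], pow_mul, pow_orderOf_eq_one, one_pow, mul_one]
    exact h6 ▸ (h.pow_right 6).eq
  obtain ⟨hvs, hvx, hvsq⟩ := B.invol_slot hG hz hv hvlt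
  have hv5 : ∀ η : IrrCharacter G, 5 ∣ charDegree (η : G → ℂ) → v η % 5 = 0 := fun η h => by
    have := hsmod η; rw [hs0 η h] at this; omega
  have hinv : ∀ η : IrrCharacter G, ∀ d : ℤ, (charDegree (η : G → ℂ) : ℤ) = d → invSlot d (v η) = true := by
    intro η d hd
    simp only [invSlot, Bool.and_eq_true, beq_iff_eq, Bool.or_eq_true, bne_iff_ne, ne_eq, ← hd]
    refine ⟨hv4 η, ?_⟩
    by_cases h : 5 ∣ charDegree (η : G → ℂ)
    · exact Or.inr (hv5 η h)
    · left; omega
  have hs5 : ∀ η : IrrCharacter G, ∀ d : ℤ, (charDegree (η : G → ℂ) : ℤ) = d →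
      ((s η - u η) % 2 == 0 && (d % 5 != 0 || s η == 0)) = true ∧
      mixSlot d (u η) (v η) (s η) = true ∧
      (invSlot d (v η) && (v η - s η) % 5 == 0) = true := by
    intro η d hd
    have h1 := hspar η
    have h2 := hsmod η
    have h0 : d % 5 ≠ 0 ∨ s η = 0 := by
      by_cases h : 5 ∣ charDegree (η : G → ℂ)
      · exact Or.inr (hs0 η h)
      · left; omega
    refine ⟨?_, ?_, ?_⟩ <;>
      simp only [mixSlot, Bool.and_eq_true, beq_iff_eq, Bool.or_eq_true, bne_iff_ne, ne_eq]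
    · exact ⟨h1, h0⟩
    · exact ⟨⟨by omega, h1⟩, h0⟩
    · exact ⟨hinv η d hd, h2⟩
  have hssq := B.sq_le hqz11 hs
  have hsle : (Nat.card (Subgroup.centralizer ({q * z} : Set G)) : ℤ) ≤ 5 * (k : ℤ) := by
    have := Nat.le_of_dvd Nat.card_pos (Subgroup.card_dvd_of_le hCle)
    rw [hCq] at this
    exact_mod_cast this
  have hsZ : 0 ≤ ∑ η ∈ B.Z, s η * s η := Finset.sum_nonneg fun η _ => mul_self_nonneg _
  have hsle' : Row.sq (s (B.χ 0)) (s (B.χ 1)) (s (B.χ 2)) (s (B.χ 3)) (s B.f0) ≤ 5 * (k : ℤ) := by linarith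
  have hsi : ∀ i, s (B.χ i) * s (B.χ i) ≤ 5 * (k : ℤ) := by
    intro i
    simp only [Row.sq] at hsle'
    have := mul_self_nonneg (s (B.χ 0))
    have := mul_self_nonneg (s (B.χ 1))
    have := mul_self_nonneg (s (B.χ 2))
    have := mul_self_nonneg (s (B.χ 3))
    have := mul_self_nonneg (s B.f0)
    fin_cases i <;> simp only [Fin.zero_eta, Fin.mk_one, Fin.reduceFinMk] <;> linarith
  have hslt : ∀ i, |s (B.χ i)| < B.r.ds i := fun i => by
    have h := Sporadic.CharTools.norm_lt_degree (not_comm hG) (hnep _ (B.deg i ▸ hge i))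
      (irr_one_eq_charDegree (B.χ i)) (g := q * z) (fun e => by rw [e, orderOf_one] at hoqz; omega)
    rw [hs, Complex.norm_intCast] at h
    rw [← B.deg i]
    exact_mod_cast h
  obtain ⟨hC20, -⟩ := B.invCents_mem hG hz (m := 20) (by
    have h8 := eight_dvd_centralizer hG hz
    have h5 : 5 ∣ Nat.card (Subgroup.centralizer ({z} : Set G)) := by
      rw [← hq, ← Nat.card_zpowers]
      refine Subgroup.card_dvd_of_le ?_
      rw [Subgroup.zpowers_le, Subgroup.mem_centralizer_singleton_iff]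
      exact hcomm.eq.symm
    omega)
  have hcents : (Nat.card (Subgroup.centralizer ({z} : Set G)) : ℤ) ∈
      B.r.centsFor (v (B.χ 0)) (v (B.χ 1)) (v (B.χ 2)) (v (B.χ 3)) (v B.f0) :=
    List.mem_filter.2 ⟨hC20, by simp only [Bool.and_eq_true, decide_eq_true_eq]; exact ⟨hvsq, B.classOK hG hv⟩⟩
  have hnonempty : (B.r.centsFor (v (B.χ 0)) (v (B.χ 1)) (v (B.χ 2)) (v (B.χ 3)) (v B.f0)).isEmpty = false := by
    rw [List.isEmpty_eq_false_iff]
    exact List.ne_nil_of_mem hcents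
  have hvlast := (B.lin_eq hz11 hv).2
  have hslast := (B.lin_eq hqz11 hs).2
  have hquadz := B.quad_involution hG hE hz hv
  have hgood : fiveGood B.r k (u (B.χ 0)) (u (B.χ 1)) (u (B.χ 2)) (u (B.χ 3)) (v (B.χ 0)) (v (B.χ 1))
      (v (B.χ 2)) (v (B.χ 3)) (v B.f0) (s (B.χ 0)) (s (B.χ 1)) (s (B.χ 2)) (s (B.χ 3)) (s B.f0) = true := by
    by_cases hk2 : k = 2
    · simp only [hk2, beq_self_eq_true, cond_true, mixFirst, List.all_eq_true] at hcond
      subst hk2
      have hm : ∀ i, s (B.χ i) ∈ vals (B.r.ds i) (fiveBound 2)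
          (fun w => (w - u (B.χ i)) % 2 == 0 && (B.r.ds i % 5 != 0 || w == 0)) := fun i =>
        mem_vals (hslt i) (mem_fiveBound (hsi i)) (hs5 _ _ (B.deg i)).1
      have h := hcond _ (hm 0) _ (hm 1) _ (hm 2) _ (hm 3)
      rw [hslast, (hs5 B.f0 _ B.degX.1).1, decide_eq_true hsle', Bool.true_and, Bool.not_true,
        Bool.false_or, List.all_eq_true] at h
      have hm' : ∀ i, v (B.χ i) ∈ vals (B.r.ds i) 93
          (fun w => invSlot (B.r.ds i) w && (w - s (B.χ i)) % 5 == 0) := fun i =>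
        mem_vals (hvs i).1 (hvs i).2 (hs5 _ _ (B.deg i)).2.2
      have h' := h _ (hm' 0)
      simp only [List.all_eq_true] at h'
      have h'' := h' _ (hm' 1) _ (hm' 2) _ (hm' 3)
      rw [hvlast, decide_eq_true hvx, hquadz, hnonempty, (hs5 B.f0 _ B.degX.1).2.2] at h''
      simpa using h''
    · have hk2' : (k == 2) = false := by simpa using hk2
      simp only [hk2', cond_false, invCheck, List.all_eq_true] at hcond
      have hm : ∀ i, v (B.χ i) ∈ vals (B.r.ds i) 93 (invSlot (B.r.ds i)) := fun i =>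
        mem_vals (hvs i).1 (hvs i).2 (hinv _ _ (B.deg i))
      have h := hcond _ (hm 0) _ (hm 1) _ (hm 2) _ (hm 3)
      rw [hvlast, decide_eq_true hvx, hinv B.f0 _ B.degX.1, hquadz, hnonempty] at h
      simp only [Bool.true_and, beq_self_eq_true, Bool.not_false, Bool.not_true, Bool.false_or,
        mixCheck, List.all_eq_true] at h
      have hm' : ∀ i, s (B.χ i) ∈ vals (B.r.ds i) (fiveBound k)
          (mixSlot (B.r.ds i) (u (B.χ i)) (v (B.χ i))) := fun i =>
        mem_vals (hslt i) (mem_fiveBound (hsi i)) (hs5 _ _ (B.deg i)).2.1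
      have h' := h _ (hm' 0) _ (hm' 1) _ (hm' 2) _ (hm' 3)
      rw [hslast, (hs5 B.f0 _ B.degX.1).2.1, decide_eq_true hsle'] at h'
      simpa using h'
  simp only [fiveGood, Bool.and_eq_true, Bool.or_eq_true, beq_iff_eq, List.all_eq_true] at hgood
  obtain ⟨⟨⟨⟨⟨⟨⟨⟨⟨⟨⟨⟨⟨hr, hk2⟩, e1⟩, e2⟩, e3⟩, e4⟩, e5⟩, e6⟩, e7⟩, e8⟩, e9⟩, e10⟩, e11⟩, hall⟩ := hgood
  subst hk2
  refine ⟨{ q := q, z := z, u := u, v := v, s := s, hq := hq, hz := hz, comm := hcomm, hCq := hCq,
            hCqz := ?_, hNq := hN, hu := hu, hv := hv, hs := hs, row := hr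
            uval := ⟨e1, e2, e3, e4⟩, vval := ⟨e5, e6, e7⟩, sval := ⟨e9, e10, e11⟩, sign := ?_
            hCz := ?_, u_mod := hum, five := fun η h => ⟨hu0 η h, hs0 η h⟩, s_par := hspar
            s_mod := hsmod, v_mod := hv4, v_lt := hvlt }⟩
  · have h1 := Nat.le_of_dvd Nat.card_pos (Subgroup.card_dvd_of_le hCle)
    rw [hCq] at h1
    refine le_antisymm h1 ?_
    rw [← hoqz, ← Nat.card_zpowers]
    refine Nat.le_of_dvd Nat.card_pos (Subgroup.card_dvd_of_le ?_)
    rw [Subgroup.zpowers_le, Subgroup.mem_centralizer_singleton_iff]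
  · rcases e8 with h | h
    · exact Or.inl ⟨h.1.1.1, h.1.1.2, h.1.2, h.2⟩
    · exact Or.inr ⟨h.1.1.1, h.1.1.2, h.1.2, h.2⟩
  · rcases hall _ hcents with h | h
    · exact Or.inl (by exact_mod_cast h)
    · exact Or.inr (by exact_mod_cast h)

end CfsgLib.MathieuTwelve
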