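import Cfsg.Agent.Lib.MathieuTwelve.Local

/-!
# The automiser of a Sylow 5-subgroup of a simple group of order 95040 is not of order two
-/

set_option autoImplicit false
set_option linter.style.haveILetI false
set_option linter.unusedSectionVars false
open Cfsg CfsgLib.Characters CfsgLib.CharCorr CfsgLib.ClassCount
open scoped ComplexConjugate

namespace CfsgLib.MathieuTwelve

/-- A possible degree. -/
def allowedDeg (r : Row) (D : ℕ) : Bool :=
  D % 11 == 0 || [r.d1, r.d2, r.d3, r.d4, r.x].contains (D : ℤ)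

/-- Consecutive degrees, the larger class exceptional. -/
def consecutiveCheck : Bool :=
  rows.all fun r => (List.range 220).all fun D =>
    !(decide (1 < D) && 95040 % D == 0 && (D % 5 == 2 || D % 5 == 3) && allowedDeg r D) ||
      [D - 1, D + 1].all fun X =>
        !(decide (1 < X) && 95040 % X == 0 && (X % 5 == 1 || X % 5 == 4) && allowedDeg r X) || D == 12

theorem consecutiveCheck_ok : consecutiveCheck = true := by decide +kernel

theorem others_five : ∀ r ∈ [(⟨10, 10, 12, 12, 5, -1⟩ : Row), ⟨10, 12, 12, 45, 60, -1⟩],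
    5 ∣ r.x ∧ ∀ i j l : Fin 4, i ≠ j → r.ds i = 12 → r.ds j = 12 → l ≠ i → l ≠ j → 5 ∣ r.ds l := by
  decide +kernel

universe u

variable {G : Type u} [Group G] [Fintype G] [IsSimpleGroup G]

theorem Principal.allowed (B : Principal G) {η : IrrCharacter G} (hη : η ≠ principalIrr G) :
    allowedDeg B.r (charDegree (η : G → ℂ)) = true := by
  simp only [allowedDeg, Bool.or_eq_true, beq_iff_eq, List.contains_iff_mem, List.mem_cons,
    List.not_mem_nil, or_false]
  rcases B.cases η with h | ⟨i, rfl⟩ | rfl | rfl | h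
  · exact absurd h hη
  · right
    rw [B.deg i]
    fin_cases i <;> simp [Row.ds]
  · right; simp [B.degX.1]
  · right; simp [B.degX.2]
  · exact Or.inl (Nat.mod_eq_zero_of_dvd (B.degZ η h))

open scoped Classical in
/-- Two characters of degree 12 in both principal blocks. -/
theorem Principal.twelve_pair (B : Principal G) (hG : Nat.card G = 95040) [Fact (Nat.Prime 5)]
    {M : Ideal AlgInt} (hM : IsPModular 5 M) (Q : Sylow 5 G)
    (he : (AbelianFrob.CP Q).relIndex (AbelianFrob.NP Q) = 2) :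
    ∃ i j : Fin 4, i ≠ j ∧ B.r.ds i = 12 ∧ B.r.ds j = 12 ∧ ∀ l, l = i ∨ l = j →
      (B.χ l ∈ principalBlock M G ∧
        (∃ b : ℤ, ∑ y ∈ Finset.univ.erase (1 : (Q : Subgroup G)), (B.χ l : G → ℂ) y = ((5 * b - 12 : ℤ) : ℂ)) ∧
        ∑ y ∈ Finset.univ.erase (1 : (Q : Subgroup G)),
          (B.χ l : G → ℂ) y * conj ((B.χ l : G → ℂ) y) = 6) := by
  classical
  have hP := card_sylow_five hG Q
  have hab := Order7920.isMulCommutative_sylow Q hP
  have hfrob := Order7920.fpf Q hP
  set m := (AbelianFrob.CP Q).relIndex (AbelianFrob.NP Q) with hm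
  have hm' : m + 1 < Nat.card (Q : Subgroup G) := by rw [hP, he]; norm_num
  obtain ⟨μ, A, d, δ, S⟩ := AbelianFrob.exists_struct Q hab hfrob hM hm'
  obtain ⟨hpr, hA1⟩ := S.principal_mem_rest hab hfrob hM hm'
  have hexc := S.card_exc_mul hab hfrob
  rw [hP, ← hm, he] at hexc
  have ht : S.exc.card = 2 := by omega
  obtain ⟨E0, E1, hne01, hexceq⟩ := Finset.card_eq_two.1 ht
  obtain ⟨ψ₀, hψ₀, hE0⟩ := S.mem_exc.1 (show E0 ∈ S.exc by rw [hexceq]; simp)
  have h5 : ¬ 5 ∣ orderOf (1 : G) := by rw [orderOf_one]; norm_num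
  set D := charDegree (μ ψ₀ : G → ℂ) with hD
  have hdegE : ∀ χ ∈ S.exc, charDegree (χ : G → ℂ) = D := by
    intro χ hχ
    obtain ⟨ψ, hψ, rfl⟩ := S.mem_exc.1 hχ
    have := S.regular_eq hM hψ hψ₀ h5
    rw [irr_one_eq_charDegree, irr_one_eq_charDegree] at this
    exact_mod_cast this
  have hne : ∀ χ ∈ S.exc, χ ≠ principalIrr G := fun χ h e =>
    (S.mem_rest.1 hpr).2 (e ▸ h)
  have hdvd : ∀ χ : IrrCharacter G, charDegree (χ : G → ℂ) ∣ 95040 := fun χ =>
    hG ▸ charDegree_irr_dvd_card χ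
  have hgt : ∀ χ : IrrCharacter G, χ ≠ principalIrr G → 1 < charDegree (χ : G → ℂ) := by
    intro χ hχ
    have h1 : charDegree (χ : G → ℂ) ≠ 1 := fun h =>
      hχ (Order7920.eq_principal_of_charDegree_one (not_comm hG) h)
    have := (degree_eq χ).2.2
    omega
  set R := S.rest.erase (principalIrr G) with hR
  have hnorm := S.norm_eq hab hfrob hM hψ₀
  rw [← Finset.add_sum_erase _ _ hpr, hA1, ← hm, ← hR, he, ht] at hnorm
  push_cast at hnorm
  have hA0 : ∀ χ ∈ R, 1 ≤ A χ ^ 2 := fun χ h => by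
    have := sq_pos_of_ne_zero (S.A_ne_zero hab hfrob hM (by rw [hP]; norm_num) (Finset.mem_erase.1 h).2)
    omega
  have hRnn : 0 ≤ ∑ χ ∈ R, A χ ^ 2 := Finset.sum_nonneg fun χ _ => sq_nonneg _
  have hdd : d * (d - δ) = 0 := by
    by_contra h
    rcases S.sign with rfl | rfl
    · have : d ≠ 0 ∧ d ≠ 1 := ⟨fun e => h (by rw [e]; ring), fun e => h (by rw [e]; ring)⟩
      rcases (show d ≤ -1 ∨ 2 ≤ d by omega) with h' | h' <;> nlinarith
    · have : d ≠ 0 ∧ d ≠ -1 := ⟨fun e => h (by rw [e]; ring), fun e => h (by rw [e]; ring)⟩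
      rcases (show d ≤ -2 ∨ 1 ≤ d by omega) with h' | h' <;> nlinarith
  have hδ2 := S.delta_sq
  have hsum1 : ∑ χ ∈ R, A χ ^ 2 = 1 := by linear_combination hnorm - 2 * hdd - hδ2
  obtain ⟨χ₁, hR1⟩ : ∃ χ, R = {χ} := by
    refine Finset.card_eq_one.1 (le_antisymm ?_ (Finset.card_pos.2 (Finset.nonempty_of_sum_ne_zero
      (hsum1 ▸ one_ne_zero))))
    have : (R.card : ℤ) ≤ ∑ χ ∈ R, A χ ^ 2 := by
      rw [Finset.card_eq_sum_ones, Nat.cast_sum]
      exact Finset.sum_le_sum fun χ h => by simpa using hA0 χ h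
    omega
  have hχR : χ₁ ∈ R := by rw [hR1]; exact Finset.mem_singleton_self _
  rw [hR1, Finset.sum_singleton] at hsum1
  have hA := sq_eq_one_iff.1 hsum1
  set X := charDegree (χ₁ : G → ℂ) with hX
  have hrel : ((S.exc.card : ℤ) * d - δ) * D + (1 + A χ₁ * X) = 0 := by
    have h := S.regular_rel hM hψ₀ h5
    rw [← Finset.add_sum_erase _ _ hpr, hA1, ← hR, hR1, Finset.sum_singleton, principalIrr_apply,
      irr_one_eq_charDegree (μ ψ₀), irr_one_eq_charDegree χ₁, Int.cast_one, one_mul] at h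
    exact_mod_cast h
  rw [ht] at hrel
  push_cast at hrel
  have hXm : (5 : ℤ) ∣ (X : ℤ) - A χ₁ := by
    obtain ⟨b, k, -, -, hk, -, hF, -, -⟩ := Order7920.bcoef_sum_formulas Q hP hM S
      (S.mem_rest.1 (Finset.mem_erase.1 hχR).2).1
    exact ⟨b - A χ₁, by rw [hF, hk (Finset.mem_erase.1 hχR).2]; push_cast; ring⟩
  have hDm : (5 : ℤ) ∣ (D : ℤ) - d - 2 * δ := by
    obtain ⟨b, k, -, -, -, hk, hF, -, -⟩ := Order7920.bcoef_sum_formulas Q hP hM S (S.mem ψ₀ hψ₀)
    obtain ⟨h1, h2⟩ := hk (S.mem_exc.2 ⟨ψ₀, hψ₀, rfl⟩)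
    exact ⟨b - d, by rw [← hD] at hF; rw [hF, h1, h2, ← hm, he]; push_cast; ring⟩
  have hμne : μ ψ₀ ≠ principalIrr G := hne _ (S.mem_exc.2 ⟨ψ₀, hψ₀, rfl⟩)
  have hD1 := hgt _ hμne
  have hX1 := hgt χ₁ (Finset.mem_erase.1 hχR).1
  rw [← hD] at hD1
  rw [← hX] at hX1
  have hDlt : D < 220 := by
    have h := Finset.sum_le_sum_of_subset (f := fun η : IrrCharacter G => charDegree (η : G → ℂ) ^ 2)
      (Finset.subset_univ S.exc)
    rw [Chars17.natSum_sq_degrees, hG, Finset.sum_congr rfl ((fun χ hχ => by rw [hdegE χ hχ]) :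
      ∀ χ ∈ S.exc, charDegree (χ : G → ℂ) ^ 2 = D ^ 2), Finset.sum_const, smul_eq_mul, ht] at h
    exact lt_of_pow_lt_pow_left₀ 2 (Nat.zero_le _) (show D ^ 2 < 220 ^ 2 by omega)
  have hd : d = 0 ∨ d = δ := (mul_eq_zero.1 hdd).imp id sub_eq_zero.1
  have hDX : (D % 5 = 2 ∨ D % 5 = 3) ∧ (X % 5 = 1 ∨ X % 5 = 4) ∧ (X = D - 1 ∨ X = D + 1) := by
    rcases hd with h | h <;> rcases S.sign with e | e <;> rcases hA with e' | e' <;>
      rw [h, e] at hDm hrel <;> rw [e'] at hXm hrel <;> omega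
  have hD12 : D = 12 := by
    have h := consecutiveCheck_ok
    simp only [consecutiveCheck, List.all_eq_true, Bool.or_eq_true, Bool.not_eq_true',
      Bool.and_eq_false_iff, decide_eq_false_iff_not, beq_eq_false_iff_ne, beq_iff_eq, ne_eq,
      List.mem_range] at h
    have e1 : allowedDeg B.r D = true := B.allowed hμne
    have e2 : allowedDeg B.r X = true := B.allowed (Finset.mem_erase.1 hχR).1
    have d1 : 95040 % D = 0 := Nat.mod_eq_zero_of_dvd (hdvd _)
    have d2 : 95040 % X = 0 := Nat.mod_eq_zero_of_dvd (hdvd _)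
    rcases h B.r B.mem D hDlt with h' | h'
    · simp_all
    · rcases h' X (by rcases hDX.2.2 with e | e <;> simp [e]) with h'' | h''
      · simp_all
      · exact h''
  have key : ∀ E ∈ S.exc, ∃ i, E = B.χ i ∧ B.r.ds i = 12 ∧ E ∈ principalBlock M G ∧
      (∃ b : ℤ, ∑ y ∈ Finset.univ.erase (1 : (Q : Subgroup G)), (E : G → ℂ) y = ((5 * b - 12 : ℤ) : ℂ)) ∧
      ∑ y ∈ Finset.univ.erase (1 : (Q : Subgroup G)), (E : G → ℂ) y * conj ((E : G → ℂ) y) = 6 := by
    intro E hE
    have hE12 : charDegree (E : G → ℂ) = 12 := (hdegE E hE).trans hD12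
    have hx12 : B.r.x ≠ 12 := (rows_degrees _ B.mem).2.2.2.2.2
    obtain ⟨φ, hφ, rfl⟩ := S.mem_exc.1 hE
    rcases B.cases (μ φ) with h | ⟨i, hi⟩ | h | h | h
    · exact absurd h (hne _ hE)
    rotate_left
    · have := B.degX.1; rw [← h, hE12] at this; exact absurd this.symm hx12
    · have := B.degX.2; rw [← h, hE12] at this; exact absurd this.symm hx12
    · have := B.degZ _ h; rw [hE12] at this; norm_num at this
    refine ⟨i, hi, by rw [← B.deg i, ← hi, hE12]; norm_num, S.mem φ hφ, ⟨AbelianFrob.bcoef Q (μ φ) 1, ?_⟩, ?_⟩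
    · have h := AbelianFrob.bcoef_eq Q (μ φ) 1
      rw [← Finset.add_sum_erase _ _ (Finset.mem_univ (1 : (Q : Subgroup G))), OneMemClass.coe_one, hP,
        irr_one_eq_charDegree, hE12] at h
      simp only [inv_one, MonoidHom.one_apply, Units.val_one, mul_one] at h
      push_cast
      rw [h]
      push_cast
      ring
    · have h := Order7920.sum_norm_sylow Q hab (μ φ)
      rw [← Finset.add_sum_erase _ _ (Finset.mem_univ (1 : (Q : Subgroup G))), OneMemClass.coe_one,
        irr_one_eq_charDegree, Complex.conj_natCast, hP, hE12] at h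
      obtain ⟨b, k, -, -, -, hk, hF, -, hsq⟩ := Order7920.bcoef_sum_formulas Q hP hM S (S.mem φ hφ)
      obtain ⟨h1, h2⟩ := hk hE
      rw [hE12, h1, h2, ← hm, he] at hF
      rw [h1, h2, ← hm, he] at hsq
      have h6 : 5 * ∑ ψ : AbelianFrob.Dual Q, AbelianFrob.bcoef Q (μ φ) ψ ^ 2 - 144 = 6 := by
        rw [hsq]
        push_cast at hF ⊢
        linear_combination 4 * hdd - 4 * hδ2 - (12 + (5 * b - 4 * d + 2 * δ)) * hF
      have h6' := congrArg (Int.cast (R := ℂ)) h6
      push_cast at h6' h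
      linear_combination h + h6'
  obtain ⟨i, hi, hi12, hi'⟩ := key E0 (by rw [hexceq]; simp)
  obtain ⟨j, hj, hj12, hj'⟩ := key E1 (by rw [hexceq]; simp)
  refine ⟨i, j, fun h => hne01 (by rw [hi, hj, h]), hi12, hj12, ?_⟩
  rintro l (rfl | rfl)
  · exact hi ▸ hi'
  · exact hj ▸ hj'

theorem count_two (r : Row) (i j : Fin 4) (hij : i ≠ j) (hi : r.ds i = 12) (hj : r.ds j = 12) :
    2 ≤ [r.d1, r.d2, r.d3, r.d4].countP fun d => d == (12 : ℤ) := by
  revert hij hi hj
  fin_cases i <;> fin_cases j <;> simp [Row.ds, List.countP_cons] <;> intros <;> simp_all <;> omega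

/-- An even centraliser is impossible. -/
theorem Principal.not_even (B : Principal G) (hG : Nat.card G = 95040) [Fact (Nat.Prime 5)]
    [Fact (Nat.Prime 11)]
    (hE : ∀ P : Sylow 11 G, Nat.card (AbelianFrob.CP P) = 11 ∧ Nat.card (AbelianFrob.NP P) = 55)
    (Q : Sylow 5 G) (he : (AbelianFrob.CP Q).relIndex (AbelianFrob.NP Q) = 2)
    (h2 : 2 ∣ Nat.card (AbelianFrob.CP Q)) : False := by
  classical
  haveI : Fact (Nat.Prime 2) := ⟨Nat.prime_two⟩
  obtain ⟨M, hM⟩ := CfsgLib.Blocks.exists_isPModular (p := 5)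
  obtain ⟨i, j, hij, hi, hj, hl⟩ := B.twelve_pair hG hM Q he
  have hP := card_sylow_five hG Q
  obtain ⟨z, hz⟩ := exists_prime_orderOf_dvd_card' (G := AbelianFrob.CP Q) 2 h2
  rw [← Subgroup.orderOf_coe] at hz
  obtain ⟨v, hv, hv4, hvlt⟩ := exists_invol_values hG hz
  obtain ⟨hs, hsx, hsq⟩ := B.invol_slot hG hz hv hvlt
  have h11 : ¬ 11 ∣ orderOf (z : G) := by rw [hz]; norm_num
  have hne5 : ∀ l, B.r.ds l = 12 → B.χ l ≠ principalIrr G := fun l h e => by
    have := B.deg l
    rw [e, h] at this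
    simp [principalIrr, charDegree] at this
  have hneg : ∀ l, l = i ∨ l = j → v (B.χ l) = -8 := by
    intro l hl'
    obtain ⟨hB5, ⟨b, hb⟩, -⟩ := hl l hl'
    have h12 : B.r.ds l = 12 := by rcases hl' with rfl | rfl <;> assumption
    have hcomm : ∀ y : (Q : Subgroup G), Commute (y : G) (z : G) := fun y =>
      Subgroup.mem_centralizer_iff.1 z.2 y y.2
    obtain ⟨m, hm⟩ := Sporadic.CharTools.exists_nat_sum (irr_isCharacter (B.χ l))
      (MonoidHom.noncommCoprod (Q : Subgroup G).subtype (Subgroup.zpowers (z : G)).subtype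
        fun y w => by
          obtain ⟨k, hk⟩ := Subgroup.mem_zpowers_iff.1 w.2
          show Commute (y : G) (w : G)
          rw [← hk]
          exact (hcomm y).zpow_right k)
    rw [Fintype.sum_prod_type, Nat.card_prod, hP, Nat.card_zpowers, hz] at hm
    simp only [MonoidHom.noncommCoprod_apply, Subgroup.coe_subtype] at hm
    have e : ∀ y : G, ∑ a : Subgroup.zpowers (z : G), (B.χ l : G → ℂ) (y * a) =
        (B.χ l : G → ℂ) (y * 1) + (B.χ l : G → ℂ) (y * z) := fun y => by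
      convert Sporadic.CharTools.sum_zpowers_two (fun g => (B.χ l : G → ℂ) (y * g)) hz
    simp only [e] at hm
    rw [← Finset.add_sum_erase _ _ (Finset.mem_univ (1 : (Q : Subgroup G))),
      Finset.sum_congr rfl ((fun y hy => by
        have hy1 : (y : G) ≠ 1 := fun h => (Finset.mem_erase.1 hy).1 (Subtype.ext h)
        obtain ⟨-, -, -, hk, -⟩ := AbelianFrob.isPPart_self Q (Fact.out : Nat.Prime 5) y.2
        rw [mul_one, AbelianFrob.value_eq Q (Order7920.isMulCommutative_sylow Q hP) (Order7920.fpf Q hP)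
          hM hB5 (Blocks.isPPart_mul (hcomm y) hk (by rw [hz]; norm_num)) y.2 hy1]
        ring) : ∀ y ∈ Finset.univ.erase (1 : (Q : Subgroup G)), (B.χ l : G → ℂ) ((y : G) * 1) +
          (B.χ l : G → ℂ) ((y : G) * z) = 2 * (B.χ l : G → ℂ) y), ← Finset.mul_sum, hb] at hm
    simp only [OneMemClass.coe_one, one_mul, irr_one_eq_charDegree, hv] at hm
    have hd : charDegree (B.χ l : G → ℂ) = 12 := by
      have := B.deg l; rw [h12] at this; exact_mod_cast this
    rw [hd] at hm
    have hm' : (12 : ℤ) + v (B.χ l) + 2 * (5 * b - 12) = 5 * 2 * (m : ℤ) := by exact_mod_cast hm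
    have h4 := hv4 (B.χ l)
    rw [hd] at h4
    have := hvlt _ (hne5 l h12)
    rw [hd, abs_lt] at this
    omega
  obtain ⟨hC, -⟩ := B.invCents_mem hG hz (m := 20) (by
    have h8 := eight_dvd_centralizer hG hz
    have h5 : 5 ∣ Nat.card (Subgroup.centralizer ({(z : G)} : Set G)) := by
      refine hP.symm.dvd.trans (Subgroup.card_dvd_of_le fun y hy => ?_)
      exact Subgroup.mem_centralizer_singleton_iff.2 (Subgroup.mem_centralizer_iff.1 z.2 y hy)
    omega)
  have hchk := twelveInvCheck_ok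
  simp only [twelveInvCheck, List.all_eq_true] at hchk
  have hmem : ∀ l, v (B.χ l) ∈ vals (B.r.ds l) 93 (fun v => (v - B.r.ds l) % 4 == 0) := fun l =>
    mem_vals (hs l).1 (hs l).2 (by simp only [beq_iff_eq]; rw [← B.deg l]; exact hv4 _)
  have h := hchk B.r B.mem _ (hmem 0) _ (hmem 1)
  have hi8 := hneg i (Or.inl rfl)
  have hj8 := hneg j (Or.inr rfl)
  have hg : 2 ≤ ([(B.r.d1, v (B.χ 0)), (B.r.d2, v (B.χ 1))].countP fun p => p == ((12 : ℤ), (-8 : ℤ))) +
      ([B.r.d3, B.r.d4].countP fun d => d == (12 : ℤ)) ∧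
      2 ≤ [(B.r.d1, v (B.χ 0)), (B.r.d2, v (B.χ 1)), (B.r.d3, v (B.χ 2)), (B.r.d4, v (B.χ 3))].countP
        fun p => p == ((12 : ℤ), (-8 : ℤ)) := by
    clear hmem h hchk hneg hl
    revert hij hi hj hi8 hj8
    fin_cases i <;> fin_cases j <;> simp [Row.ds, List.countP_cons] <;> intros <;> simp_all <;> omega
  simp only [Bool.or_eq_true, Bool.not_eq_true', decide_eq_false_iff_not, List.all_eq_true] at h
  rcases h with h | h
  · exact h hg.1
  have h' := h _ (hmem 2) _ (hmem 3)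
  have hlast := (B.lin_eq h11 hv).2
  rw [hlast, decide_eq_true hg.2, B.quad_involution hG hE hz hv] at h'
  simp only [Bool.and_eq_false_iff, decide_eq_false_iff_not, beq_eq_false_iff_ne, ne_eq,
    Bool.true_eq_false, false_or] at h'
  rcases h' with ((h' | h') | h') | h'
  · exact h' hsx
  · exact h' (by rw [← B.degX.1]; exact hv4 _)
  · exact h' trivial
  · rw [List.any_eq_false] at h'
    refine h' _ hC ?_
    simp only [Bool.and_eq_true, decide_eq_true_eq]
    exact ⟨hsq, B.classOK hG hv⟩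

/-- A centraliser of order 45 is impossible. -/
theorem Principal.not_forty_five (B : Principal G) (hG : Nat.card G = 95040) [Fact (Nat.Prime 5)]
    [Fact (Nat.Prime 11)]
    (hE : ∀ P : Sylow 11 G, Nat.card (AbelianFrob.CP P) = 11 ∧ Nat.card (AbelianFrob.NP P) = 55)
    (Q : Sylow 5 G) (he : (AbelianFrob.CP Q).relIndex (AbelianFrob.NP Q) = 2)
    (h45 : Nat.card (AbelianFrob.CP Q) = 45) : False := by
  classical
  haveI : Fact (Nat.Prime 2) := ⟨Nat.prime_two⟩
  obtain ⟨M, hM⟩ := CfsgLib.Blocks.exists_isPModular (p := 5)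
  obtain ⟨i, j, hij, hi, hj, hl⟩ := B.twelve_pair hG hM Q he
  have hP := card_sylow_five hG Q
  -- a central involution
  obtain ⟨S⟩ : Nonempty (Sylow 2 G) := inferInstance
  have hS : Nat.card (S : Subgroup G) = 64 :=
    (Small.card_sylow_of_card_eq (k := 6) (m := 1485) (by rw [hG]; norm_num) (by norm_num) S).trans
      (by norm_num)
  haveI : Nontrivial (S : Subgroup G) := Finite.one_lt_card_iff_nontrivial.1 (by rw [hS]; norm_num)
  haveI := S.2.center_nontrivial
  have hcp : IsPGroup 2 (Subgroup.center (S : Subgroup G)) := S.2.to_subgroup _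
  obtain ⟨n, hn⟩ := IsPGroup.iff_card.1 hcp
  have hn0 : n ≠ 0 := fun h => by
    have := Finite.one_lt_card (α := Subgroup.center (S : Subgroup G))
    rw [hn, h] at this
    norm_num at this
  obtain ⟨w, hw⟩ := exists_prime_orderOf_dvd_card' (G := Subgroup.center (S : Subgroup G)) 2
    (hn ▸ dvd_pow_self 2 hn0)
  rw [← Subgroup.orderOf_coe, ← Subgroup.orderOf_coe] at hw
  set u : G := ((w : (S : Subgroup G)) : G) with hu
  have h64 : 64 ∣ Nat.card (Subgroup.centralizer ({u} : Set G)) := by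
    rw [← hS]
    refine Subgroup.card_dvd_of_le fun y hy => Subgroup.mem_centralizer_singleton_iff.2 ?_
    exact congrArg Subtype.val (Subgroup.mem_center_iff.1 w.2 ⟨y, hy⟩)
  obtain ⟨v, hv, hv4, hvlt⟩ := exists_invol_values hG hw
  obtain ⟨hs, hsx, hsq⟩ := B.invol_slot hG hw hv hvlt
  have h11 : ¬ 11 ∣ orderOf u := by rw [hw]; norm_num
  have hrow : B.r ∈ [(⟨10, 10, 12, 12, 5, -1⟩ : Row), ⟨10, 12, 12, 45, 60, -1⟩] := by
    have hchk := twelveCentralCheck_ok
    simp only [twelveCentralCheck, List.all_eq_true, Bool.or_eq_true, decide_eq_true_eq,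
      List.contains_iff_mem, Bool.not_eq_true'] at hchk
    rcases hchk B.r B.mem with (h | h) | h
    · have := count_two B.r i j hij hi hj
      omega
    · exact h
    exfalso
    have hmem : ∀ l, v (B.χ l) ∈ vals (B.r.ds l) 93 (fun v => (v - B.r.ds l) % 4 == 0) := fun l =>
      mem_vals (hs l).1 (hs l).2 (by simp only [beq_iff_eq]; rw [← B.deg l]; exact hv4 _)
    have h' := h _ (hmem 0) _ (hmem 1) _ (hmem 2) _ (hmem 3)
    rw [(B.lin_eq h11 hv).2, B.quad_involution hG hE hw hv] at h'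
    simp only [Bool.and_eq_false_iff, decide_eq_false_iff_not, beq_eq_false_iff_ne, ne_eq] at h'
    rcases h' with ((h' | h') | h') | h'
    · exact h' hsx
    · exact h' (by rw [← B.degX.1]; exact hv4 _)
    · exact h' trivial
    · rw [List.any_eq_false] at h'
      refine h' _ (B.invCents_mem hG hw h64).1 ?_
      simp only [Bool.and_eq_true, decide_eq_true_eq]
      exact ⟨hsq, B.classOK hG hv⟩
  -- pairs of inverse elements of order five with product of order eleven
  obtain ⟨hx5, hoth⟩ := others_five _ hrow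
  obtain ⟨P⟩ : Nonempty (Sylow 11 G) := inferInstance
  obtain ⟨a, ha⟩ := exists_prime_orderOf_dvd_card' (G := (P : Subgroup G)) 11
    (card_sylow_eleven hG P).symm.dvd
  rw [← Subgroup.orderOf_coe] at ha
  have hy5 : ∀ y ∈ Finset.univ.erase (1 : (Q : Subgroup G)), orderOf (y : G) = 5 := by
    intro y hy
    rw [Subgroup.orderOf_coe]
    have h := orderOf_dvd_natCard y
    rw [hP] at h
    exact ((Fact.out : Nat.Prime 5).eq_one_or_self_of_dvd _ h).resolve_left fun h =>
      (Finset.mem_erase.1 hy).1 (orderOf_eq_one_iff.1 h)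
  have hterm : ∀ y ∈ Finset.univ.erase (1 : (Q : Subgroup G)),
      ((pairs (y : G) (y : G)⁻¹ {(a : G)}).card : ℂ) * 2025 =
        95040 + 7920 * ((B.χ i : G → ℂ) y * conj ((B.χ i : G → ℂ) y) +
          (B.χ j : G → ℂ) y * conj ((B.χ j : G → ℂ) y)) := by
    intro y hy
    have hy1 : (y : G) ≠ 1 := fun h => (Finset.mem_erase.1 hy).1 (Subtype.ext h)
    have ho := hy5 y hy
    have hz0 : ∀ η : IrrCharacter G, 5 ∣ charDegree (η : G → ℂ) → (η : G → ℂ) y = 0 := fun η h =>
      vanish_five hG η h (by rw [ho])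
    have h := B.pairs_eleven hG ha (y : G) (y : G)⁻¹ (by rw [ho]; norm_num)
      (by rw [orderOf_inv, ho]; norm_num)
    have hCy : Nat.card (Subgroup.centralizer ({(y : G)} : Set G)) = 45 := by
      rw [Order7920.centralizer_singleton_eq Q hP y.2 hy1, h45]
    have hCy' : Nat.card (Subgroup.centralizer ({(y : G)⁻¹} : Set G)) = 45 := by
      rw [Order7920.centralizer_singleton_eq Q hP ((Q : Subgroup G).inv_mem y.2) (inv_ne_one.2 hy1), h45]
    have hf0 : (B.f0 : G → ℂ) y = 0 := hz0 _ (by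
      have := B.degX.1; exact Int.natCast_dvd_natCast.1 (this ▸ hx5))
    rw [hCy, hCy', hf0, zero_mul, mul_zero, add_zero,
      Finset.sum_eq_add i j hij (fun l _ hl' => by
        rw [hz0 _ (Int.natCast_dvd_natCast.1 (B.deg l ▸ hoth i j l hij hi hj hl'.1 hl'.2)), zero_mul,
          mul_zero]) (fun h => absurd (Finset.mem_univ _) h) (fun h => absurd (Finset.mem_univ _) h),
      hi, hj, irr_apply_inv, irr_apply_inv] at h
    rw [show sgn 12 = 1 from rfl] at h
    norm_num at h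
    linear_combination h
  have hsum := Finset.sum_congr rfl hterm
  rw [Finset.sum_add_distrib, Finset.sum_const, Finset.card_erase_of_mem (Finset.mem_univ _),
    Finset.card_univ, ← Nat.card_eq_fintype_card, hP, ← Finset.mul_sum, Finset.sum_add_distrib,
    (hl i (Or.inl rfl)).2.2, (hl j (Or.inr rfl)).2.2, ← Finset.sum_mul, ← Nat.cast_sum] at hsum
  set N := ∑ y ∈ Finset.univ.erase (1 : (Q : Subgroup G)), (pairs (y : G) (y : G)⁻¹ {(a : G)}).card
  have hN : N * 2025 = 475200 := by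
    norm_num at hsum
    exact_mod_cast hsum
  omega

end CfsgLib.MathieuTwelve
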