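import Cfsg.Agent.Lib.MathieuTwelve.Values
import Cfsg.Agent.Lib.MathieuTwelve.SearchInvolution

/-!
# Local facts at the prime 5 for a simple group of order 95040
-/

set_option autoImplicit false
set_option linter.style.haveILetI false
set_option linter.unusedSectionVars false
open Cfsg CfsgLib.Characters CfsgLib.CharCorr CfsgLib.ClassCount
open scoped ComplexConjugate

namespace CfsgLib.MathieuTwelve

universe u

variable {G : Type u} [Group G] [Fintype G]

/-- A subgroup normalising a group of prime order moves a generator to all others, once its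
centraliser is small. -/
theorem conj_of_card {p : ℕ} [Fact p.Prime] (P H : Subgroup G) (hP : Nat.card P = p)
    (hH : H ≤ Subgroup.normalizer (P : Set G)) {y : G} (hy : y ∈ P) (hy1 : y ≠ 1)
    (hle : (p - 1) * Nat.card (H ⊓ Subgroup.centralizer ({y} : Set G) : Subgroup G) ≤ Nat.card H) :
    ∀ x ∈ P, x ≠ 1 → ∃ n ∈ H, n * y * n⁻¹ = x := by
  classical
  set K := H ⊓ Subgroup.centralizer ({y} : Set G) with hK
  let f : H → P := fun m => ⟨(m : G) * y * (m : G)⁻¹,
    (Subgroup.mem_normalizer_iff.1 (hH m.2) y).1 hy⟩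
  have hfib : ∀ a ∈ (Finset.univ : Finset H).image f,
      (Finset.univ.filter fun m => f m = a).card ≤ Nat.card K := by
    intro a ha
    obtain ⟨m₀, -, rfl⟩ := Finset.mem_image.1 ha
    rw [Nat.card_eq_fintype_card, ← Finset.card_univ]
    have hmem : ∀ m ∈ Finset.univ.filter (fun m => f m = f m₀), (m₀ : G)⁻¹ * (m : G) ∈ K := by
      intro m hm
      have h : (m : G) * y * (m : G)⁻¹ = m₀ * y * (m₀ : G)⁻¹ :=
        congrArg Subtype.val (Finset.mem_filter.1 hm).2
      refine ⟨H.mul_mem (H.inv_mem m₀.2) m.2, Subgroup.mem_centralizer_singleton_iff.2 ?_⟩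
      calc (m₀ : G)⁻¹ * m * y = (m₀ : G)⁻¹ * (m * y * (m : G)⁻¹) * m := by group
        _ = y * ((m₀ : G)⁻¹ * m) := by rw [h]; group
    refine Finset.card_le_card_of_injOn
      (fun m => if hm : (m₀ : G)⁻¹ * (m : G) ∈ K then ⟨_, hm⟩ else 1)
      (fun m _ => Finset.mem_coe.2 (Finset.mem_univ _)) fun a ha b hb hab' => ?_
    simp only [dif_pos (hmem a ha), dif_pos (hmem b hb)] at hab'
    exact Subtype.ext (mul_left_cancel (congrArg Subtype.val hab'))
  have h1 := Finset.card_le_mul_card_image (f := f) Finset.univ (Nat.card K) hfib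
  rw [Finset.card_univ, ← Nat.card_eq_fintype_card] at h1
  have hsub : (Finset.univ : Finset H).image f ⊆ Finset.univ.erase (1 : P) := by
    intro a ha
    obtain ⟨m, -, rfl⟩ := Finset.mem_image.1 ha
    exact Finset.mem_erase.2 ⟨fun h => hy1 (conj_eq_one_iff.1 (congrArg Subtype.val h)),
      Finset.mem_univ _⟩
  have heq := Finset.eq_of_subset_of_card_le hsub (by
    rw [Finset.card_erase_of_mem (Finset.mem_univ _), Finset.card_univ, ← Nat.card_eq_fintype_card, hP]
    have hpos : 0 < Nat.card K := Nat.card_pos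
    have := hle.trans h1
    rw [mul_comm (p - 1)] at this
    exact Nat.le_of_mul_le_mul_left this hpos)
  intro x hx hx1
  obtain ⟨m, -, hm⟩ := Finset.mem_image.1
    (heq ▸ Finset.mem_erase.2 ⟨fun h => hx1 (congrArg Subtype.val h), Finset.mem_univ (⟨x, hx⟩ : P)⟩)
  exact ⟨m, m.2, congrArg Subtype.val hm⟩

/-- Every character of a group lies in one of the five parts. -/
theorem Principal.cases (B : Principal G) (η : IrrCharacter G) :
    η = principalIrr G ∨ (∃ i, η = B.χ i) ∨ η = B.f0 ∨ η = B.f1 ∨ η ∈ B.Z := by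
  classical
  by_contra! h
  obtain ⟨h1, h2, h3, h4, h5⟩ := h
  have e := B.split fun ψ => if ψ = η then 1 else 0
  rw [Finset.sum_ite_eq' Finset.univ η, if_pos (Finset.mem_univ _), if_neg h1.symm, if_neg h3.symm,
    if_neg h4.symm, Finset.sum_eq_zero (fun i _ => if_neg (h2 i).symm),
    Finset.sum_eq_zero (fun ψ hψ => if_neg (ne_of_mem_of_not_mem hψ h5))] at e
  norm_num at e

theorem centralizer_zpowers (x : G) :
    Subgroup.centralizer ((Subgroup.zpowers x : Subgroup G) : Set G) = Subgroup.centralizer ({x} : Set G) := by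
  rw [Subgroup.zpowers_eq_closure, Subgroup.centralizer_closure]

variable [IsSimpleGroup G]

theorem card_sylow_five (hG : Nat.card G = 95040) [Fact (Nat.Prime 5)] (Q : Sylow 5 G) :
    Nat.card (Q : Subgroup G) = 5 :=
  (Small.card_sylow_of_card_eq (k := 1) (m := 19008) (by rw [hG]; norm_num) (by norm_num) Q).trans
    (pow_one 5)

theorem vanish_five (hG : Nat.card G = 95040) (χ : IrrCharacter G)
    (h : 5 ∣ charDegree (χ : G → ℂ)) {g : G} (hg : 5 ∣ orderOf g) : (χ : G → ℂ) g = 0 := by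
  haveI := Fact.mk (by norm_num : Nat.Prime 5)
  obtain ⟨P⟩ : Nonempty (Sylow 5 G) := inferInstance
  refine DefectZeroVanish.vanish_of_defect_zero χ ?_ hg
  rwa [← P.card_eq_multiplicity, card_sylow_five hG P]

/-- A Frobenius group of order 55 gives an element of order five times a conjugate of order eleven. -/
theorem exists_five (B : Principal G) (hG : Nat.card G = 95040) [Fact (Nat.Prime 11)]
    (hE : ∀ P : Sylow 11 G, Nat.card (AbelianFrob.CP P) = 11 ∧ Nat.card (AbelianFrob.NP P) = 55) :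
    ∃ q q' : G, orderOf q = 5 ∧ IsConj q q' ∧ orderOf (q⁻¹ * q') = 11 := by
  haveI := Fact.mk (by norm_num : Nat.Prime 5)
  obtain ⟨P⟩ : Nonempty (Sylow 11 G) := inferInstance
  have hP := card_sylow_eleven hG P
  obtain ⟨q, hq⟩ := exists_prime_orderOf_dvd_card' (G := AbelianFrob.NP P) 5
    (by rw [(hE P).2]; norm_num)
  rw [← Subgroup.orderOf_coe] at hq
  obtain ⟨x, hx⟩ := exists_prime_orderOf_dvd_card' (G := (P : Subgroup G)) 11 hP.symm.dvd
  rw [← Subgroup.orderOf_coe] at hx
  refine ⟨q, (x : G) * q * (x : G)⁻¹, hq, isConj_iff.2 ⟨x, rfl⟩, ?_⟩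
  have hmem : (q : G)⁻¹ * ((x : G) * q * (x : G)⁻¹) ∈ (P : Subgroup G) := by
    have h1 : (q : G)⁻¹ * (x : G) * q ∈ (P : Subgroup G) := by
      have := (Subgroup.mem_normalizer_iff.1 (Subgroup.inv_mem _ q.2) (x : G)).1 x.2
      simpa using this
    have := (P : Subgroup G).mul_mem h1 ((P : Subgroup G).inv_mem x.2)
    simpa [mul_assoc] using this
  have hne : (q : G)⁻¹ * ((x : G) * q * (x : G)⁻¹) ≠ 1 := by
    intro h
    have hx1 : (x : G) ≠ 1 := fun e => by rw [e, orderOf_one] at hx; omega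
    have hc : (q : G) ∈ Subgroup.centralizer ({(x : G)} : Set G) :=
      Subgroup.mem_centralizer_singleton_iff.2 (mul_inv_eq_iff_eq_mul.1 (inv_mul_eq_one.1 h).symm).symm
    rw [Order7920.centralizer_singleton_eq P hP x.2 hx1] at hc
    have h2 := Subgroup.orderOf_dvd_natCard _ hc
    rw [hq, (hE P).1] at h2
    norm_num at h2
  have h3 := Subgroup.orderOf_dvd_natCard _ hmem
  rw [hP] at h3
  exact ((show Nat.Prime 11 by norm_num).eq_one_or_self_of_dvd _ h3).resolve_left
    fun h => hne (orderOf_eq_one_iff.1 h)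

/-- No centraliser of an element of order prime to 11 has order divisible by 11. -/
theorem Principal.not_eleven_dvd (B : Principal G) {g : G} (hg1 : g ≠ 1) (hg : ¬ 11 ∣ orderOf g) :
    ¬ 11 ∣ Nat.card (Subgroup.centralizer ({g} : Set G)) := by
  haveI := Fact.mk (by norm_num : Nat.Prime 11)
  intro h
  obtain ⟨c, hc⟩ := exists_prime_orderOf_dvd_card' (G := Subgroup.centralizer ({g} : Set G)) 11 h
  rw [← Subgroup.orderOf_coe] at hc
  have hcomm : Commute (c : G) g := Subgroup.mem_centralizer_singleton_iff.1 c.2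
  have ho := hcomm.orderOf_mul_eq_mul_orderOf_of_coprime (by
    rw [hc]; exact ((show Nat.Prime 11 by norm_num).coprime_iff_not_dvd).2 hg)
  rw [hc] at ho
  have := B.singular _ (ho ▸ dvd_mul_right 11 _)
  rw [ho] at this
  exact hg1 (orderOf_eq_one_iff.1 (by omega))

theorem mem_centOrders : ∀ C ∈ Nat.divisors 8640, (C : ℤ) ∈ centOrders := by
  decide +kernel

/-- The order of the centraliser of an involution. -/
theorem Principal.invCents_mem (B : Principal G) (hG : Nat.card G = 95040) {t : G}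
    (ht : orderOf t = 2) {m : ℕ} (hm : m ∣ Nat.card (Subgroup.centralizer ({t} : Set G))) :
    (Nat.card (Subgroup.centralizer ({t} : Set G)) : ℤ) ∈ invCents m ∧
      Nat.card (Subgroup.centralizer ({t} : Set G)) ≤ 8640 := by
  have h11 := B.not_eleven_dvd (g := t) (fun e => by rw [e, orderOf_one] at ht; omega)
    (by rw [ht]; norm_num)
  have hd : Nat.card (Subgroup.centralizer ({t} : Set G)) ∣ 11 * 8640 := by
    have := Subgroup.card_subgroup_dvd_card (Subgroup.centralizer ({t} : Set G))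
    rwa [hG] at this
  have h' := ((show Nat.Prime 11 by norm_num).coprime_iff_not_dvd.2 h11).symm.dvd_of_dvd_mul_left hd
  refine ⟨List.mem_filter.2 ⟨mem_centOrders _ (Nat.mem_divisors.2 ⟨h', by norm_num⟩), ?_⟩,
    Nat.le_of_dvd (by norm_num) h'⟩
  simp only [Bool.and_eq_true, beq_iff_eq, bne_iff_ne, ne_eq]
  exact ⟨Int.emod_eq_zero_of_dvd (Int.natCast_dvd_natCast.2 hm), fun h => h11
    (Int.natCast_dvd_natCast.1 (Int.dvd_of_emod_eq_zero h))⟩

/-- Values at an involution in the form the searches use. -/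
theorem Principal.invol_slot (B : Principal G) (hG : Nat.card G = 95040) {t : G} (ht : orderOf t = 2)
    {v : IrrCharacter G → ℤ} (hv : ∀ η : IrrCharacter G, (η : G → ℂ) t = (v η : ℂ))
    (hlt : ∀ η : IrrCharacter G, η ≠ principalIrr G → |v η| < charDegree (η : G → ℂ)) :
    (∀ i, |v (B.χ i)| < B.r.ds i ∧ v (B.χ i) * v (B.χ i) ≤ ((93 : ℕ) : ℤ) * (93 : ℕ)) ∧
      |v B.f0| < B.r.x ∧
      Row.sq (v (B.χ 0)) (v (B.χ 1)) (v (B.χ 2)) (v (B.χ 3)) (v B.f0) ≤
        (Nat.card (Subgroup.centralizer ({t} : Set G)) : ℤ) := by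
  have h11 : ¬ 11 ∣ orderOf t := by rw [ht]; norm_num
  obtain ⟨-, h8640⟩ := B.invCents_mem hG ht (one_dvd _)
  have hs := B.sq_le h11 hv
  have hZ : 0 ≤ ∑ η ∈ B.Z, v η * v η := Finset.sum_nonneg fun η _ => mul_self_nonneg _
  have hne : ∀ η : IrrCharacter G, (5 : ℤ) ≤ charDegree (η : G → ℂ) → η ≠ principalIrr G := by
    intro η h e
    subst e
    simp [principalIrr, charDegree] at h
  obtain ⟨h1, h2, h3, h4, h5, -⟩ := rows_degrees _ B.mem
  have hge : ∀ i, 5 ≤ B.r.ds i := by intro i; fin_cases i <;> simp [Row.ds] <;> assumption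
  refine ⟨fun i => ⟨B.deg i ▸ hlt _ (hne _ (B.deg i ▸ hge i)), ?_⟩,
    B.degX.1 ▸ hlt _ (hne _ (B.degX.1 ▸ h5)), by linarith⟩
  simp only [Row.sq] at hs
  have := mul_self_nonneg (v (B.χ 0))
  have := mul_self_nonneg (v (B.χ 1))
  have := mul_self_nonneg (v (B.χ 2))
  have := mul_self_nonneg (v (B.χ 3))
  have := mul_self_nonneg (v B.f0)
  have h8 : (Nat.card (Subgroup.centralizer ({t} : Set G)) : ℤ) ≤ 8640 := by exact_mod_cast h8640
  push_cast
  fin_cases i <;> simp only [Fin.zero_eta, Fin.mk_one, Fin.reduceFinMk] <;> linarith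

end CfsgLib.MathieuTwelve
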