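import Cfsg.Agent.Lib.MathieuTwelve.SmallBlock
import Cfsg.Agent.Lib.Small.LowMain

/-!
# Simple groups whose order is a multiple of 11 and divides 95040
-/

set_option autoImplicit false
set_option linter.style.haveILetI false
set_option linter.unusedSectionVars false
open Cfsg CfsgLib.Order7920 CfsgLib.Characters CfsgLib.CharCorr CfsgLib.ClassCount

namespace CfsgLib.MathieuTwelve

universe u

variable {G : Type u} [Group G] [Fintype G] [IsSimpleGroup G]

/-- The order of the centraliser of an involution is congruent to the order of the group modulo 8. -/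
theorem card_centralizer_mod_eight (hnc : ¬ IsMulCommutative G) {z : G} (hz : orderOf z = 2) :
    (8 : ℤ) ∣ (Nat.card (Subgroup.centralizer ({z} : Set G)) : ℤ) - (Nat.card G : ℤ) := by
  have hex : ∀ η : IrrCharacter G, ∃ v : ℤ, (η : G → ℂ) z = (v : ℂ) ∧
      (v - charDegree (η : G → ℂ)) % 4 = 0 := by
    intro η
    by_cases hη : η = principalIrr G
    · subst hη
      exact ⟨1, by simp [principalIrr], by simp [principalIrr, charDegree]⟩
    · obtain ⟨v, h1, h2, -⟩ := Small.Order4320.value_involution hnc hη hz (irr_one_eq_charDegree η)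
      exact ⟨v, h1, by omega⟩
  choose v hv h4 using hex
  have hd : ∑ η : IrrCharacter G, (charDegree (η : G → ℂ) : ℤ) ^ 2 = (Nat.card G : ℤ) := by
    have := Chars17.natSum_sq_degrees (G := G)
    exact_mod_cast this
  rw [← sum_sq_eq z hv, ← hd, ← Finset.sum_sub_distrib]
  refine Finset.dvd_sum fun η _ => ?_
  obtain ⟨j, hj⟩ := Int.dvd_of_emod_eq_zero (h4 η)
  refine ⟨(charDegree (η : G → ℂ) : ℤ) * j + 2 * j * j, ?_⟩
  rw [show v η = (charDegree (η : G → ℂ) : ℤ) + 4 * j by linarith]
  ring

variable [Fact (Nat.Prime 11)] (P : Sylow 11 G)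

/-- An index-twelve subgroup forces a Sylow 11-subgroup to be self-centralising. -/
theorem card_CP_le_of_index_twelve (hP : Nat.card (P : Subgroup G) = 11) {H : Subgroup G}
    (hH : H.index = 12) : Nat.card (AbelianFrob.CP P) ≤ 11 := by
  obtain ⟨y, hy⟩ := exists_prime_orderOf_dvd_card' (G := (P : Subgroup G)) 11 hP.symm.dvd
  rw [← Subgroup.orderOf_coe] at hy
  rw [← centralizer_singleton_eq P hP y.2 fun h => by rw [h, orderOf_one] at hy; omega]
  exact card_centralizer_le_of_index hy (by rw [hH])

/-- The case where the centraliser of a Sylow 11-subgroup has a characteristic `q`-subgroup and 144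
Sylow 11-subgroups. -/
theorem false_of_sylow_centralizer (hP : Nat.card (P : Subgroup G) = 11) {q a r : ℕ}
    [Fact q.Prime] (hq : q = 2 ∧ r = 1 ∨ q = 3 ∧ r ≤ 2 ∧ 0 < r) (ha : a ≠ 0)
    (hC : Nat.card (AbelianFrob.CP P) = 11 * (q ^ a * r))
    (hG : Nat.card G = Nat.card (AbelianFrob.NP P) * 144)
    (hbad : ∀ X : Subgroup G, Nat.card X = q ^ a →
      ∃ d, d ∣ Nat.card (Subgroup.normalizer (X : Set G)) ∧ ¬ d ∣ Nat.card (AbelianFrob.NP P)) :
    False := by
  classical
  have hab := isMulCommutative_sylow P hP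
  set C := AbelianFrob.CP P with hCdef
  have hqa : 1 < q ^ a := Nat.one_lt_pow ha (Fact.out : q.Prime).one_lt
  have hq11 : Nat.Coprime (q ^ a) 11 := by
    rcases hq with ⟨rfl, -⟩ | ⟨rfl, -⟩ <;> exact Nat.Coprime.pow_left a (by norm_num)
  obtain ⟨Q⟩ : Nonempty (Sylow q C) := inferInstance
  have hQ : Nat.card (Q : Subgroup C) = q ^ a :=
    Small.card_sylow_of_card_eq (k := a) (m := 11 * r) (by rw [hC]; ring)
      (by rcases hq with ⟨rfl, rfl⟩ | ⟨rfl, h2, h0⟩ <;> omega) Q
  have hsub : Subsingleton (Sylow q C) := by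
    have hmul := Small.card_normalizer_mul_card_sylow Q
    have h3 : q ^ a ∣ Nat.card (Subgroup.normalizer ((Q : Subgroup C) : Set C)) :=
      hQ.symm.dvd.trans (Subgroup.card_dvd_of_le Subgroup.le_normalizer)
    have hPc : (P : Subgroup G).subgroupOf C ≤
        Subgroup.normalizer ((Q : Subgroup C) : Set C) := by
      intro z hz
      refine Small.centralizer_le_normalizer' _ (Subgroup.mem_centralizer_iff.2 fun w _ => ?_)
      exact Subtype.ext (Subgroup.mem_centralizer_iff.1 w.2 (z : G) hz).symm
    have h11 : 11 ∣ Nat.card (Subgroup.normalizer ((Q : Subgroup C) : Set C)) := by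
      have := Subgroup.card_dvd_of_le hPc
      rwa [Nat.card_congr (Subgroup.subgroupOfEquivOfLe (AbelianFrob.le_CP P hab)).toEquiv, hP]
        at this
    obtain ⟨k, hk⟩ := Nat.Coprime.mul_dvd_of_dvd_of_dvd hq11 h3 h11
    have hmod := card_sylow_modEq_one q C
    rw [hk, hC] at hmul
    have h2 : Nat.card (Sylow q C) ∣ r := by
      refine ⟨k, Nat.eq_of_mul_eq_mul_left (show 0 < q ^ a * 11 by omega) ?_⟩
      linarith
    have h1 : Nat.card (Sylow q C) = 1 := by
      rcases hq with ⟨-, rfl⟩ | ⟨rfl, h2', h0⟩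
      · exact Nat.dvd_one.1 h2
      · have hle := Nat.le_of_dvd h0 h2
        have hpos : 0 < Nat.card (Sylow 3 C) := Nat.card_pos
        have hmod' : Nat.card (Sylow 3 C) % 3 = 1 := hmod
        omega
    exact (Nat.card_eq_one_iff_unique.1 h1).1
  set X : Subgroup G := (Q : Subgroup C).map C.subtype with hXdef
  have hX : Nat.card X = q ^ a := by
    rw [hXdef, Subgroup.card_map_of_injective C.subtype_injective, hQ]
  have hNX : AbelianFrob.NP P ≤ Subgroup.normalizer (X : Set G) := by
    intro n hn
    haveI : Finite (X : Set G) := Set.toFinite _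
    refine Subgroup.mem_normalizer_fintype ?_
    rintro z ⟨w, hw, rfl⟩
    have hmemC : n * (w : G) * n⁻¹ ∈ C := by
      refine Subgroup.mem_centralizer_iff.2 fun v hv => ?_
      have h1 : n⁻¹ * v * n ∈ (P : Subgroup G) := (Subgroup.mem_normalizer_iff''.1 hn v).1 hv
      have h2 := Subgroup.mem_centralizer_iff.1 w.2 _ h1
      calc v * (n * (w : G) * n⁻¹) = n * (n⁻¹ * v * n * (w : G)) * n⁻¹ := by group
        _ = n * (w : G) * n⁻¹ * v := by rw [h2]; group
    refine ⟨⟨_, hmemC⟩, ?_, rfl⟩
    have hpg : IsPGroup q (Subgroup.zpowers (⟨_, hmemC⟩ : C)) := by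
      obtain ⟨k, hk⟩ := IsPGroup.iff_orderOf.1 Q.2 ⟨w, hw⟩
      refine IsPGroup.of_card (n := k) ?_
      rw [Nat.card_zpowers, ← Subgroup.orderOf_coe]
      rw [← Subgroup.orderOf_coe, ← Subgroup.orderOf_coe] at hk
      rw [← hk]
      exact MulEquiv.orderOf_eq (MulAut.conj n) _
    obtain ⟨Q', hQ'⟩ := hpg.exists_le_sylow
    obtain rfl := Subsingleton.elim Q' Q
    exact hQ' (Subgroup.mem_zpowers _)
  obtain ⟨d, hdM, hdN⟩ := hbad X hX
  set M := Subgroup.normalizer (X : Set G) with hM
  have hN11 : 11 ≤ Nat.card (AbelianFrob.NP P) :=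
    hP.symm.le.trans (Subgroup.card_le_of_le Subgroup.le_normalizer)
  have hXtop : X ≠ ⊤ := fun h => by
    have h1 : X ≤ C := Subgroup.map_subtype_le _
    rw [h] at h1
    have h2 := Subgroup.card_le_of_le (h1.trans (Subgroup.centralizer_le_normalizer _))
    rw [Subgroup.card_top] at h2
    change Nat.card G ≤ Nat.card (AbelianFrob.NP P) at h2
    omega
  have hMtop : M ≠ ⊤ := Small.normalizer_ne_top
    (fun h => by rw [h, Subgroup.card_bot] at hX; omega) hXtop
  set n' := (AbelianFrob.NP P).relIndex M with hn'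
  have hMcard : Nat.card M = Nat.card (AbelianFrob.NP P) * n' := by
    rw [hn', ← Subgroup.relIndex_bot_left, ← Subgroup.relIndex_mul_relIndex ⊥ _ _ bot_le hNX,
      Subgroup.relIndex_bot_left]
  have hPM : (P : Subgroup G) ≤ M := Subgroup.le_normalizer.trans hNX
  have hmod : n' % 11 = 1 := by
    have h := card_sylow_modEq_one 11 M
    rw [(P.subtype hPM).card_eq_index_normalizer, ← (P.subtype hPM).coe_coe, Sylow.coe_subtype,
      ← Subgroup.subgroupOf_normalizer_eq hPM] at h
    exact h
  have hne1 : n' ≠ 1 := fun h => hdN (by rwa [hMcard, h, mul_one] at hdM)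
  have hd : n' ∣ 144 := by
    have := Subgroup.card_subgroup_dvd_card M
    rw [hG, hMcard] at this
    exact Nat.dvd_of_mul_dvd_mul_left (by omega) this
  have hlt := Nat.le_of_dvd (by norm_num) hd
  have hidx := M.card_mul_index
  rcases index_cases n' (by omega) (by omega) hmod hd with h | h <;>
    rw [hG, hMcard, h, mul_assoc] at hidx <;>
    have hidx' := Nat.eq_of_mul_eq_mul_left (show 0 < Nat.card (AbelianFrob.NP P) by omega) hidx
  · have := card_CP_le_of_index_twelve P hP (H := M) (by omega)
    rw [← hCdef, hC] at this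
    have hr : 1 ≤ r := by rcases hq with ⟨-, rfl⟩ | ⟨-, -, h0⟩ <;> omega
    have := Nat.le_mul_of_pos_right (q ^ a) hr
    omega
  · exact hMtop (Subgroup.index_eq_one.1 (by omega))

omit [Fact (Nat.Prime 11)] in
theorem pow_two_dvd_normalizer {q a : ℕ} [Fact q.Prime] (hdvd : q ^ (a + 1) ∣ Nat.card G) {X : Subgroup G}
    (hX : Nat.card X = q ^ a) : q ^ (a + 1) ∣ Nat.card (Subgroup.normalizer (X : Set G)) :=
  Sylow.prime_pow_dvd_card_normalizer hdvd hX

/-- A non-abelian simple group whose order is a multiple of 11 and divides 95040 has order 660, 7920 or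
95040. -/
theorem card_cases_of_eleven {S : Type u} [Group S] [Finite S] [IsSimpleGroup S]
    (hdiv : Nat.card S ∣ 95040) (h11 : 11 ∣ Nat.card S) :
    Nat.card S = 11 ∨ Nat.card S = 660 ∨ Nat.card S = 7920 ∨ Nat.card S = 95040 := by
  classical
  haveI := Fintype.ofFinite S
  haveI := Fact.mk (by norm_num : Nat.Prime 11)
  by_cases hn : Nat.card S = 11
  · exact Or.inl hn
  have hnc : ¬ IsMulCommutative S := Small.nc_of_not_prime fun hp =>
    hn ((Nat.prime_dvd_prime_iff_eq (by norm_num) hp).1 h11).symm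
  right
  rcases Nat.lt_or_ge (Nat.card S) 6000 with hlt | hge
  · have h := Small.Low.card_mem hnc hlt
    simp only [List.mem_cons, List.not_mem_nil, or_false] at h
    omega
  obtain ⟨P⟩ : Nonempty (Sylow 11 S) := inferInstance
  obtain ⟨m, hm⟩ := h11
  have hm' : m ∣ 8640 := by
    rw [hm, show (95040 : ℕ) = 11 * 8640 by norm_num] at hdiv
    exact Nat.dvd_of_mul_dvd_mul_left (by norm_num) hdiv
  have h11m : ¬ 11 ∣ m := fun h => by have := h.trans hm'; omega
  have hP : Nat.card (P : Subgroup S) = 11 :=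
    (Small.card_sylow_of_card_eq (k := 1) (m := m) (by rw [hm, pow_one]) h11m P).trans (pow_one 11)
  obtain ⟨e, he1, hedvd, h11C, hNmul, hGmul⟩ := Small.sylow_prime_order_data hnc P hP
  have hrel := Small.card_centralizer_mul_relIndex (P : Subgroup S)
  change Nat.card (AbelianFrob.CP P) * (AbelianFrob.CP P).relIndex (AbelianFrob.NP P) =
    Nat.card (AbelianFrob.NP P) at hrel
  change Nat.card (AbelianFrob.CP P) * e = Nat.card (AbelianFrob.NP P) at hNmul
  change Nat.card (AbelianFrob.CP P) * e * _ = _ at hGmul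
  have hee : (AbelianFrob.CP P).relIndex (AbelianFrob.NP P) = e :=
    Nat.eq_of_mul_eq_mul_left Nat.card_pos (hrel.trans hNmul.symm)
  obtain ⟨k, hk⟩ := prime_dvd_card_centralizer P hP
  obtain ⟨⟨hn1, -⟩, hn2, hn3⟩ := (Finset.mem_filter.1 (Small.card_sylow_mem (p := 11) (G := S) hnc
    (k := 1) (m := m) one_ne_zero (by rw [hm, pow_one]) h11m)).imp_left Nat.mem_divisors.1
  have hmk : m = k * e * Nat.card (Sylow 11 S) := by
    rw [hk, hm] at hGmul
    linarith
  have hen : e * Nat.card (Sylow 11 S) ∣ 8640 := by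
    refine Dvd.dvd.trans ⟨k, ?_⟩ hm'
    rw [hmk]; ring
  have hken : k * (e * Nat.card (Sylow 11 S)) ∣ 8640 := by
    rw [← mul_assoc, ← hmk]
    exact hm'
  rw [hk] at hNmul
  have he : e = 5 ∨ e = 10 := by
    have h := Nat.le_of_dvd (by norm_num) hedvd
    rcases (show e = 2 ∨ e = 5 ∨ e = 10 by interval_cases e <;> omega) with rfl | h' | h'
    · exact (relIndex_ne_two P hdiv hP hnc hee).elim
    · exact Or.inl h'
    · exact Or.inr h'
  have hsmall : Nat.card (Sylow 11 S) = 12 → k ≤ 1 := fun h => by
    have := card_CP_le_of_index_twelve P hP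
      (H := Subgroup.normalizer ((P : Subgroup S) : Set S)) (by rw [← h, P.card_eq_index_normalizer]; rfl)
    omega
  have hpow : ∀ {q a : ℕ}, q.Prime → q ^ (a + 1) ∣ Nat.card S → ¬ q ^ (a + 1) ∣ Nat.card (AbelianFrob.NP P) →
      ∀ X : Subgroup S, Nat.card X = q ^ a → ∃ d, d ∣ Nat.card (Subgroup.normalizer (X : Set S)) ∧
        ¬ d ∣ Nat.card (AbelianFrob.NP P) := fun {q a} hq h h' X hX =>
    haveI := Fact.mk hq
    ⟨_, pow_two_dvd_normalizer h hX, h'⟩
  rcases mul_cases hn3 hn2 (hn1.trans hm') with h | h | h | h | h | h <;>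
    rw [h] at hmk hken hen
  · have := hsmall h
    rcases he with rfl | rfl <;> interval_cases k <;> omega
  · rcases he with rfl | rfl <;> norm_num at hen
  · rcases he with rfl | rfl
    · have hk12 : k ∣ 12 :=
        Nat.dvd_of_mul_dvd_mul_right (show 0 < 720 by norm_num) (by norm_num at hken ⊢; exact hken)
      have hle := Nat.le_of_dvd (by norm_num) hk12
      haveI := Fact.mk Nat.prime_two
      haveI := Fact.mk Nat.prime_three
      interval_cases k <;> norm_num [-Nat.card_eq_fintype_card] at hk12 <;> norm_num [-Nat.card_eq_fintype_card] at hmk hk hNmul <;> rw [hmk] at hm <;> norm_num [-Nat.card_eq_fintype_card] at hm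
      · exact Or.inr (Or.inl hm)
      · exact (false_of_sylow_centralizer P hP (q := 2) (a := 1) (r := 1) (by norm_num) one_ne_zero
          (by rw [hk]; norm_num) (by rw [hm, ← hNmul]) (hpow Nat.prime_two (by rw [hm]; norm_num)
            (by rw [← hNmul]; norm_num))).elim
      · exact (false_of_sylow_centralizer P hP (q := 3) (a := 1) (r := 1) (by norm_num) one_ne_zero
          (by rw [hk]; norm_num) (by rw [hm, ← hNmul]) (hpow Nat.prime_three (by rw [hm]; norm_num)
            (by rw [← hNmul]; norm_num))).elim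
      · exact (false_of_sylow_centralizer P hP (q := 2) (a := 2) (r := 1) (by norm_num) (by norm_num)
          (by rw [hk]; norm_num) (by rw [hm, ← hNmul]) (hpow Nat.prime_two (by rw [hm]; norm_num)
            (by rw [← hNmul]; norm_num))).elim
      · exact (false_of_sylow_centralizer P hP (q := 3) (a := 1) (r := 2) (by norm_num) one_ne_zero
          (by rw [hk]; norm_num) (by rw [hm, ← hNmul]) (hpow Nat.prime_three (by rw [hm]; norm_num)
            (by rw [← hNmul]; norm_num))).elim
      · exact Or.inr (Or.inr hm)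
    · have hk6 : k ∣ 6 :=
        Nat.dvd_of_mul_dvd_mul_right (show 0 < 1440 by norm_num) (by norm_num at hken ⊢; exact hken)
      have hle := Nat.le_of_dvd (by norm_num) hk6
      haveI := Fact.mk Nat.prime_two
      haveI := Fact.mk Nat.prime_three
      interval_cases k <;> norm_num [-Nat.card_eq_fintype_card] at hk6 <;> norm_num [-Nat.card_eq_fintype_card] at hmk hk hNmul <;> rw [hmk] at hm <;> norm_num [-Nat.card_eq_fintype_card] at hm
      · exact (card_ne_15840 P hm hk hNmul.symm).elim
      · refine (false_of_sylow_centralizer P hP (q := 2) (a := 1) (r := 1) (by norm_num) one_ne_zero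
          (by rw [hk]; norm_num) (by rw [hm, ← hNmul]) fun X hX => ?_).elim
        refine ⟨8, ?_, by rw [← hNmul]; norm_num⟩
        obtain ⟨z, hz⟩ := exists_prime_orderOf_dvd_card' (G := X) 2 (by rw [hX]; norm_num)
        rw [← Subgroup.orderOf_coe] at hz
        have h8 := card_centralizer_mod_eight hnc hz
        rw [hm] at h8
        refine Dvd.dvd.trans (b := Nat.card (Subgroup.centralizer ({(z : S)} : Set S))) (by omega)
          (Subgroup.card_dvd_of_le ?_)
        intro c hc
        have hz1 : (z : S) ≠ 1 := fun h => by rw [h, orderOf_one] at hz; omega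
        have hXz : X = Subgroup.zpowers (z : S) := by
          refine (Subgroup.eq_of_le_of_card_ge (Subgroup.zpowers_le.2 z.2) ?_).symm
          rw [hX, Nat.card_zpowers, hz]
          norm_num
        rw [hXz]
        refine Small.centralizer_le_normalizer' _ (Subgroup.mem_centralizer_iff.2 fun w hw => ?_)
        obtain ⟨i, rfl⟩ := Subgroup.mem_zpowers_iff.1 hw
        exact ((Commute.zpow_left (Subgroup.mem_centralizer_singleton_iff.1 hc).symm i)).eq
      · exact (false_of_sylow_centralizer P hP (q := 3) (a := 1) (r := 1) (by norm_num) one_ne_zero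
          (by rw [hk]; norm_num) (by rw [hm, ← hNmul]) (hpow Nat.prime_three (by rw [hm]; norm_num)
            (by rw [← hNmul]; norm_num))).elim
      · exact Or.inr (Or.inr hm)
  · rcases he with rfl | rfl <;> norm_num at hen
  · rcases he with rfl | rfl <;> norm_num at hen
  · rcases he with rfl | rfl
    · refine Or.inr (Or.inr ?_)
      have hle : k ≤ 1 := by
        have := Nat.le_of_dvd (by norm_num) hken
        omega
      interval_cases k <;> omega
    · norm_num at hen

end CfsgLib.MathieuTwelve
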