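import Cfsg.Agent.Lib.MathieuTwelve.ReduceLayer
import Cfsg.Agent.Lib.MathieuTwelve.SimpleDivisors
import Cfsg.Agent.Lib.MathieuTwelve.Main
import Cfsg.Agent.Lib.Characters.Ito
import Cfsg.Agent.Lib.Characters.SupplementAvg
import Cfsg.Agent.Lib.ThreeDegrees.Basic
import Cfsg.Agent.Lib.RankOneTwo.CharTools
import Cfsg.Agent.Lib.Order7920.Degrees
import Cfsg.Agent.Lib.Sporadic.M11Unique
import Cfsg.Agent.Lib.Schur.MultiplierM11
import Cfsg.Agent.Lib.Schur.OutM11
import Cfsg.Agent.Lib.PSL2.Recognition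
import Cfsg.Prelude.Def_DegreeGraph

/-!
# Groups of order 95040 with degrees divisible by 22, 33 and 55
-/

set_option autoImplicit false
set_option linter.style.haveILetI false
set_option linter.unusedSectionVars false

namespace CfsgLib.MathieuTwelve

open Subgroup Cfsg CfsgLib.Characters CfsgLib.CharCorr
open scoped commutatorElement

universe u

variable {G : Type u} [Group G] [Finite G]

theorem degrees_M11_cases {L : Type u} [Group L] [Finite L] [Fintype L] (e : L ≃* Spor.M11)
    (η : IrrCharacter L) : charDegree (η : L → ℂ) ∈ [1, 10, 11, 16, 44, 45, 55] := by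
  classical
  have := Golay.isSimpleGroup_sporM11
  haveI : Nontrivial L := e.toEquiv.nontrivial
  haveI : IsSimpleGroup L :=
    IsSimpleGroup.isSimpleGroup_of_surjective e.symm.toMonoidHom e.symm.surjective
  have hc : Nat.card L = 7920 := (Nat.card_congr e.toEquiv).trans Golay.natCard_sporM11
  have h := CfsgLib.Order7920.sum_degrees hc fun d => if d ∈ [1, 10, 11, 16, 44, 45, 55] then 0 else 1
  simp only [List.mem_cons, List.not_mem_nil, or_false, eq_self_iff_true, true_or, or_true, if_true,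
    mul_zero, add_zero] at h
  have := Finset.sum_eq_zero_iff.1 h η (Finset.mem_univ _)
  by_contra hne
  simp only [List.mem_cons, List.not_mem_nil, or_false] at hne
  simp [hne] at this

/-- The case where the quotient of the layer is the Mathieu group of degree eleven: then the layer has
trivial centre. -/
theorem ker_eq_bot_of_perfect {L : Type u} [Group L] [Finite L] (f : L →* Spor.M11)
    (hf : Function.Surjective f) (hc : f.ker ≤ center L) (hd : f.ker ≤ _root_.commutator L) :
    f.ker = ⊥ := by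
  let e : Shrink.{0} L ≃* L := Shrink.mulEquiv
  have : Finite (Shrink.{0} L) := Finite.of_equiv _ e.symm.toEquiv
  let σ : Shrink.{0} L →* Spor.M11 := f.comp e.toMonoidHom
  have hst : IsStemExtension σ := by
    refine ⟨hf.comp e.surjective, fun x hx => mem_center_iff.2 fun y => e.injective ?_, fun x hx => ?_⟩
    · rw [map_mul, map_mul]
      exact mem_center_iff.1 (hc hx) (e y)
    · have h1 : e x ∈ _root_.commutator L := hd hx
      have h2 : (_root_.commutator L).map e.symm.toMonoidHom ≤ _root_.commutator (Shrink.{0} L) := by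
        rw [commutator_def, commutator_def, Subgroup.map_commutator]
        exact commutator_mono le_top le_top
      simpa using h2 ⟨e x, h1, rfl⟩
  obtain ⟨π, hπ⟩ := Schur.MultiplierM11.multiplier.2 (Shrink.{0} L) σ hst
  haveI : Subsingleton σ.ker := hπ.subsingleton
  rw [eq_bot_iff]
  intro x hx
  have hx' : e.symm x ∈ σ.ker := by
    show f (e (e.symm x)) = 1
    rw [e.apply_symm_apply]; exact hx
  have h0 : (⟨_, hx'⟩ : σ.ker) = 1 := Subsingleton.elim _ _
  have h1 : e.symm x = 1 := congrArg Subtype.val h0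
  simpa using congrArg e h1

/-- A normal subgroup with a copy of the Mathieu group of degree eleven splits off. -/
theorem exists_complement_M11 {L : Subgroup G} [L.Normal] (e : L ≃* Spor.M11) :
    ∃ C : Subgroup G, C.Normal ∧ (∀ c ∈ C, ∀ l ∈ L, c * l = l * c) ∧ (∀ g : G, ∃ c ∈ C, ∃ l ∈ L, g = c * l) ∧
      (∀ x ∈ C, x ∈ L → x = 1) := by
  classical
  have hsimple := Golay.isSimpleGroup_sporM11
  have hinn : ∀ φ : MulAut L, ∃ l : L, MulAut.conj l = φ := by
    intro φ
    have h1 : Subsingleton (Out Spor.M11) :=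
      (Nat.card_eq_one_iff_unique.1 Schur.OutM11.card_out).1
    have hmem : e.symm.trans (φ.trans e) ∈ Inn Spor.M11 :=
      (QuotientGroup.eq_one_iff (N := Inn Spor.M11) _).1 (Subsingleton.elim _ _)
    obtain ⟨m, hm⟩ := hmem
    refine ⟨e.symm m, MulEquiv.ext fun x => ?_⟩
    have h2 : MulAut.conj m (e x) = e (φ x) := by
      rw [hm]; simp
    apply e.injective
    rw [← h2]
    simp
  refine ⟨centralizer (L : Set G), inferInstance, fun c hc l hl => (mem_centralizer_iff.1 hc l hl).symm,
    fun g => ?_, fun x hx hxL => ?_⟩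
  · obtain ⟨l, hl⟩ := hinn (MulAut.conjNormal g)
    refine ⟨g * (l : G)⁻¹, mem_centralizer_iff.2 fun y hy => ?_, l, l.2, by group⟩
    have hy' : (l : G)⁻¹ * y * (l : G) ∈ L := L.mul_mem (L.mul_mem (L.inv_mem l.2) hy) l.2
    have h := congrArg Subtype.val (congrArg (fun φ : MulAut L => φ ⟨_, hy'⟩) hl)
    simp only [MulAut.conj_apply, MulAut.conjNormal_apply, coe_mul, InvMemClass.coe_inv] at h
    calc y * (g * (l : G)⁻¹)
        = ((l : G) * ((l : G)⁻¹ * y * l) * (l : G)⁻¹) * (g * (l : G)⁻¹) := by group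
      _ = g * ((l : G)⁻¹ * y * l) * g⁻¹ * (g * (l : G)⁻¹) := by rw [h]
      _ = g * (l : G)⁻¹ * y := by group
  · have hnc : ¬ IsMulCommutative Spor.M11 :=
      Small.nc_of_not_prime (by rw [Golay.natCard_sporM11]; norm_num)
    have hcent : e ⟨x, hxL⟩ ∈ center Spor.M11 := mem_center_iff.2 fun m => by
      obtain ⟨l, rfl⟩ := e.surjective m
      rw [← map_mul, ← map_mul]
      exact congrArg e (Subtype.ext (mem_centralizer_iff.1 hx l l.2))
    rw [Small.center_eq_bot_of_nc hnc, mem_bot, MulEquiv.map_eq_one_iff] at hcent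
    exact congrArg Subtype.val hcent

/-- An element of order six in the complement is incompatible with a degree divisible by 33. -/
theorem orderOf_ne_six {L C : Subgroup G} [L.Normal] [hCn : C.Normal] (e : L ≃* Spor.M11)
    (hcomm : ∀ c ∈ C, ∀ l ∈ L, c * l = l * c) (hcov : ∀ g : G, ∃ c ∈ C, ∃ l ∈ L, g = c * l)
    (hdisj : ∀ x ∈ C, x ∈ L → x = 1) (hC : Nat.card C = 12) (hG : Nat.card G = 95040)
    (h33 : ∃ d ∈ charDegrees G, 33 ∣ d) (c : C) : orderOf c ≠ 6 := by
  classical
  intro hc
  set A := (zpowers c).map C.subtype with hA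
  have hAC : A ≤ C := map_subtype_le _
  have hAcard : Nat.card A = 6 := by
    rw [hA, Subgroup.card_map_of_injective C.subtype_injective, Nat.card_zpowers, hc]
  haveI : (zpowers c).Normal := by
    refine Subgroup.normal_of_index_eq_two ?_
    have := (zpowers c).card_mul_index
    rw [Nat.card_zpowers, hc, hC] at this
    omega
  have hAn : A.Normal := by
    refine ⟨fun a ha g => ?_⟩
    obtain ⟨k, hk, l, hl, rfl⟩ := hcov g
    obtain ⟨a', ha', rfl⟩ := ha
    have e1 : k * l * C.subtype a' * (k * l)⁻¹ = k * (a' : G) * k⁻¹ := by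
      calc k * l * C.subtype a' * (k * l)⁻¹ = k * (l * (a' : G)) * l⁻¹ * k⁻¹ := by
            simp only [coe_subtype]; group
        _ = k * ((a' : G) * l) * l⁻¹ * k⁻¹ := by rw [hcomm _ a'.2 l hl]
        _ = _ := by group
    rw [e1]
    exact ⟨⟨k, hk⟩ * a' * ⟨k, hk⟩⁻¹, Normal.conj_mem inferInstance a' ha' _, rfl⟩
  set N := A ⊔ L with hN
  have hNn : N.Normal := inferInstance
  have hALN : L ≤ N := le_sup_right
  have hAN : A ≤ N := le_sup_left
  have hAcent : A.subgroupOf N ≤ center N := by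
    intro a ha
    refine mem_center_iff.2 fun n => Subtype.ext ?_
    obtain ⟨a', ha', l, hl, hn⟩ := mem_sup_of_normal_right.1 n.2
    show (n : G) * (a : G) = (a : G) * n
    rw [← hn]
    have hab : a' * (a : G) = (a : G) * a' := by
      obtain ⟨⟨x, hxC⟩, hx, rfl⟩ := ha'
      obtain ⟨⟨y, hyC⟩, hy, hy'⟩ := (mem_subgroupOf.1 ha : (a : G) ∈ A)
      rw [← hy']
      obtain ⟨i, hi⟩ := mem_zpowers_iff.1 hx
      obtain ⟨j, hj⟩ := mem_zpowers_iff.1 hy
      rw [← hi, ← hj, coe_subtype, coe_zpow, coe_zpow, ← zpow_add, ← zpow_add, add_comm]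
    rw [mul_assoc, ← hcomm _ (hAC (mem_subgroupOf.1 ha)) l hl, ← mul_assoc, hab, mul_assoc]
  have hNcard : Nat.card N = 6 * 7920 := by
    have hL : Nat.card L = 7920 := (Nat.card_congr e.toEquiv).trans Golay.natCard_sporM11
    rw [← hAcard, ← hL, ← Nat.card_prod]
    symm
    refine Nat.card_eq_of_bijective (fun p : A × L => (⟨(p.1 : G) * p.2, N.mul_mem (hAN p.1.2) (hALN p.2.2)⟩ : N))
      ⟨fun p q hpq => ?_, fun n => ?_⟩
    · have h : (p.1 : G) * p.2 = (q.1 : G) * q.2 := congrArg Subtype.val hpq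
      have h1 : (q.1 : G)⁻¹ * p.1 = (q.2 : G) * (p.2 : G)⁻¹ := by
        calc (q.1 : G)⁻¹ * p.1 = (q.1 : G)⁻¹ * ((p.1 : G) * p.2) * (p.2 : G)⁻¹ := by group
          _ = _ := by rw [h]; group
      have h2 := hdisj _ (C.mul_mem (C.inv_mem (hAC q.1.2)) (hAC p.1.2))
        (h1 ▸ L.mul_mem q.2.2 (L.inv_mem p.2.2))
      have h3 : (p.1 : G) = q.1 := (inv_mul_eq_one.1 h2).symm
      rw [h3] at h
      exact Prod.ext (Subtype.ext h3) (Subtype.ext (mul_left_cancel h))
    · obtain ⟨a, ha, l, hl, hn⟩ := mem_sup_of_normal_right.1 n.2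
      exact ⟨(⟨a, ha⟩, ⟨l, hl⟩), Subtype.ext hn⟩
  have hNidx : N.index = 2 := by
    have := N.card_mul_index
    rw [hNcard, hG] at this
    omega
  have hAidx : (A.subgroupOf N).index = 7920 := by
    have := (A.subgroupOf N).card_mul_index
    rw [Nat.card_congr (subgroupOfEquivOfLe hAN).toEquiv, hAcard, hNcard] at this
    omega
  haveI := Fintype.ofFinite G
  haveI := Fintype.ofFinite N
  obtain ⟨d, ⟨χ, rfl⟩, hd⟩ := h33
  obtain ⟨θ, -, k, hk, hkd⟩ := ThreeDegrees.exists_below N χ
  rw [hNidx] at hkd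
  have h33θ : 33 ∣ charDegree (θ : N → ℂ) := by
    rcases (Nat.dvd_prime Nat.prime_two).1 hkd with rfl | rfl
    · simpa [hk] using hd
    · rw [hk] at hd
      exact (Nat.Coprime.dvd_mul_left (by norm_num : Nat.Coprime 33 2)).1 hd
  have hsq := RankOneTwo.degree_sq_le_index θ (A.subgroupOf N) hAcent (irr_one_eq_charDegree θ)
  rw [hAidx] at hsq
  -- the restriction to the layer
  haveI : (L.subgroupOf N).Normal := Normal.subgroupOf inferInstance N
  haveI := Fintype.ofFinite (L.subgroupOf N)
  have hirr : IsIrrCharacter (L.subgroupOf N) (fun x : L.subgroupOf N => (θ : N → ℂ) x) := by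
    refine SupplementAvg.irr_res_of_central (fun n => ?_) θ.2
    obtain ⟨a, ha, l, hl, hn⟩ := mem_sup_of_normal_right.1 n.2
    refine ⟨⟨l, hALN hl⟩, mem_subgroupOf.2 hl, ?_⟩
    have : (⟨l, hALN hl⟩ : N)⁻¹ * n = ⟨a, hAN ha⟩ := by
      refine Subtype.ext ?_
      show l⁻¹ * (n : G) = a
      rw [← hn, hcomm a (hAC ha) l hl, inv_mul_cancel_left]
    rw [this]
    exact hAcent (mem_subgroupOf.2 ha)
  let η : IrrCharacter (L.subgroupOf N) := ⟨_, hirr⟩
  have hdeg : charDegree (η : L.subgroupOf N → ℂ) = charDegree (θ : N → ℂ) := by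
    have h1 := irr_one_eq_charDegree η
    have h2 := irr_one_eq_charDegree θ
    have h3 : (η : L.subgroupOf N → ℂ) 1 = (θ : N → ℂ) 1 := by
      simp only [η, OneMemClass.coe_one]
    rw [h1, h2] at h3
    exact_mod_cast h3
  have h := degrees_M11_cases ((subgroupOfEquivOfLe hALN).trans e) η
  rw [hdeg] at h
  simp only [List.mem_cons, List.not_mem_nil, or_false] at h
  rcases h with h | h | h | h | h | h | h <;> rw [h] at h33θ <;> norm_num at h33θ

/-- A group of order 95040 with degrees divisible by 22, 33 and 55 is `M₁₂` or `A₄ × M₁₁`. -/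
theorem nonempty_equiv_of_degrees (hG : Nat.card G = 95040) (h33 : ∃ d ∈ charDegrees G, 33 ∣ d)
    (h55 : ∃ d ∈ charDegrees G, 55 ∣ d) :
    Nonempty (G ≃* Spor.M12) ∨ Nonempty (G ≃* alternatingGroup (Fin 4) × Spor.M11) := by
  classical
  haveI := Fintype.ofFinite G
  obtain ⟨L, hLn, Z, hZn, hL11, hZ11, hZc, hdich, hS⟩ := exists_layer hG
  haveI := Fintype.ofFinite L
  have hLd : Nat.card L ∣ 95040 := hG ▸ card_subgroup_dvd_card L
  have hLidx : ¬ 11 ∣ L.index := by
    intro h
    have := Nat.mul_dvd_mul hL11 h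
    rw [L.card_mul_index, hG] at this
    norm_num at this
  have hZi : Nat.card (L ⧸ Z) = Z.index := (Subgroup.index_eq_card Z).symm
  have hZdvd : Nat.card (L ⧸ Z) ∣ 95040 := hZi ▸ (Z.index_dvd_card.trans hLd)
  have h11 : 11 ∣ Nat.card (L ⧸ Z) := by
    rw [hZi]
    have : 11 ∣ Nat.card Z * Z.index := Z.card_mul_index ▸ hL11
    exact ((Nat.Prime.dvd_mul (by norm_num)).1 this).resolve_left hZ11
  obtain ⟨d, ⟨χ, rfl⟩, hd⟩ := h55
  rcases card_cases_of_eleven hZdvd h11 with hc | hc | hc | hc
  · -- the layer is abelian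
    exfalso
    haveI := Fact.mk (by norm_num : Nat.Prime 11)
    haveI : IsCyclic (L ⧸ Z) := isCyclic_of_prime_card hc
    have hab := commutative_of_cyclic_center_quotient (QuotientGroup.mk' Z)
      (by rw [QuotientGroup.ker_mk']; exact hZc)
    obtain ⟨m, hm, hmd⟩ := CharIto.degree_dvd_index_of_abelian_normal χ.2 L hLn
      fun a ha b hb => congrArg Subtype.val (hab ⟨a, ha⟩ ⟨b, hb⟩)
    rw [irr_one_eq_charDegree, Nat.cast_inj] at hm
    exact hLidx (((show (11 : ℕ) ∣ 55 by norm_num).trans hd).trans (hm ▸ hmd))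
  · -- quotient of order 660
    exfalso
    obtain ⟨θ, -, k, hk, hkd⟩ := ThreeDegrees.exists_below L χ
    have hLidx5 : ¬ 5 ∣ L.index := by
      intro h
      have h5 : 5 ∣ Nat.card L := by
        rw [← Z.card_mul_index, ← hZi, hc]
        exact dvd_mul_of_dvd_right (by norm_num) _
      have := Nat.mul_dvd_mul h5 h
      rw [L.card_mul_index, hG] at this
      norm_num at this
    rw [hk] at hd
    have hp : ∀ p : ℕ, p.Prime → p ∣ 55 → ¬ p ∣ L.index → p ∣ charDegree (θ : L → ℂ) := fun p hp h55 hn =>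
      (hp.dvd_mul.1 (h55.trans hd)).resolve_left fun h => hn (h.trans hkd)
    have h55θ : 55 ∣ charDegree (θ : L → ℂ) :=
      Nat.Coprime.mul_dvd_of_dvd_of_dvd (by norm_num : Nat.Coprime 5 11)
        (hp 5 Nat.prime_five (by norm_num) hLidx5) (hp 11 (by norm_num) (by norm_num) hLidx)
    have hpos := (ClassCount.degree_eq θ).2.2
    have hle := Nat.le_of_dvd hpos h55θ
    have hsq := RankOneTwo.degree_sq_le_index θ Z hZc (irr_one_eq_charDegree θ)
    rw [← hZi, hc] at hsq
    have := Nat.pow_le_pow_left hle 2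
    omega
  · -- the quotient is `M₁₁`
    right
    obtain ⟨q⟩ := Sporadic.M11.nonempty_equiv_sporM11 (G := L ⧸ Z) hc
    let f : L →* Spor.M11 := q.toMonoidHom.comp (QuotientGroup.mk' Z)
    have hker : f.ker = Z := by
      ext x
      simp [f, QuotientGroup.eq_one_iff]
    have hcomm : _root_.commutator L = ⊤ := by
      refine (hdich _ inferInstance).resolve_left fun hle => ?_
      have hnc : ¬ IsMulCommutative (L ⧸ Z) := Small.nc_of_not_prime (by rw [hc]; norm_num)
      refine hnc ⟨⟨fun x y => ?_⟩⟩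
      induction x using QuotientGroup.induction_on with
      | _ a =>
        induction y using QuotientGroup.induction_on with
        | _ b =>
          rw [← QuotientGroup.mk_mul, ← QuotientGroup.mk_mul, QuotientGroup.eq]
          refine hle ?_
          rw [show (a * b)⁻¹ * (b * a) = ⁅b⁻¹, a⁻¹⁆ by rw [commutatorElement_def]; group]
          exact commutator_mem_commutator (mem_top _) (mem_top _)
    have hbot : f.ker = ⊥ := ker_eq_bot_of_perfect f (q.surjective.comp (QuotientGroup.mk'_surjective Z))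
      (hker ▸ hZc) (by rw [hcomm]; exact le_top)
    let e : L ≃* Spor.M11 := MulEquiv.ofBijective f
      ⟨(MonoidHom.ker_eq_bot_iff f).1 hbot, q.surjective.comp (QuotientGroup.mk'_surjective Z)⟩
    obtain ⟨C, hCn, hCL, hcov, hdisj⟩ := exists_complement_M11 e
    let m : C × L →* G := MonoidHom.noncommCoprod C.subtype L.subtype fun c l => hCL c c.2 l l.2
    have hm : Function.Bijective m := by
      refine ⟨(MonoidHom.ker_eq_bot_iff m).1 (eq_bot_iff.2 fun p hp => ?_), fun g => ?_⟩
      · have h : (p.1 : G) * p.2 = 1 := hp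
        have h1 : (p.1 : G) = 1 := hdisj _ p.1.2 ((mul_eq_one_iff_eq_inv.1 h) ▸ L.inv_mem p.2.2)
        rw [h1, one_mul] at h
        exact mem_bot.2 (Prod.ext (Subtype.ext h1) (Subtype.ext h))
      · obtain ⟨c, hc, l, hl, rfl⟩ := hcov g
        exact ⟨(⟨c, hc⟩, ⟨l, hl⟩), rfl⟩
    have hCcard : Nat.card C = 12 := by
      have h := Nat.card_eq_of_bijective m hm
      rw [Nat.card_prod, hG, Nat.card_congr e.toEquiv, Golay.natCard_sporM11] at h
      omega
    haveI := hCn
    obtain ⟨a⟩ := PSL2.nonempty_mulEquiv_alternating_four hCcard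
      fun c => orderOf_ne_six e hCL hcov hdisj hCcard hG h33 c
    exact ⟨(MulEquiv.ofBijective m hm).symm.trans (a.prodCongr e)⟩
  · -- the group is simple
    left
    have hLtop : L = ⊤ := by
      refine Subgroup.eq_top_of_le_card _ ?_
      rw [hG, ← hc, hZi]
      exact Nat.le_of_dvd Nat.card_pos Z.index_dvd_card
    have hZ1 : Z = ⊥ := by
      refine Subgroup.eq_bot_of_card_eq _ ?_
      have h := Z.card_mul_index
      have hLc : Nat.card L = 95040 := by rw [hLtop, Subgroup.card_top, hG]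
      rw [← hZi, hc, hLc] at h
      omega
    let f : (L ⧸ Z) ≃* G :=
      ((QuotientGroup.quotientMulEquivOfEq hZ1).trans QuotientGroup.quotientBot).trans
        ((MulEquiv.subgroupCongr hLtop).trans Subgroup.topEquiv)
    haveI : Nontrivial G := f.symm.toEquiv.nontrivial
    haveI : IsSimpleGroup G := IsSimpleGroup.isSimpleGroup_of_surjective f.toMonoidHom f.surjective
    exact nonempty_equiv_sporM12 hG

end CfsgLib.MathieuTwelve
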