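import Cfsg.Agent.Lib.MathieuTwelve.ReduceNSE
import Cfsg.Agent.Lib.Order7920.Edge
import Cfsg.Agent.Lib.PCore.Basic
import Cfsg.Agent.Lib.Structure.Radicals

/-!
# The subgroup generated by the elements of order eleven in a group of order 95040
-/

set_option autoImplicit false
set_option linter.style.haveILetI false
set_option linter.unusedSectionVars false

namespace CfsgLib.MathieuTwelve

open Subgroup CfsgLib.Small Cfsg

universe u

variable {G : Type u} [Group G] [Finite G]

theorem pow_mod_eleven_inj : ∀ q ∈ [2, 3, 5], ∀ i : Fin 7, ∀ l : Fin 7, (l : ℕ) ≤ i →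
    q ^ (i : ℕ) ∣ 95040 → q ^ (i : ℕ) % 11 = q ^ (l : ℕ) % 11 → (l : ℕ) = i := by decide +kernel

theorem prime_cases_of_dvd {q : ℕ} (hq : q.Prime) (h11 : q ≠ 11) (hd : q ∣ 95040) : q ∈ [2, 3, 5] := by
  have h : q ∣ 2 ^ 6 * 3 ^ 3 * 5 * 11 := by norm_num; exact hd
  have hp : ∀ {r : ℕ}, r.Prime → q ∣ r → q = r := fun hr h => (Nat.prime_dvd_prime_iff_eq hq hr).1 h
  simp only [List.mem_cons, List.not_mem_nil, or_false]
  rcases hq.dvd_mul.1 h with h | h
  · rcases hq.dvd_mul.1 h with h | h
    · rcases hq.dvd_mul.1 h with h | h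
      · exact Or.inl (hp Nat.prime_two (hq.dvd_of_dvd_pow h))
      · exact Or.inr (Or.inl (hp Nat.prime_three (hq.dvd_of_dvd_pow h)))
    · exact Or.inr (Or.inr (hp Nat.prime_five h))
  · exact absurd (hp (by norm_num) h) h11

theorem le_six_of_pow_dvd {q i : ℕ} (hq : q.Prime) (hd : q ^ i ∣ 95040) : i < 7 := by
  by_contra hi
  have h7 : q ^ 7 ∣ 95040 := (Nat.pow_dvd_pow q (not_lt.1 hi)).trans hd
  have hle := Nat.le_of_dvd (by norm_num) h7
  have hq6 : q < 6 := by
    by_contra h
    have := Nat.pow_le_pow_left (not_lt.1 h) 7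
    omega
  have := hq.two_le
  interval_cases q <;> norm_num at h7

/-- Elements of order eleven centralise normal subgroups of order prime to eleven. -/
theorem commute_of_normal (h : Nat.card G = 95040) [Fact (Nat.Prime 11)] (K : Subgroup G) [K.Normal]
    (hK : ¬ 11 ∣ Nat.card K) {y : G} (hy : orderOf y = 11) : K ≤ centralizer ({y} : Set G) := by
  classical
  set C := K ⊓ centralizer ({y} : Set G) with hC
  suffices hd : Nat.card K ∣ Nat.card C by
    rw [← Subgroup.eq_of_le_of_card_ge (inf_le_left : C ≤ K) (Nat.le_of_dvd Nat.card_pos hd)]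
    exact inf_le_right
  refine (Nat.dvd_iff_prime_pow_dvd_dvd _ _).2 fun q j hq hj => ?_
  rcases Nat.eq_zero_or_pos j with rfl | hjpos
  · simp
  have := Fact.mk hq
  obtain ⟨T⟩ : Nonempty (Sylow q K) := inferInstance
  obtain ⟨i, hi⟩ := IsPGroup.iff_card.1 T.isPGroup'
  have hji : j ≤ i := by
    have h1 := T.pow_dvd_card_of_pow_dvd_card hj
    rw [hi] at h1
    exact (Nat.pow_dvd_pow_iff_le_right hq.one_lt).1 h1
  set R := ((T : Subgroup K).map K.subtype : Subgroup G) with hR
  have hRc : Nat.card R = q ^ i := by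
    rw [hR, Subgroup.card_map_of_injective K.subtype_injective, hi]
  have hdvd : 11 ∣ K.index := by
    have h11 : 11 ∣ Nat.card K * K.index := by rw [K.card_mul_index, h]; norm_num
    exact ((Nat.Prime.dvd_mul (by norm_num)).1 h11).resolve_left hK
  obtain ⟨y₀, hy₀⟩ := exists_prime_orderOf_dvd_card' 11
    (hdvd.trans (CfsgLib.Order7920.index_dvd_card_normalizer K T))
  rw [← Subgroup.orderOf_coe] at hy₀
  obtain ⟨P, hyP, -⟩ := exists_unique_sylow_mem hy (sylow_eleven_card h)
  obtain ⟨P₀, hyP₀, -⟩ := exists_unique_sylow_mem hy₀ (sylow_eleven_card h)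
  have hgen₀ := eq_zpowers_of_mem (sylow_eleven_card h P₀) hyP₀ fun e => by
    rw [e, orderOf_one] at hy₀; norm_num at hy₀
  obtain ⟨g, hg⟩ := MulAction.exists_smul_eq G P₀ P
  rw [← hg, ← SetLike.mem_coe, Sylow.coe_smul, Set.mem_smul_set_iff_inv_smul_mem] at hyP
  have hconj : g⁻¹ * y * g ∈ (P₀ : Subgroup G) := by
    rw [← SetLike.mem_coe]; simpa [MulAut.smul_def] using hyP
  have hnorm : g⁻¹ * y * g ∈ normalizer (R : Set G) :=
    (hgen₀.le.trans (zpowers_le.2 y₀.2)) hconj
  have ho : orderOf (g⁻¹ * y * g) = 11 := by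
    rw [← hy, ← MulEquiv.orderOf_eq (MulAut.conj g⁻¹) y]
    simp [mul_assoc]
  -- the invariant Sylow subgroup is centralised
  have hm := CfsgLib.Order7920.card_modEq_card_inf_centralizer (R := R)
    (IsPGroup.of_card (n := 1) (by rw [Nat.card_zpowers, ho, pow_one] :
      Nat.card (zpowers (g⁻¹ * y * g)) = 11 ^ 1)) (zpowers_le.2 hnorm)
  have hqd : Nat.card (R ⊓ centralizer (zpowers (g⁻¹ * y * g) : Set G) : Subgroup G) ∣ q ^ i :=
    hRc ▸ card_dvd_of_le inf_le_left
  obtain ⟨l, hl, hlq⟩ := (Nat.dvd_prime_pow hq).1 hqd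
  have hqi : q ^ i ∣ 95040 := by
    rw [← h, ← hRc]; exact card_subgroup_dvd_card R
  have hq11 : q ≠ 11 := fun e => hK (e ▸ (dvd_pow_self q (by omega)).trans hj)
  have hlist := prime_cases_of_dvd hq hq11 ((dvd_pow_self q (by omega)).trans hqi)
  rw [hRc, hlq] at hm
  have hil : l = i := pow_mod_eleven_inj q hlist ⟨i, le_six_of_pow_dvd hq hqi⟩
    ⟨l, lt_of_le_of_lt hl (le_six_of_pow_dvd hq hqi)⟩ hl hqi hm
  have hRC : R ≤ centralizer ({g⁻¹ * y * g} : Set G) := by
    have := Subgroup.eq_of_le_of_card_ge (inf_le_left : R ⊓ _ ≤ R) (by rw [hlq, hil, hRc])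
    rw [← this]
    refine inf_le_right.trans (centralizer_le ?_)
    simp [mem_zpowers]
  have hR' : R.map (MulAut.conj g).toMonoidHom ≤ C := by
    rintro x ⟨r, hr, rfl⟩
    refine Subgroup.mem_inf.2 ⟨(inferInstance : K.Normal).conj_mem r (map_subtype_le _ hr) g, ?_⟩
    have h1 := mem_centralizer_singleton_iff.1 (hRC hr)
    rw [mem_centralizer_singleton_iff]
    show g * r * g⁻¹ * y = y * (g * r * g⁻¹)
    calc g * r * g⁻¹ * y = g * (r * (g⁻¹ * y * g)) * g⁻¹ := by group
      _ = g * (g⁻¹ * y * g * r) * g⁻¹ := by rw [h1]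
      _ = y * (g * r * g⁻¹) := by group
  refine (Nat.pow_dvd_pow q hji).trans ?_
  rw [← hRc, ← Subgroup.card_map_of_injective (f := (MulAut.conj g).toMonoidHom)
    (MulAut.conj g).injective]
  exact card_dvd_of_le hR'

/-- The subgroup `L` generated by the elements of order eleven and its central radical `Z`. -/
theorem exists_layer (h : Nat.card G = 95040) :
    ∃ (L : Subgroup G) (_ : L.Normal) (Z : Subgroup L) (_ : Z.Normal),
      11 ∣ Nat.card L ∧ ¬ 11 ∣ Nat.card Z ∧ Z ≤ center L ∧
      (∀ N : Subgroup L, N.Normal → N ≤ Z ∨ N = ⊤) ∧ IsSimpleGroup (L ⧸ Z) := by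
  classical
  have : Fact (Nat.Prime 11) := ⟨by norm_num⟩
  set S : Set G := {y | orderOf y = 11}
  set L := closure S with hL
  have hLn : L.Normal := by
    have : normalClosure S = L := by
      refine le_antisymm ?_ closure_le_normalClosure
      show closure (Group.conjugatesOfSet S) ≤ L
      refine closure_mono fun x hx => ?_
      obtain ⟨a, ha, hconj⟩ := Group.mem_conjugatesOfSet_iff.1 hx
      obtain ⟨c, rfl⟩ := isConj_iff.1 hconj
      show orderOf (c * a * c⁻¹) = 11
      rw [← show orderOf a = 11 from ha]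
      exact MulEquiv.orderOf_eq (MulAut.conj c) a
    rw [← this]
    exact normalClosure_normal
  set K := pPrimeCore 11 G with hK
  have hKn : K.Normal := inferInstance
  have hK11 : ¬ 11 ∣ Nat.card K := PCore.not_dvd_card_pPrimeCore
  have hLK : L ≤ centralizer (K : Set G) := (closure_le _).2 fun y hy => by
    refine mem_centralizer_iff.2 fun k hk => ?_
    exact mem_centralizer_singleton_iff.1 (commute_of_normal h K hK11 hy hk)
  set Z := K.subgroupOf L with hZ
  have hZc : Z ≤ center L := fun z hz => mem_center_iff.2 fun l =>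
    Subtype.ext (mem_centralizer_iff.1 (hLK l.2) z hz).symm
  have hZ11 : ¬ 11 ∣ Nat.card Z := fun hd => hK11 (by
    refine hd.trans ?_
    rw [hZ, ← Subgroup.card_map_of_injective L.subtype_injective]
    exact card_dvd_of_le (by rw [subgroupOf_map_subtype]; exact inf_le_left))
  have hmem : ∀ y : G, orderOf y = 11 → y ∈ L := fun y hy => subset_closure hy
  obtain ⟨y₀, hy₀⟩ := exists_prime_orderOf_dvd_card' (G := G) 11 (by rw [h]; norm_num)
  have hL11 : 11 ∣ Nat.card L := by
    rw [← hy₀]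
    exact (Subgroup.orderOf_mk _ (hmem y₀ hy₀)).symm ▸ orderOf_dvd_natCard (⟨y₀, hmem y₀ hy₀⟩ : L)
  have hdich : ∀ N : Subgroup L, N.Normal → N ≤ Z ∨ N = ⊤ := by
    intro N hN
    by_cases hd : 11 ∣ Nat.card N
    · right
      obtain ⟨⟨x, hxN⟩, hx⟩ := exists_prime_orderOf_dvd_card' 11 hd
      rw [Subgroup.orderOf_mk] at hx
      have hcardL : ∀ P : Sylow 11 L, Nat.card (P : Subgroup L) = 11 := by
        intro P
        obtain ⟨c, hc⟩ := card_subgroup_dvd_card L
        obtain ⟨m, hm⟩ := hL11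
        have hm11 : ¬ 11 ∣ m := by
          rintro ⟨d, rfl⟩
          rw [hm, h] at hc
          have : 11 * 11 ∣ 95040 := ⟨d * c, by linarith⟩
          norm_num at this
        simpa using card_sylow_of_card_eq (k := 1) (m := m) (by rw [hm, pow_one]) hm11 P
      refine eq_top_iff.2 ?_
      have hall : ∀ y : L, orderOf y = 11 → y ∈ N := by
        intro y hy
        obtain ⟨P, hxP, -⟩ := exists_unique_sylow_mem hx hcardL
        obtain ⟨Q, hyQ, -⟩ := exists_unique_sylow_mem hy hcardL
        have hgen := eq_zpowers_of_mem (hcardL P) hxP fun e => by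
          rw [e, orderOf_one] at hx; norm_num at hx
        obtain ⟨g, hg⟩ := MulAction.exists_smul_eq L P Q
        rw [← hg, ← SetLike.mem_coe, Sylow.coe_smul, Set.mem_smul_set_iff_inv_smul_mem] at hyQ
        have hc : g⁻¹ * y * g ∈ (P : Subgroup L) := by
          rw [← SetLike.mem_coe]; simpa [MulAut.smul_def] using hyQ
        have hcN : g⁻¹ * y * g ∈ N := (hgen.le.trans (zpowers_le.2 hxN)) hc
        simpa [mul_assoc] using hN.conj_mem _ hcN g
      have htop : closure ((↑) ⁻¹' S : Set L) = ⊤ := closure_closure_coe_preimage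
      rw [← htop, closure_le]
      exact fun y hy => hall y ((Subgroup.orderOf_coe y).symm.trans hy)
    · left
      have hsub : (N.map L.subtype).IsSubnormal := hN.isSubnormal.trans' hLn.isSubnormal
      have hle := Structure.le_pPrimeCore_of_isSubnormal hsub (p := 11) (by
        rw [Subgroup.card_map_of_injective L.subtype_injective]
        exact ((Nat.Prime.coprime_iff_not_dvd (by norm_num)).2 hd).symm)
      exact fun n hn => hle ⟨n, hn, rfl⟩
  refine ⟨L, hLn, Z, hKn.subgroupOf L, hL11, hZ11, hZc, hdich, ?_⟩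
  haveI : Z.Normal := hKn.subgroupOf L
  haveI : Nontrivial (L ⧸ Z) := QuotientGroup.nontrivial_iff.2 fun e =>
    hZ11 (by rw [e, Subgroup.card_top]; exact hL11)
  refine ⟨fun N hN => ?_⟩
  rcases hdich (N.comap (QuotientGroup.mk' Z)) (hN.comap _) with hh | hh
  · left
    rw [← map_comap_eq_self_of_surjective (QuotientGroup.mk'_surjective Z) N, Subgroup.map_eq_bot_iff,
      QuotientGroup.ker_mk']
    exact hh
  · right
    rw [← map_comap_eq_self_of_surjective (QuotientGroup.mk'_surjective Z) N, hh,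
      map_top_of_surjective _ (QuotientGroup.mk'_surjective Z)]

end CfsgLib.MathieuTwelve
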