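import Cfsg.Agent.Lib.Golay.Mathieu
import Cfsg.Agent.Lib.Sporadic.M11Sylow

/-!
An element of order `11` of the Mathieu group of degree twelve fixes one point of its dodecad, so its
centraliser is the one in the point stabiliser, of order `11`.
-/

set_option autoImplicit false

namespace CfsgLib.MathieuTwelve

open Subgroup Cfsg CfsgLib.Golay

theorem exists_unique_fixed {y : Spor.M12} (hy : orderOf y = 11) :
    ∃ a ∈ Spor.squareDodecad, (y : Equiv.Perm GolayPt) a = a ∧
      ∀ b ∈ Spor.squareDodecad, (y : Equiv.Perm GolayPt) b = b → b = a := by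
  classical
  have : Fact (Nat.Prime 11) := ⟨by norm_num⟩
  have h2 := twoTransOn_dodStab squareDodecad_mem
  have hym : (y : Equiv.Perm GolayPt) ∈ dodStab Spor.squareDodecad := y.2
  have hyo : orderOf (y : Equiv.Perm GolayPt) = 11 := (Subgroup.orderOf_coe y).trans hy
  have h12 : Spor.squareDodecad.card = 12 := by decide +kernel
  set d := Spor.squareDodecad
  set Y := zpowers (y : Equiv.Perm GolayPt)
  have hYle : Y ≤ dodStab d := zpowers_le.2 hym
  let act : MulAction Y d :=
    { smul := fun g a => ⟨(g : Equiv.Perm GolayPt) a, h2.invariant g (hYle g.2) a a.2⟩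
      one_smul := fun a => Subtype.ext rfl
      mul_smul := fun g g' a => Subtype.ext rfl }
  have hY : IsPGroup 11 Y := IsPGroup.of_card (n := 1) (by rw [Nat.card_zpowers, hyo, pow_one])
  have hmod := @IsPGroup.card_modEq_card_fixedPoints 11 Y _ hY _ d act _
  set F := @MulAction.fixedPoints Y d _ act
  rw [Nat.card_eq_fintype_card (α := d), Fintype.card_coe, h12] at hmod
  have hle : Nat.card F ≤ 12 := by
    refine (Nat.card_le_card_of_injective _ Subtype.val_injective).trans ?_
    rw [Nat.card_eq_fintype_card, Fintype.card_coe, h12]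
  have hfix : ∀ b : d, b ∈ F ↔ (y : Equiv.Perm GolayPt) b = b := by
    intro b
    constructor
    · intro h
      exact congrArg Subtype.val (h ⟨(y : Equiv.Perm GolayPt), mem_zpowers _⟩)
    · rintro h ⟨g, hg⟩
      obtain ⟨k, rfl⟩ := mem_zpowers_iff.1 hg
      exact Subtype.ext (Equiv.Perm.zpow_apply_eq_self_of_apply_eq_self h k)
  have h1 : Nat.card F = 1 := by
    rw [Nat.ModEq] at hmod
    have : Nat.card F ≠ 12 := by
      intro e
      have htop : F = Set.univ := by
        refine Set.eq_univ_of_forall fun b => ?_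
        by_contra hb
        have hlt : Nat.card F < Nat.card d := by
          have := Fintype.ofFinite F
          rw [Nat.card_eq_fintype_card, Nat.card_eq_fintype_card]
          exact Fintype.card_lt_of_injective_of_notMem _ Subtype.val_injective (b := b)
            (by rintro ⟨c, rfl⟩; exact hb c.2)
        rw [e, Nat.card_eq_fintype_card, Fintype.card_coe, h12] at hlt
        exact lt_irrefl _ hlt
      have := h2.faithful _ hym fun a ha => (hfix ⟨a, ha⟩).1 (htop ▸ Set.mem_univ _)
      rw [this, orderOf_one] at hyo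
      norm_num at hyo
    omega
  obtain ⟨⟨⟨a, ha⟩, haF⟩, hu⟩ := (Nat.card_eq_one_iff_exists).1 h1
  refine ⟨a, ha, (hfix _).1 haF, fun b hb hfb => ?_⟩
  exact congrArg (fun c : F => (c.1 : GolayPt)) (hu ⟨⟨b, hb⟩, (hfix ⟨b, hb⟩).2 hfb⟩)

/-- An element of order `11` is self-centralising. -/
theorem card_centralizer_eleven_element {y : Spor.M12} (hy : orderOf y = 11) :
    Nat.card (centralizer ({y} : Set Spor.M12)) = 11 := by
  classical
  obtain ⟨a, ha, hfix, huniq⟩ := exists_unique_fixed hy
  refine le_antisymm ?_ ?_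
  · obtain ⟨e⟩ := sporM11_equiv_dodPtStab squareDodecad_mem ha
    have hK : Nat.card (dodPtStab Spor.squareDodecad a) = 7920 :=
      (Nat.card_congr e.symm.toEquiv).trans natCard_sporM11
    have : IsSimpleGroup (dodPtStab Spor.squareDodecad a) :=
      haveI := isSimpleGroup_sporM11; (e.symm).isSimpleGroup
    have hym : (y : Equiv.Perm GolayPt) ∈ dodPtStab Spor.squareDodecad a :=
      ⟨y.2, hfix⟩
    set y' : dodPtStab Spor.squareDodecad a := ⟨y, hym⟩
    have hy' : orderOf y' = 11 := by
      rw [← Subgroup.orderOf_coe]; exact (Subgroup.orderOf_coe y).trans hy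
    have hmem : ∀ c : centralizer ({y} : Set Spor.M12),
        ((c : Spor.M12) : Equiv.Perm GolayPt) ∈ dodPtStab Spor.squareDodecad a := by
      rintro ⟨c, hc⟩
      refine ⟨c.2, ?_⟩
      have hcomm := congrArg (fun σ : Spor.M12 => (σ : Equiv.Perm GolayPt) a)
        (mem_centralizer_singleton_iff.1 hc)
      simp only [Subgroup.coe_mul, Equiv.Perm.mul_apply, hfix] at hcomm
      exact huniq _ ((twoTransOn_dodStab squareDodecad_mem).invariant _ c.2 a ha) hcomm.symm
    let f : centralizer ({y} : Set Spor.M12) →
        centralizer ({y'} : Set (dodPtStab Spor.squareDodecad a)) := fun c =>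
      ⟨⟨((c : Spor.M12) : Equiv.Perm GolayPt), hmem c⟩, mem_centralizer_singleton_iff.2 (Subtype.ext
        (congrArg (fun σ : Spor.M12 => (σ : Equiv.Perm GolayPt))
          (mem_centralizer_singleton_iff.1 c.2)))⟩
    have hf : Function.Injective f := fun c c' h =>
      Subtype.ext (Subtype.ext (congrArg (fun x => ((x.1 : dodPtStab Spor.squareDodecad a) :
        Equiv.Perm GolayPt)) h))
    calc _ ≤ Nat.card (centralizer ({y'} : Set (dodPtStab Spor.squareDodecad a))) :=
          Nat.card_le_card_of_injective f hf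
      _ ≤ Nat.card (zpowers y') :=
          card_le_of_le (CfsgLib.Sporadic.M11.centralizer_le_zpowers hK hy')
      _ = 11 := by rw [Nat.card_zpowers, hy']
  · calc 11 = Nat.card (zpowers y) := by rw [Nat.card_zpowers, hy]
      _ ≤ _ := card_le_of_le (zpowers_le.2 (mem_centralizer_singleton_iff.2 rfl))

end CfsgLib.MathieuTwelve
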