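import Cfsg.Agent.Lib.MathieuTwelve.ReduceModel
import Cfsg.Agent.Lib.Recog.NSEMathieuEleven
import Cfsg.Agent.Lib.Order7920.Edge
import Cfsg.Prelude.Def_Sporadic

/-!
A group of order `95040` with the numbers of elements of each order of the Mathieu group of degree
twelve is simple: it has `1728` Sylow `11`-subgroups, each self-centralising.
-/

set_option autoImplicit false

namespace CfsgLib.MathieuTwelve

open Subgroup CfsgLib.Small

variable {G : Type*} [Group G] [Finite G]

theorem sylow_eleven_card (h : Nat.card G = 95040) [Fact (Nat.Prime 11)] (P : Sylow 11 G) :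
    Nat.card P = 11 := by
  simpa using card_sylow_of_card_eq (k := 1) (m := 8640) (by rw [h]; norm_num) (by norm_num) P

/-- The possible numbers of elements of a given order when the Sylow subgroups of order eleven are
self-centralising. -/
theorem count_cases (h : Nat.card G = 95040)
    (hC : ∀ y : G, orderOf y = 11 → Nat.card (centralizer ({y} : Set G)) = 11) {n : ℕ}
    (hpos : 0 < Nat.card {g : G // orderOf g = n}) :
    let v := Nat.card {g : G // orderOf g = n}
    v = 1 ∨ 11 ∣ v ∨ v = 17280 := by
  intro v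
  classical
  have : Fact (Nat.Prime 11) := ⟨by norm_num⟩
  rcases eq_or_ne n 1 with rfl | hn1
  · exact Or.inl (card_orderOf_eq_one (G := G))
  rcases eq_or_ne n 11 with rfl | hn11
  · right; right
    obtain ⟨P⟩ := (inferInstance : Nonempty (Sylow 11 G))
    obtain ⟨z, hz, hzo⟩ := CfsgLib.Sporadic.M11.exists_generator (sylow_eleven_card h) P
    have hcz : Nat.card (centralizer ((P : Subgroup G) : Set G)) = 11 := by
      rw [hz, CfsgLib.Sporadic.M11.centralizer_zpowers]; exact hC z hzo
    have hmul := card_centralizer_mul_relIndex (P : Subgroup G)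
    rw [hcz] at hmul
    have hd := relIndex_centralizer_normalizer_dvd_of_prime (sylow_eleven_card h P)
    have hN := card_normalizer_mul_card_sylow P
    rw [h, ← hmul] at hN
    have hmod := card_sylow_modEq_one 11 G
    rw [Nat.ModEq] at hmod
    show Nat.card {g : G // orderOf g = 11} = 17280
    rw [card_orderOf_eq_prime (sylow_eleven_card h)]
    have : ∀ e ∈ Nat.divisors 10, ∀ s : ℕ, 11 * e * s = 95040 → s % 11 = 1 →
        s * (11 - 1) = 17280 := by
      intro e he s hs hs1
      rw [show (10 : ℕ).divisors = {1, 2, 5, 10} by decide] at he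
      simp only [Finset.mem_insert, Finset.mem_singleton] at he
      rcases he with rfl | rfl | rfl | rfl <;> omega
    exact this _ (Nat.mem_divisors.2 ⟨hd, by norm_num⟩) _ (by rw [← hN]) (by omega)
  right; left
  refine CfsgLib.Recog.NSEEleven.dvd_card_orderOf fun x hx => ?_
  have hmul := (centralizer ({x} : Set G)).card_mul_index
  rw [h] at hmul
  have hdvd : 11 ∣ Nat.card (centralizer ({x} : Set G)) * (centralizer ({x} : Set G)).index :=
    hmul ▸ by norm_num
  refine ((Nat.Prime.dvd_mul (by norm_num)).1 hdvd).resolve_left fun hd => ?_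
  obtain ⟨⟨y, hy⟩, hyo⟩ := exists_prime_orderOf_dvd_card' 11 hd
  rw [Subgroup.orderOf_mk] at hyo
  have hxy : x ∈ centralizer ({y} : Set G) := mem_centralizer_singleton_iff.2
    (mem_centralizer_singleton_iff.1 hy).symm
  have := orderOf_dvd_natCard (⟨x, hxy⟩ : centralizer ({y} : Set G))
  rw [Subgroup.orderOf_mk, hx, hC y hyo] at this
  rcases (Nat.dvd_prime (by norm_num)).1 this with e | e <;> omega

/-- Normal subgroups of order prime to eleven have order dividing five. -/
theorem card_dvd_five_of_normal (h : Nat.card G = 95040) [Fact (Nat.Prime 11)]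
    (hN : ∀ P : Sylow 11 G, Nat.card (normalizer ((P : Subgroup G) : Set G)) = 55)
    (K : Subgroup G) [K.Normal] (hK : ¬ 11 ∣ Nat.card K) : Nat.card K ∣ 5 := by
  have hKd : Nat.card K ∣ 95040 := h ▸ card_subgroup_dvd_card K
  have hq : ∀ (q a : ℕ), q.Prime → q ≠ 5 → (∀ b, q ^ b ∣ Nat.card K → q ^ b % 11 = 1 → b = 0) →
      q ^ a ∣ Nat.card K → a = 0 := by
    intro q a hqp hq5 hfix ha
    have := Fact.mk hqp
    obtain ⟨T⟩ : Nonempty (Sylow q K) := inferInstance
    obtain ⟨i, hi⟩ := IsPGroup.iff_card.1 T.isPGroup'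
    set R := ((T : Subgroup K).map K.subtype : Subgroup G)
    have hR : Nat.card R = q ^ i := by
      rw [Subgroup.card_map_of_injective K.subtype_injective, hi]
    have hdvd : 11 ∣ K.index := by
      have h11 : 11 ∣ Nat.card K * K.index := by rw [K.card_mul_index, h]; norm_num
      exact ((Nat.Prime.dvd_mul (by norm_num)).1 h11).resolve_left hK
    obtain ⟨y, hy⟩ := exists_prime_orderOf_dvd_card' 11
      (hdvd.trans (CfsgLib.Order7920.index_dvd_card_normalizer K T))
    have hyo : orderOf (y : G) = 11 := (Subgroup.orderOf_coe y).trans hy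
    have hm := CfsgLib.Order7920.card_modEq_card_inf_centralizer (R := R)
      (IsPGroup.of_card (n := 1) (by rw [Nat.card_zpowers, hyo, pow_one] :
        Nat.card (zpowers (y : G)) = 11 ^ 1)) (zpowers_le.2 y.2)
    obtain ⟨P, hyP, -⟩ := exists_unique_sylow_mem hyo (sylow_eleven_card h)
    have hPz := eq_zpowers_of_mem (sylow_eleven_card h P) hyP (fun e => by
      rw [e, orderOf_one] at hyo; norm_num at hyo)
    have hCle : centralizer (zpowers (y : G) : Set G) ≤ normalizer ((P : Subgroup G) : Set G) := by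
      rw [← hPz]; exact centralizer_le_normalizer' _
    have h55 := hN P ▸ card_dvd_of_le ((inf_le_right : R ⊓ _ ≤ _).trans hCle)
    have hqd : Nat.card (R ⊓ centralizer (zpowers (y : G) : Set G) : Subgroup G) ∣ q ^ i :=
      hR ▸ card_dvd_of_le inf_le_left
    obtain ⟨j, -, hj⟩ := (Nat.dvd_prime_pow hqp).1 hqd
    have hj0 : j = 0 := by
      by_contra hj0
      have hq55 : q ∣ 55 := (dvd_pow_self q hj0).trans (hj ▸ h55)
      have hq11 : q ∣ 11 * 5 := hq55
      rcases hqp.dvd_mul.1 hq11 with e | e
      · refine hK ?_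
        rw [← (Nat.prime_dvd_prime_iff_eq hqp (by norm_num)).1 e]
        refine dvd_trans ?_ (card_subgroup_dvd_card (T : Subgroup K))
        have hji : j ≤ i := (Nat.pow_dvd_pow_iff_le_right hqp.one_lt).1 (hj ▸ hqd)
        exact hi ▸ dvd_pow_self q (by omega)
      · exact hq5 ((Nat.prime_dvd_prime_iff_eq hqp (by norm_num)).1 e)
    rw [hj, hR, hj0, pow_zero, Nat.ModEq] at hm
    have hi0 : i = 0 := hfix i (hi ▸ card_subgroup_dvd_card _) (by omega)
    by_contra ha0
    have hqT : q ∣ Nat.card (T : Subgroup K) :=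
      T.dvd_card_of_dvd_card ((dvd_pow_self q ha0).trans ha)
    rw [hi, hi0, pow_zero] at hqT
    exact hqp.one_lt.ne' (Nat.dvd_one.1 hqT)
  have hb2 : ∀ b, 2 ^ b ∣ Nat.card K → 2 ^ b % 11 = 1 → b = 0 := by
    intro b hb hm
    have : b ≤ 6 := by
      by_contra hc
      have hd : 2 ^ 7 ∣ 95040 :=
        ((Nat.pow_dvd_pow 2 (by omega : 7 ≤ b)).trans hb).trans (h ▸ card_subgroup_dvd_card K)
      norm_num at hd
    interval_cases b <;> first | rfl | (norm_num at hm)
  have hb3 : ∀ b, 3 ^ b ∣ Nat.card K → 3 ^ b % 11 = 1 → b = 0 := by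
    intro b hb hm
    have : b ≤ 3 := by
      by_contra hc
      have hd : 3 ^ 4 ∣ 95040 :=
        ((Nat.pow_dvd_pow 3 (by omega : 4 ≤ b)).trans hb).trans (h ▸ card_subgroup_dvd_card K)
      norm_num at hd
    interval_cases b <;> first | rfl | (norm_num at hm)
  have h2 : ¬ 2 ∣ Nat.card K := fun hd =>
    absurd (hq 2 1 Nat.prime_two (by norm_num) hb2 (by simpa using hd)) one_ne_zero
  have h3 : ¬ 3 ∣ Nat.card K := fun hd =>
    absurd (hq 3 1 Nat.prime_three (by norm_num) hb3 (by simpa using hd)) one_ne_zero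
  have hd : Nat.card K ∣ (11 * 2 ^ 6 * 3 ^ 3) * 5 := by
    norm_num; exact hKd
  refine Nat.Coprime.dvd_of_dvd_mul_left ?_ hd
  refine Nat.Coprime.mul_right (Nat.Coprime.mul_right ?_ ?_) ?_
  · exact ((Nat.Prime.coprime_iff_not_dvd (by norm_num)).2 hK).symm
  · exact (((Nat.Prime.coprime_iff_not_dvd Nat.prime_two).2 h2).symm).pow_right 6
  · exact (((Nat.Prime.coprime_iff_not_dvd Nat.prime_three).2 h3).symm).pow_right 3

/-- A group of order `95040` whose normalisers of Sylow `11`-subgroups have order `55` is simple. -/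
theorem isSimpleGroup_of_normalizer (h : Nat.card G = 95040) [Fact (Nat.Prime 11)]
    (hN : ∀ P : Sylow 11 G, Nat.card (normalizer ((P : Subgroup G) : Set G)) = 55) :
    IsSimpleGroup G := by
  classical
  obtain ⟨P⟩ := (inferInstance : Nonempty (Sylow 11 G))
  have hnd : ¬ normalizer ((P : Subgroup G) : Set G) ≤ centralizer ((P : Subgroup G) : Set G) := by
    intro hle
    set f := MonoidHom.transferSylow P hle
    have hcard : Nat.card f.ker * 11 = 95040 := by
      have e := (MonoidHom.ker_transferSylow_isComplement' P hle).card_mul_card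
      rw [h, show Nat.card (P : Subgroup G) = 11 from sylow_eleven_card h P] at e
      exact e
    have := card_dvd_five_of_normal h hN f.ker (by omega)
    have := Nat.le_of_dvd (by norm_num) this
    omega
  have hC : Nat.card (centralizer ((P : Subgroup G) : Set G)) = 11 := by
    have hd : Nat.card (centralizer ((P : Subgroup G) : Set G)) ∣ 55 :=
      hN P ▸ card_dvd_of_le (centralizer_le_normalizer' _)
    have h11 : Nat.card (centralizer ((P : Subgroup G) : Set G)) ≠ 55 := fun e =>
      hnd (eq_of_le_of_card_ge (centralizer_le_normalizer' _) (by rw [e, hN])).ge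
    have hge : 11 ≤ Nat.card (centralizer ((P : Subgroup G) : Set G)) := by
      obtain ⟨z, hz, hzo⟩ := CfsgLib.Sporadic.M11.exists_generator (sylow_eleven_card h) P
      rw [hz, CfsgLib.Sporadic.M11.centralizer_zpowers, ← hzo, ← Nat.card_zpowers]
      exact card_le_of_le (zpowers_le.2 (mem_centralizer_singleton_iff.2 rfl))
    have := Nat.mem_divisors.2 ⟨hd, by norm_num⟩
    rw [show (55 : ℕ).divisors = {1, 5, 11, 55} by decide] at this
    simp only [Finset.mem_insert, Finset.mem_singleton] at this
    omega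
  have hsmall : ∀ K : Subgroup G, K.Normal → ¬ 11 ∣ Nat.card K → K = ⊥ := by
    intro K hKn hK
    rcases (Nat.dvd_prime (by norm_num)).1 (card_dvd_five_of_normal h hN K hK) with e | e
    · exact Subgroup.card_eq_one.1 e
    · exfalso
      have hPK : (P : Subgroup G) ≤ normalizer (K : Set G) := by
        rw [normalizer_eq_top]; exact le_top
      have hm := CfsgLib.Order7920.card_modEq_card_inf_centralizer P.isPGroup' hPK
      set c := Nat.card (K ⊓ centralizer ((P : Subgroup G) : Set G) : Subgroup G) with hc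
      have hd1 : c ∣ 5 := e ▸ card_dvd_of_le inf_le_left
      have hd2 : c ∣ 11 := hC ▸ card_dvd_of_le inf_le_right
      have hc1 : c = 1 := Nat.eq_one_of_dvd_coprimes (by norm_num) hd1 hd2
      rw [e, hc1, Nat.ModEq] at hm
      norm_num at hm
  have : Nontrivial G := Finite.one_lt_card_iff_nontrivial.1 (by omega)
  constructor
  intro N hNn
  by_cases h11 : 11 ∣ Nat.card N
  swap
  · exact Or.inl (hsmall N hNn h11)
  right
  have hmem : ∀ Q : Sylow 11 G, (Q : Subgroup G) ≤ N := by
    intro Q
    obtain ⟨⟨y, hy⟩, hyo⟩ := exists_prime_orderOf_dvd_card' 11 h11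
    rw [Subgroup.orderOf_mk] at hyo
    obtain ⟨R, hyR, -⟩ := exists_unique_sylow_mem hyo (sylow_eleven_card h)
    have hR : (R : Subgroup G) ≤ N := by
      rw [eq_zpowers_of_mem (sylow_eleven_card h R) hyR (fun e => by
        rw [e, orderOf_one] at hyo; norm_num at hyo)]
      exact zpowers_le.2 hy
    obtain ⟨g, rfl⟩ := MulAction.exists_smul_eq G R Q
    rw [Sylow.coe_subgroup_smul]
    rintro _ ⟨x, hx, rfl⟩
    exact hNn.conj_mem x (hR hx) g
  set PN : Sylow 11 N := P.subtype (hmem P)
  have hsup : normalizer (((PN : Subgroup N).map N.subtype : Subgroup G) : Set G) ⊔ N = ⊤ :=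
    Sylow.normalizer_sup_eq_top PN
  have hmap : ((PN : Subgroup N).map N.subtype : Subgroup G) = P := by
    show (((P : Subgroup G).subgroupOf N).map N.subtype) = (P : Subgroup G)
    rw [Subgroup.subgroupOf, map_comap_eq, Subgroup.range_subtype]
    exact inf_eq_right.2 (hmem P)
  rw [hmap] at hsup
  by_cases h55 : 55 ∣ Nat.card (N ⊓ normalizer ((P : Subgroup G) : Set G) : Subgroup G)
  · have heq : N ⊓ normalizer ((P : Subgroup G) : Set G) = normalizer ((P : Subgroup G) : Set G) :=
      eq_of_le_of_card_ge inf_le_right (by rw [hN]; exact Nat.le_of_dvd Nat.card_pos h55)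
    rw [sup_eq_right.2 (inf_eq_right.1 heq)] at hsup
    exact hsup
  exfalso
  have hNP : normalizer ((PN : Subgroup N) : Set N) ≤ centralizer ((PN : Subgroup N) : Set N) := by
    intro n hn
    have hn' : (n : G) ∈ normalizer ((P : Subgroup G) : Set G) := by
      rw [← hmap]
      exact Subgroup.le_normalizer_map N.subtype ⟨n, hn, rfl⟩
    have hI : Nat.card (N ⊓ normalizer ((P : Subgroup G) : Set G) : Subgroup G) = 11 := by
      have hd : Nat.card (N ⊓ normalizer ((P : Subgroup G) : Set G) : Subgroup G) ∣ 55 :=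
        hN P ▸ card_dvd_of_le inf_le_right
      have hge : 11 ∣ Nat.card (N ⊓ normalizer ((P : Subgroup G) : Set G) : Subgroup G) :=
        (show Nat.card (P : Subgroup G) = 11 from sylow_eleven_card h P).symm.dvd.trans
          (card_dvd_of_le (le_inf (hmem P) le_normalizer))
      have := Nat.mem_divisors.2 ⟨hd, by norm_num⟩
      rw [show (55 : ℕ).divisors = {1, 5, 11, 55} by decide] at this
      simp only [Finset.mem_insert, Finset.mem_singleton] at this
      omega
    have heq : (P : Subgroup G) = N ⊓ normalizer ((P : Subgroup G) : Set G) :=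
      eq_of_le_of_card_ge (le_inf (hmem P) le_normalizer)
        (by rw [hI, show Nat.card (P : Subgroup G) = 11 from sylow_eleven_card h P])
    have hnP : (n : G) ∈ (P : Subgroup G) := by
      rw [heq]; exact ⟨n.2, hn'⟩
    have hnPN : n ∈ (PN : Subgroup N) := by
      show n ∈ (P : Subgroup G).subgroupOf N
      exact hnP
    have : IsCyclic (PN : Subgroup N) := isCyclic_of_prime_card (p := 11) (by
      rw [← Subgroup.card_map_of_injective N.subtype_injective, hmap]
      exact sylow_eleven_card h P)
    let _ := IsCyclic.commGroup (α := (PN : Subgroup N))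
    rw [Subgroup.mem_centralizer_iff]
    intro z hz
    exact congrArg Subtype.val (mul_comm (⟨z, hz⟩ : (PN : Subgroup N)) ⟨n, hnPN⟩)
  set K := (MonoidHom.transferSylow PN hNP).ker
  have hKc := (MonoidHom.ker_transferSylow_isComplement' PN hNP).card_mul_card
  have hPN : Nat.card (PN : Subgroup N) = 11 := by
    rw [← Subgroup.card_map_of_injective N.subtype_injective, hmap]
    exact sylow_eleven_card h P
  rw [hPN] at hKc
  have hnK : ¬ 11 ∣ Nat.card K := MonoidHom.not_dvd_card_ker_transferSylow PN hNP
  have hKeq : ∀ x : N, x ∈ K ↔ x ^ Nat.card K = 1 := by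
    intro x
    refine ⟨fun hx => congrArg Subtype.val
      (pow_card_eq_one' (x := (⟨x, hx⟩ : K))), fun hx => ?_⟩
    rw [MonoidHom.mem_ker]
    have h1 : (MonoidHom.transferSylow PN hNP x) ^ Nat.card K = 1 := by
      rw [← map_pow, hx, map_one]
    have h2 : (MonoidHom.transferSylow PN hNP x) ^ 11 = 1 := orderOf_dvd_iff_pow_eq_one.1
      ((orderOf_dvd_natCard (MonoidHom.transferSylow PN hNP x)).trans (dvd_of_eq hPN))
    have := pow_gcd_eq_one.2 ⟨h1, h2⟩
    rwa [Nat.Coprime.gcd_eq_one (Nat.Coprime.symm ((Nat.Prime.coprime_iff_not_dvd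
      (by norm_num)).2 hnK)), pow_one] at this
  have hKn : (K.map N.subtype).Normal := by
    constructor
    rintro _ ⟨x, hx, rfl⟩ g
    refine ⟨⟨g * x * g⁻¹, hNn.conj_mem x x.2 g⟩, (hKeq _).2 (Subtype.ext ?_), rfl⟩
    have hx' := congrArg Subtype.val ((hKeq x).1 hx)
    rw [SubmonoidClass.coe_pow] at hx' ⊢
    rw [conj_pow, hx']
    simp
  have hK1 : Nat.card (K.map N.subtype) = Nat.card K :=
    Subgroup.card_map_of_injective N.subtype_injective
  have hbot := hsmall _ hKn (by rw [hK1]; exact hnK)
  rw [hbot, Subgroup.card_bot] at hK1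
  rw [← hK1, one_mul] at hKc
  -- `N` would be a Sylow subgroup, normal in `G`
  have hNP' : N = (P : Subgroup G) :=
    (eq_of_le_of_card_ge (hmem P) (by
      rw [show Nat.card (P : Subgroup G) = 11 from sylow_eleven_card h P, ← hKc])).symm
  have := hN P
  rw [← hNP', normalizer_eq_top, Subgroup.card_top, h] at this
  norm_num at this

/-- A group of order `95040` with the numbers of elements of each order of the Mathieu group of
degree twelve is simple. -/
theorem isSimpleGroup_of_nse (h : Nat.card G = 95040) {M : Type*} [Group M] [Finite M]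
    (hM : Nat.card M = 95040)
    (hC : ∀ y : M, orderOf y = 11 → Nat.card (centralizer ({y} : Set M)) = 11)
    (hnse : {c : ℕ | 0 < c ∧ ∃ n : ℕ, c = Nat.card {g : G // orderOf g = n}} =
      {c : ℕ | 0 < c ∧ ∃ n : ℕ, c = Nat.card {g : M // orderOf g = n}}) :
    IsSimpleGroup G := by
  have : Fact (Nat.Prime 11) := ⟨by norm_num⟩
  refine isSimpleGroup_of_normalizer h fun P => ?_
  have hv := card_orderOf_eq_prime (sylow_eleven_card h)
  have hpos : 0 < Nat.card {g : G // orderOf g = 11} := hv ▸ Nat.mul_pos Nat.card_pos (by norm_num)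
  obtain ⟨-, k, hk⟩ := (hnse ▸ (⟨hpos, 11, rfl⟩ : Nat.card {g : G // orderOf g = 11} ∈
    {c : ℕ | 0 < c ∧ ∃ n : ℕ, c = Nat.card {g : G // orderOf g = n}}) :
      Nat.card {g : G // orderOf g = 11} ∈
        {c : ℕ | 0 < c ∧ ∃ n : ℕ, c = Nat.card {g : M // orderOf g = n}})
  have hc := count_cases hM hC (hk ▸ hpos)
  simp only [← hk, hv] at hc
  have hmod := card_sylow_modEq_one 11 G
  rw [Nat.ModEq] at hmod
  have hN := card_normalizer_mul_card_sylow P
  rw [h] at hN
  have hs : Nat.card (Sylow 11 G) = 1728 := by omega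
  rw [hs] at hN
  omega

/-- Given uniqueness by order, a group with the order and the numbers of elements of each order of
the Mathieu group of degree twelve is isomorphic to it. -/
theorem nonempty_equiv_of_nse
    (hU : ∀ [IsSimpleGroup G], Nat.card G = 95040 → Nonempty (G ≃* Cfsg.Spor.M12))
    (hcard : Nat.card G = Nat.card ↥Cfsg.Spor.M12)
    (hnse : {c : ℕ | 0 < c ∧ ∃ n : ℕ, c = Nat.card {g : G // orderOf g = n}} =
      {c : ℕ | 0 < c ∧ ∃ n : ℕ, c = Nat.card {g : ↥Cfsg.Spor.M12 // orderOf g = n}}) :
    Nonempty (G ≃* ↥Cfsg.Spor.M12) := by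
  have hM := CfsgLib.Golay.natCard_sporM12
  have hG := hcard.trans hM
  haveI := isSimpleGroup_of_nse hG hM (fun _ hy => card_centralizer_eleven_element hy) hnse
  exact hU hG

end CfsgLib.MathieuTwelve
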