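import Cfsg.Agent.Lib.MathieuTwelve.Search
import Mathlib.Algebra.BigOperators.Group.List.Lemmas
import Mathlib.Data.List.Nodup
import Mathlib.Algebra.Order.BigOperators.Group.List
import Mathlib.Tactic.Ring

/-!
Finite search over the characters outside the principal 11-block.
-/
set_option autoImplicit false
set_option maxRecDepth 16000

namespace CfsgLib.MathieuTwelve

/-- A character of degree `11 n` with values `q`, `r`, `v` at an element of order five, at its product
with an involution, and at the involution. -/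
structure Item where
  n : ℤ
  q : ℤ
  r : ℤ
  v : ℤ
deriving DecidableEq

/-- Eleven totals. -/
structure Tot where
  nn : ℤ
  qq : ℤ
  rr : ℤ
  vv : ℤ
  nq : ℤ
  nr : ℤ
  nv : ℤ
  qr : ℤ
  qv : ℤ
  rv : ℤ
  cube : ℤ

/-- The totals of a list of items. -/
def totals (L : List Item) : Tot where
  nn := (L.map fun i => i.n * i.n).sum
  qq := (L.map fun i => i.q * i.q).sum
  rr := (L.map fun i => i.r * i.r).sum
  vv := (L.map fun i => i.v * i.v).sum
  nq := (L.map fun i => i.n * i.q).sum
  nr := (L.map fun i => i.n * i.r).sum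
  nv := (L.map fun i => i.n * i.v).sum
  qr := (L.map fun i => i.q * i.r).sum
  qv := (L.map fun i => i.q * i.v).sum
  rv := (L.map fun i => i.r * i.v).sum
  cube := (L.map fun i => i.v * i.v * i.v * (95040 / (11 * i.n))).sum

/-- Remove `m` copies of an item. -/
def Tot.less (t : Tot) (i : Item) (m : ℤ) : Tot where
  nn := t.nn - m * (i.n * i.n)
  qq := t.qq - m * (i.q * i.q)
  rr := t.rr - m * (i.r * i.r)
  vv := t.vv - m * (i.v * i.v)
  nq := t.nq - m * (i.n * i.q)
  nr := t.nr - m * (i.n * i.r)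
  nv := t.nv - m * (i.n * i.v)
  qr := t.qr - m * (i.q * i.r)
  qv := t.qv - m * (i.q * i.v)
  rv := t.rv - m * (i.r * i.v)
  cube := t.cube - m * (i.v * i.v * i.v * (95040 / (11 * i.n)))

/-- No budget is negative. -/
def Tot.budget (t : Tot) : Bool :=
  decide (0 ≤ t.nn) && decide (0 ≤ t.qq) && decide (0 ≤ t.rr) && decide (0 ≤ t.vv) &&
    decide (t.nq * t.nq ≤ t.nn * t.qq) && decide (t.nr * t.nr ≤ t.nn * t.rr) &&
    decide (t.nv * t.nv ≤ t.nn * t.vv) && decide (t.qr * t.qr ≤ t.qq * t.rr) &&
    decide (t.qv * t.qv ≤ t.qq * t.vv) && decide (t.rv * t.rv ≤ t.rr * t.vv)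

/-- All totals but the last vanish. -/
def Tot.done (t : Tot) : Bool :=
  t.nn == 0 && t.qq == 0 && t.rr == 0 && t.vv == 0 && t.nq == 0 && t.nr == 0 && t.nv == 0 &&
    t.qr == 0 && t.qv == 0 && t.rv == 0

/-- Search for lists of items with given totals. The last total is free: it starts at zero and ends at
minus its value. -/
def go (good : ℤ → Bool) : List Item → Tot → Bool
  | [], t => !t.done || good (-t.cube)
  | i :: is, t => (List.range ((t.nn / (i.n * i.n)).toNat + 1)).all fun m =>
      !(t.less i m).budget || go good is (t.less i m)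

theorem sum_filter_split (L : List Item) (i : Item) (f : Item → ℤ) :
    (L.map f).sum = (L.count i : ℤ) * f i + ((L.filter fun j => j != i).map f).sum := by
  induction L with
  | nil => simp
  | cons a L ih =>
    by_cases h : a = i
    · subst h
      simp [List.count_cons, ih]
      ring
    · simp [List.count_cons, ih, h]
      ring

theorem sum_sq_nonneg (L : List Item) (f : Item → ℤ) : 0 ≤ (L.map fun i => f i * f i).sum :=
  List.sum_nonneg fun x hx => by
    obtain ⟨i, -, rfl⟩ := List.mem_map.1 hx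
    exact mul_self_nonneg _

theorem quad_form_nonneg (L : List Item) (f g : Item → ℤ) (x y : ℤ) :
    0 ≤ (L.map fun i => f i * f i).sum * (x * x) + 2 * (L.map fun i => f i * g i).sum * (x * y) +
      (L.map fun i => g i * g i).sum * (y * y) := by
  induction L with
  | nil => simp
  | cons a L ih =>
    simp only [List.map_cons, List.sum_cons]
    nlinarith [mul_self_nonneg (f a * x + g a * y)]

theorem cauchy (L : List Item) (f g : Item → ℤ) :
    (L.map fun i => f i * g i).sum * (L.map fun i => f i * g i).sum ≤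
      (L.map fun i => f i * f i).sum * (L.map fun i => g i * g i).sum := by
  have h := quad_form_nonneg L f g
  have hA := sum_sq_nonneg L f
  generalize (L.map fun i => f i * f i).sum = A at h hA ⊢
  generalize (L.map fun i => g i * g i).sum = B at h ⊢
  generalize (L.map fun i => f i * g i).sum = S at h ⊢
  rcases eq_or_lt_of_le hA with hA | hA
  · subst hA
    by_contra hc
    have hS : S ≠ 0 := fun e => by subst e; simp at hc
    have h' := h (-(B + 1) * S) 1
    have : 0 < S * S := mul_self_pos.2 hS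
    have hB := h 0 1
    nlinarith
  · have h' := h (-S) A
    nlinarith

/-- The remaining totals after a list is removed. -/
theorem go_sound {good : ℤ → Bool} : ∀ (items : List Item) (t : Tot), go good items t = true →
    (∀ i ∈ items, i.n ≠ 0) → ∀ L : List Item, (∀ x ∈ L, x ∈ items) →
    (totals L).nn = t.nn → (totals L).qq = t.qq → (totals L).rr = t.rr → (totals L).vv = t.vv →
    (totals L).nq = t.nq → (totals L).nr = t.nr → (totals L).nv = t.nv → (totals L).qr = t.qr →
    (totals L).qv = t.qv → (totals L).rv = t.rv → good ((totals L).cube - t.cube) = true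
  | [], t, h, _, L, hL => by
    obtain rfl : L = [] := List.eq_nil_iff_forall_not_mem.2 fun x hx => List.not_mem_nil (hL x hx)
    intro h1 h2 h3 h4 h5 h6 h7 h8 h9 h10
    simp only [totals, List.map_nil, List.sum_nil] at h1 h2 h3 h4 h5 h6 h7 h8 h9 h10 ⊢
    simp [go, Tot.done, ← h1, ← h2, ← h3, ← h4, ← h5, ← h6, ← h7, ← h8, ← h9, ← h10] at h
    simpa using h
  | i :: is, t, h, hn, L, hL => by
    intro h1 h2 h3 h4 h5 h6 h7 h8 h9 h10
    set L' := L.filter fun j => j != i with hL'
    have hs : ∀ f : Item → ℤ, (L.map f).sum = (L.count i : ℤ) * f i + (L'.map f).sum :=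
      sum_filter_split L i
    simp only [totals] at h1 h2 h3 h4 h5 h6 h7 h8 h9 h10
    rw [hs] at h1 h2 h3 h4 h5 h6 h7 h8 h9 h10
    have hm : L.count i ∈ List.range ((t.nn / (i.n * i.n)).toNat + 1) := by
      rw [List.mem_range]
      have hpos : 0 < i.n * i.n := mul_self_pos.2 (hn i List.mem_cons_self)
      have : (L.count i : ℤ) ≤ t.nn / (i.n * i.n) := by
        rw [Int.le_ediv_iff_mul_le hpos]
        have := sum_sq_nonneg L' (fun j => j.n)
        linarith
      omega
    rw [go, List.all_eq_true] at h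
    have h' := h _ hm
    have hb : (t.less i (L.count i)).budget = true := by
      simp only [Tot.budget, Bool.and_eq_true]
      refine ⟨⟨⟨⟨⟨⟨⟨⟨⟨?_, ?_⟩, ?_⟩, ?_⟩, ?_⟩, ?_⟩, ?_⟩, ?_⟩, ?_⟩, ?_⟩
      · refine decide_eq_true ?_
        simp only [Tot.less]
        rw [show t.nn - (L.count i : ℤ) * (i.n * i.n) = (L'.map fun j => j.n * j.n).sum by linarith]
        exact sum_sq_nonneg L' _
      · refine decide_eq_true ?_
        simp only [Tot.less]
        rw [show t.qq - (L.count i : ℤ) * (i.q * i.q) = (L'.map fun j => j.q * j.q).sum by linarith]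
        exact sum_sq_nonneg L' _
      · refine decide_eq_true ?_
        simp only [Tot.less]
        rw [show t.rr - (L.count i : ℤ) * (i.r * i.r) = (L'.map fun j => j.r * j.r).sum by linarith]
        exact sum_sq_nonneg L' _
      · refine decide_eq_true ?_
        simp only [Tot.less]
        rw [show t.vv - (L.count i : ℤ) * (i.v * i.v) = (L'.map fun j => j.v * j.v).sum by linarith]
        exact sum_sq_nonneg L' _
      · refine decide_eq_true ?_
        simp only [Tot.less]
        rw [show t.nq - (L.count i : ℤ) * (i.n * i.q) = (L'.map fun j => j.n * j.q).sum by linarith, show t.nn - (L.count i : ℤ) * (i.n * i.n) = (L'.map fun j => j.n * j.n).sum by linarith, show t.qq - (L.count i : ℤ) * (i.q * i.q) = (L'.map fun j => j.q * j.q).sum by linarith]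
        exact cauchy L' _ _
      · refine decide_eq_true ?_
        simp only [Tot.less]
        rw [show t.nr - (L.count i : ℤ) * (i.n * i.r) = (L'.map fun j => j.n * j.r).sum by linarith, show t.nn - (L.count i : ℤ) * (i.n * i.n) = (L'.map fun j => j.n * j.n).sum by linarith, show t.rr - (L.count i : ℤ) * (i.r * i.r) = (L'.map fun j => j.r * j.r).sum by linarith]
        exact cauchy L' _ _
      · refine decide_eq_true ?_
        simp only [Tot.less]
        rw [show t.nv - (L.count i : ℤ) * (i.n * i.v) = (L'.map fun j => j.n * j.v).sum by linarith, show t.nn - (L.count i : ℤ) * (i.n * i.n) = (L'.map fun j => j.n * j.n).sum by linarith, show t.vv - (L.count i : ℤ) * (i.v * i.v) = (L'.map fun j => j.v * j.v).sum by linarith]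
        exact cauchy L' _ _
      · refine decide_eq_true ?_
        simp only [Tot.less]
        rw [show t.qr - (L.count i : ℤ) * (i.q * i.r) = (L'.map fun j => j.q * j.r).sum by linarith, show t.qq - (L.count i : ℤ) * (i.q * i.q) = (L'.map fun j => j.q * j.q).sum by linarith, show t.rr - (L.count i : ℤ) * (i.r * i.r) = (L'.map fun j => j.r * j.r).sum by linarith]
        exact cauchy L' _ _
      · refine decide_eq_true ?_
        simp only [Tot.less]
        rw [show t.qv - (L.count i : ℤ) * (i.q * i.v) = (L'.map fun j => j.q * j.v).sum by linarith, show t.qq - (L.count i : ℤ) * (i.q * i.q) = (L'.map fun j => j.q * j.q).sum by linarith, show t.vv - (L.count i : ℤ) * (i.v * i.v) = (L'.map fun j => j.v * j.v).sum by linarith]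
        exact cauchy L' _ _
      · refine decide_eq_true ?_
        simp only [Tot.less]
        rw [show t.rv - (L.count i : ℤ) * (i.r * i.v) = (L'.map fun j => j.r * j.v).sum by linarith, show t.rr - (L.count i : ℤ) * (i.r * i.r) = (L'.map fun j => j.r * j.r).sum by linarith, show t.vv - (L.count i : ℤ) * (i.v * i.v) = (L'.map fun j => j.v * j.v).sum by linarith]
        exact cauchy L' _ _
    rw [hb, Bool.not_true, Bool.false_or] at h'
    have key := go_sound is _ h' (fun j hj => hn j (List.mem_cons_of_mem i hj)) L' (fun x hx => by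
      obtain ⟨hxL, hxi⟩ := List.mem_filter.1 hx
      exact (List.mem_cons.1 (hL x hxL)).resolve_left (by simpa using hxi))
      (by simp only [totals, Tot.less]; linarith) (by simp only [totals, Tot.less]; linarith)
      (by simp only [totals, Tot.less]; linarith) (by simp only [totals, Tot.less]; linarith)
      (by simp only [totals, Tot.less]; linarith) (by simp only [totals, Tot.less]; linarith)
      (by simp only [totals, Tot.less]; linarith) (by simp only [totals, Tot.less]; linarith)
      (by simp only [totals, Tot.less]; linarith) (by simp only [totals, Tot.less]; linarith)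
    simp only [totals, Tot.less] at key ⊢
    rw [hs]
    convert key using 2
    ring

theorem sq_bound {x : ℤ} {b : ℕ} {B : ℤ} (h : x * x ≤ B) (hB : B < ((b : ℤ) + 1) * ((b : ℤ) + 1)) :
    -(b : ℤ) ≤ x ∧ x ≤ b := by
  constructor <;> by_contra hc <;> nlinarith

/-- The conditions on an item, for a centraliser of order `C`. -/
def Item.ok (C : ℤ) (i : Item) : Bool :=
  (8640 % i.n == 0) && decide (1 ≤ i.n) && decide (i.n * i.n ≤ 450) && decide (i.q * i.q ≤ 5) &&
    decide (i.r * i.r ≤ 5) && decide (i.v * i.v ≤ C - 110) && decide (|i.v| < 11 * i.n) &&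
    (i.q - 11 * i.n) % 5 == 0 && ((11 * i.n) % 5 != 0 || (i.q == 0 && i.r == 0)) &&
    (i.r - i.q) % 2 == 0 && (i.v - i.r) % 5 == 0 && (i.v - 11 * i.n) % 4 == 0 &&
    classInt C (11 * i.n) i.v

/-- All items. -/
def items (C : ℤ) : List Item :=
  (ival 21).flatMap fun n => (ival 2).flatMap fun q => (ival 2).flatMap fun r =>
    (ival 11).filterMap fun v => if Item.ok C ⟨n, q, r, v⟩ then some ⟨n, q, r, v⟩ else none

theorem mem_items {C : ℤ} (hC : C ≤ 240) {i : Item} (h : i.ok C = true) : i ∈ items C := by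
  obtain ⟨n, q, r, v⟩ := i
  have h0 := h
  simp only [Item.ok, Bool.and_eq_true, decide_eq_true_eq, beq_iff_eq] at h0
  obtain ⟨⟨⟨⟨⟨⟨⟨⟨⟨⟨⟨⟨-, hn1⟩, hn⟩, hq⟩, hr⟩, hv⟩, -⟩, -⟩, -⟩, -⟩, -⟩, -⟩, -⟩ := h0
  simp only [items, List.mem_flatMap, List.mem_filterMap]
  obtain ⟨hn2, hn3⟩ := sq_bound (b := 21) hn (by norm_num)
  obtain ⟨hq2, hq3⟩ := sq_bound (b := 2) hq (by norm_num)
  obtain ⟨hr2, hr3⟩ := sq_bound (b := 2) hr (by norm_num)
  obtain ⟨hv2, hv3⟩ := sq_bound (b := 11) hv (by push_cast; linarith)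
  refine ⟨n, mem_ival hn2 hn3, q, mem_ival hq2 hq3, r, mem_ival hr2 hr3,
    v, mem_ival hv2 hv3, ?_⟩
  rw [if_pos h]

theorem items_n (C : ℤ) : ∀ i ∈ items C, i.n ≠ 0 := by
  intro i hi
  simp only [items, List.mem_flatMap, List.mem_filterMap, Option.ite_none_right_eq_some,
    Option.some.injEq] at hi
  obtain ⟨n, -, q, -, r, -, v, -, hok, rfl⟩ := hi
  simp only [Item.ok, Bool.and_eq_true, decide_eq_true_eq] at hok
  show n ≠ 0
  omega

/-- The totals required when the values at the involution are `w` on the exceptional characters. -/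
def target (C w : ℤ) : Tot :=
  if w = 4 then ⟨450, 5, 5, C - 110, 15, 11, -114, 1, 1, 5, 0⟩
  else ⟨450, 5, 5, C - 110, 15, -21, 14, -1, 9, 5, 0⟩

/-- The items for `C = 120`, heaviest first. -/
def itemList120 : List Item := [⟨18, -2, -2, -2⟩,
  ⟨18, -2, 2, 2⟩,
  ⟨3, -2, 2, -3⟩,
  ⟨2, 2, -2, -2⟩,
  ⟨2, 2, 2, 2⟩,
  ⟨12, 2, 0, 0⟩,
  ⟨8, -2, 0, 0⟩,
  ⟨20, 0, 0, 0⟩,
  ⟨9, -1, -1, -1⟩,
  ⟨1, 1, -1, -1⟩]

/-- The items for `C = 240`, heaviest first. -/
def itemList240 : List Item := [⟨12, 2, -2, 8⟩,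
  ⟨12, 2, 2, -8⟩,
  ⟨18, -2, -2, -2⟩,
  ⟨18, -2, 2, 2⟩,
  ⟨18, -2, 0, -10⟩,
  ⟨18, -2, 0, 10⟩,
  ⟨8, -2, -2, 8⟩,
  ⟨8, -2, 2, -8⟩,
  ⟨3, -2, -2, -7⟩,
  ⟨3, -2, 2, -3⟩,
  ⟨2, 2, -2, -2⟩,
  ⟨2, 2, 2, 2⟩,
  ⟨2, 2, 0, -10⟩,
  ⟨2, 2, 0, 10⟩,
  ⟨9, -1, 1, 11⟩,
  ⟨9, -1, 1, -9⟩,
  ⟨12, 2, 0, 0⟩,
  ⟨16, 1, -1, 4⟩,
  ⟨16, 1, 1, -4⟩,
  ⟨1, 1, 1, -9⟩,
  ⟨3, -2, 0, 5⟩,
  ⟨10, 0, 0, -10⟩,
  ⟨10, 0, 0, 10⟩,
  ⟨8, -2, 0, 0⟩,
  ⟨20, 0, 0, 0⟩,
  ⟨6, 1, -1, -6⟩,
  ⟨6, 1, 1, 6⟩,
  ⟨15, 0, 0, 5⟩,
  ⟨9, -1, -1, -1⟩,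
  ⟨4, -1, -1, 4⟩,
  ⟨4, -1, 1, -4⟩,
  ⟨1, 1, -1, -1⟩,
  ⟨5, 0, 0, -5⟩]


theorem items_small : ∀ i ∈ items 120, i ∈ itemList120 := by decide +kernel

theorem items_big : ∀ i ∈ items 240, i ∈ itemList240 := by decide +kernel

theorem rest_plus_small : go (fun _ => false) itemList120 (target 120 4) = true := by decide +kernel

theorem rest_minus_small : go (fun _ => false) itemList120 (target 120 (-4)) = true := by decide +kernel

theorem rest_plus : go (fun e => e == -389760) itemList240 (target 240 4) = true := by decide +kernel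

theorem rest_minus :
    go (fun e => decide (1541760 - 2 * (42240 + 760320) + e < 0)) itemList240 (target 240 (-4)) = true := by
  decide +kernel

end CfsgLib.MathieuTwelve
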