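import Cfsg.Agent.Lib.MathieuTwelve.Five
import Cfsg.Agent.Lib.MathieuTwelve.SearchRest

/-!
# The centraliser of an involution in a simple group of order 95040
-/

set_option autoImplicit false
set_option linter.style.haveILetI false
set_option linter.unusedSectionVars false
open Cfsg CfsgLib.Characters CfsgLib.CharCorr CfsgLib.ClassCount
open scoped ComplexConjugate

namespace CfsgLib.MathieuTwelve

universe u

variable {G : Type u} [Group G] [Fintype G] [IsSimpleGroup G]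

theorem not_conj_of_orderOf_ne {g h : G} (hne : orderOf g ≠ orderOf h) : ¬ IsConj g h := by
  intro hc
  obtain ⟨c, rfl⟩ := isConj_iff.1 hc
  exact hne (SemiconjBy.orderOf_eq c (show SemiconjBy c g (c * g * c⁻¹) by simp [SemiconjBy]))

/-- Integer form of the splitting. -/
theorem Principal.split_int (B : Principal G) (F : IrrCharacter G → ℤ) :
    ∑ η, F η = F (principalIrr G) + (F (B.χ 0) + F (B.χ 1) + F (B.χ 2) + F (B.χ 3)) +
      (F B.f0 + F B.f1) + ∑ η ∈ B.Z, F η := by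
  have h := B.split fun η => (F η : ℂ)
  rw [Fin.sum_univ_four] at h
  exact_mod_cast h

open scoped Classical in
/-- The centraliser data. -/
theorem Principal.exists_centralizer_data (B : Principal G) (hG : Nat.card G = 95040)
    [Fact (Nat.Prime 11)] (D : FiveData B) :
    ∃ z q : G, orderOf z = 2 ∧ orderOf q = 5 ∧ Commute z q ∧
      Nat.card (Subgroup.centralizer ({z} : Set G)) = 240 ∧
      Nat.card (Subgroup.centralizer ({q} : Set G)) = 10 ∧
      Nat.card (Subgroup.normalizer ((Subgroup.zpowers q : Subgroup G) : Set G)) = 40 ∧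
      Nat.card {x : G // IsConj z x ∧ IsConj z (x * z)} = 20 := by
  set C := Nat.card (Subgroup.centralizer ({D.z} : Set G)) with hC
  obtain ⟨hd, hdX⟩ : ((charDegree (B.χ 0 : G → ℂ) : ℤ) = 45 ∧ (charDegree (B.χ 1 : G → ℂ) : ℤ) = 54 ∧
      (charDegree (B.χ 2 : G → ℂ) : ℤ) = 120 ∧ (charDegree (B.χ 3 : G → ℂ) : ℤ) = 144) ∧
      (charDegree (B.f0 : G → ℂ) : ℤ) = 16 ∧ (charDegree (B.f1 : G → ℂ) : ℤ) = 16 := by
    simp only [B.deg, B.degX.1, B.degX.2, D.row, Row.ds]
    refine ⟨⟨?_, ?_, ?_, ?_⟩, ?_, ?_⟩ <;> trivial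
  obtain ⟨hd0, hd1, hd2, hd3⟩ := hd
  obtain ⟨hx0, hx1⟩ := hdX
  have ho5 : ¬ 11 ∣ orderOf D.q := by rw [D.hq]; norm_num
  have ho2 : ¬ 11 ∣ orderOf D.z := by rw [D.hz]; norm_num
  have hoqz : orderOf (D.q * D.z) = 10 := by
    rw [D.comm.symm.orderOf_mul_eq_mul_orderOf_of_coprime (by rw [D.hq, D.hz]; norm_num), D.hq, D.hz]
  have ho10 : ¬ 11 ∣ orderOf (D.q * D.z) := by rw [hoqz]; norm_num
  have hone : ∀ η : IrrCharacter G, (η : G → ℂ) 1 = ((charDegree (η : G → ℂ) : ℤ) : ℂ) := fun η => by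
    rw [irr_one_eq_charDegree, Int.cast_natCast]
  -- values in the block
  have hu1 := val_principal D.hu
  have hv1 := val_principal D.hv
  have hs1 := val_principal D.hs
  have hp1 : charDegree ((principalIrr G : IrrCharacter G) : G → ℂ) = 1 := by simp [principalIrr, charDegree]
  obtain ⟨hueq, hulast⟩ := B.lin_eq ho5 D.hu
  have hveq := (B.lin_eq ho2 D.hv).1
  have hseq := (B.lin_eq ho10 D.hs).1
  obtain ⟨u0, u1, u2, u3⟩ := D.uval
  obtain ⟨v0, v1, v2⟩ := D.vval
  obtain ⟨s0, s1, s2⟩ := D.sval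
  have uf : D.u B.f0 = 1 := by
    rw [← hulast, D.row, u0, u1, u2, u3]
    decide
  -- items
  let n : IrrCharacter G → ℤ := fun η => ((charDegree (η : G → ℂ) / 11 : ℕ) : ℤ)
  let item : IrrCharacter G → Item := fun η => ⟨n η, D.u η, D.s η, D.v η⟩
  have hn : ∀ η ∈ B.Z, (charDegree (η : G → ℂ) : ℤ) = 11 * n η := by
    intro η hη
    obtain ⟨c, hc⟩ := B.degZ η hη
    simp only [n, hc, Nat.mul_div_cancel_left c (by norm_num : 0 < 11)]
    push_cast
    rfl
  set L := B.Z.toList.map item with hL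
  have hsum : ∀ f : Item → ℤ, (L.map f).sum = ∑ η ∈ B.Z, f (item η) := by
    intro f
    rw [hL, List.map_map]
    exact Finset.sum_map_toList B.Z _
  have key : ∀ (F F' : IrrCharacter G → ℤ) (c t : ℤ), ∑ η, F η * F' η = c →
      c - (F (principalIrr G) * F' (principalIrr G) + (F (B.χ 0) * F' (B.χ 0) + F (B.χ 1) * F' (B.χ 1) +
        F (B.χ 2) * F' (B.χ 2) + F (B.χ 3) * F' (B.χ 3)) + (F B.f0 * F' B.f0 + F B.f1 * F' B.f1)) = t →
      ∑ η ∈ B.Z, F η * F' η = t := by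
    intro F F' c t h h'
    rw [B.split_int fun η => F η * F' η] at h
    linarith
  have hdd : ∑ η : IrrCharacter G, (charDegree (η : G → ℂ) : ℤ) * charDegree (η : G → ℂ) = 95040 := by
    have h := Chars17.natSum_sq_degrees (G := G)
    rw [hG] at h
    simp only [sq] at h
    exact_mod_cast h
  have hne : ∀ {g h : G}, orderOf g ≠ orderOf h → ¬ IsConj g h := fun h => not_conj_of_orderOf_ne h
  have Zdd := key _ _ _ 54450 hdd (by rw [hp1, hd0, hd1, hd2, hd3, hx0, hx1]; norm_num)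
  have Zqq := key _ _ _ 5 (sum_sq_eq D.q D.hu) (by rw [D.hCq, hu1, u0, u1, u2, u3, hueq, uf]; norm_num)
  have Zrr := key _ _ _ 5 (sum_sq_eq (D.q * D.z) D.hs) (by
    rw [D.hCqz, hs1, s0, s1, s2, hseq]
    rcases D.sign with ⟨-, -, a, b⟩ | ⟨-, -, a, b⟩ <;> rw [a, b] <;> norm_num)
  have Zvv := key _ _ _ ((C : ℤ) - 110) (sum_sq_eq D.z D.hv) (by
    rw [← hC, hv1, v0, v1, v2, hveq]
    rcases D.sign with ⟨a, b, -, -⟩ | ⟨a, b, -, -⟩ <;> rw [a, b] <;> ring)
  have Zdq := key _ _ _ 165 (sum_mul_eq_zero (hne (by rw [orderOf_one, D.hq]; norm_num)) hone D.hu) (by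
    rw [hp1, hd0, hd1, hd2, hd3, hx0, hx1, hu1, u0, u1, u2, u3, hueq, uf]; norm_num)
  have Zdr := key _ _ _ (if D.v B.f0 = 4 then 121 else -231)
    (sum_mul_eq_zero (hne (by rw [orderOf_one, hoqz]; norm_num)) hone D.hs) (by
    rw [hp1, hd0, hd1, hd2, hd3, hx0, hx1, hs1, s0, s1, s2, hseq]
    rcases D.sign with ⟨-, e, a, b⟩ | ⟨-, e, a, b⟩ <;> rw [a, b, e] <;> norm_num)
  have Zdv := key _ _ _ (if D.v B.f0 = 4 then -1254 else 154)
    (sum_mul_eq_zero (hne (by rw [orderOf_one, D.hz]; norm_num)) hone D.hv) (by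
    rw [hp1, hd0, hd1, hd2, hd3, hx0, hx1, hv1, v0, v1, v2, hveq]
    rcases D.sign with ⟨a, b, -, -⟩ | ⟨a, b, -, -⟩ <;> rw [a, b] <;> norm_num)
  have Zqr := key _ _ _ (if D.v B.f0 = 4 then 1 else -1)
    (sum_mul_eq_zero (hne (by rw [D.hq, hoqz]; norm_num)) D.hu D.hs) (by
    rw [hu1, u0, u1, u2, u3, hueq, uf, hs1, s0, s1, s2, hseq]
    rcases D.sign with ⟨-, e, a, b⟩ | ⟨-, e, a, b⟩ <;> rw [a, b, e] <;> norm_num)
  have Zqv := key _ _ _ (if D.v B.f0 = 4 then 1 else 9)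
    (sum_mul_eq_zero (hne (by rw [D.hq, D.hz]; norm_num)) D.hu D.hv) (by
    rw [hu1, u0, u1, u2, u3, hueq, uf, hv1, v0, v1, v2, hveq]
    rcases D.sign with ⟨a, b, -, -⟩ | ⟨a, b, -, -⟩ <;> rw [a, b] <;> norm_num)
  have Zrv := key _ _ _ 5
    (sum_mul_eq_zero (hne (by rw [hoqz, D.hz]; norm_num)) D.hs D.hv) (by
    rw [hs1, s0, s1, s2, hseq, hv1, v0, v1, v2, hveq]
    rcases D.sign with ⟨a, b, c, d⟩ | ⟨a, b, c, d⟩ <;> rw [a, b, c, d] <;> norm_num)
  rw [Finset.sum_congr rfl (fun η hη => by rw [hn η hη] :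
      ∀ η ∈ B.Z, (charDegree (η : G → ℂ) : ℤ) * charDegree (η : G → ℂ) = 11 * n η * (11 * n η))] at Zdd
  rw [Finset.sum_congr rfl (fun η hη => by rw [hn η hη] :
      ∀ η ∈ B.Z, (charDegree (η : G → ℂ) : ℤ) * D.u η = 11 * n η * D.u η)] at Zdq
  rw [Finset.sum_congr rfl (fun η hη => by rw [hn η hη] :
      ∀ η ∈ B.Z, (charDegree (η : G → ℂ) : ℤ) * D.s η = 11 * n η * D.s η)] at Zdr
  rw [Finset.sum_congr rfl (fun η hη => by rw [hn η hη] :
      ∀ η ∈ B.Z, (charDegree (η : G → ℂ) : ℤ) * D.v η = 11 * n η * D.v η)] at Zdv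
  simp only [mul_assoc, mul_left_comm (n _) (11 : ℤ), ← Finset.mul_sum] at Zdd Zdq Zdr Zdv
  have hC240 : C ≤ 240 := by rcases D.hCz with h | h <;> rw [← hC] at h <;> omega
  have hok : ∀ η ∈ B.Z, item η ∈ items (C : ℤ) := by
    intro η hη
    refine mem_items (by exact_mod_cast hC240) ?_
    have hne : η ≠ principalIrr G := fun e => by
      have := B.degZ η hη; rw [e, hp1] at this; norm_num at this
    have hdeg := hn η hη
    have hpos := (degree_eq η).2.2
    have hdvd : (11 * n η) ∣ (95040 : ℤ) := by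
      rw [← hdeg]
      exact_mod_cast (hG ▸ charDegree_irr_dvd_card η : charDegree (η : G → ℂ) ∣ 95040)
    have h1 : n η * n η ≤ 450 := by
      have := Finset.single_le_sum (f := fun η => n η * n η) (fun _ _ => mul_self_nonneg _) hη
      linarith
    have h2 : D.u η * D.u η ≤ 5 := le_of_le_of_eq
      (Finset.single_le_sum (f := fun η => D.u η * D.u η) (fun _ _ => mul_self_nonneg _) hη) Zqq
    have h3 : D.s η * D.s η ≤ 5 := le_of_le_of_eq
      (Finset.single_le_sum (f := fun η => D.s η * D.s η) (fun _ _ => mul_self_nonneg _) hη) Zrr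
    have h4 : D.v η * D.v η ≤ (C : ℤ) - 110 := le_of_le_of_eq
      (Finset.single_le_sum (f := fun η => D.v η * D.v η) (fun _ _ => mul_self_nonneg _) hη) Zvv
    have h5 := D.v_lt η hne
    rw [hdeg] at h5
    have h6 : (D.u η - 11 * n η) % 5 = 0 := hdeg ▸ D.u_mod η
    have h7 : (11 * n η) % 5 ≠ 0 ∨ (D.u η = 0 ∧ D.s η = 0) := by
      by_cases h : 5 ∣ charDegree (η : G → ℂ)
      · exact Or.inr (D.five η h)
      · left; omega
    have h8 : (D.v η - 11 * n η) % 4 = 0 := hdeg ▸ D.v_mod η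
    have h9 := hdeg ▸ classInt_eq hG η D.z (D.hv η)
    have h10 : (8640 : ℤ) % n η = 0 := by
      obtain ⟨c, hc⟩ := hdvd
      exact Int.emod_eq_zero_of_dvd ⟨c, by linarith⟩
    simp only [Item.ok, item, Bool.and_eq_true, decide_eq_true_eq, beq_iff_eq, Bool.or_eq_true,
      bne_iff_ne, ne_eq]
    exact ⟨⟨⟨⟨⟨⟨⟨⟨⟨⟨⟨⟨h10, by omega⟩, h1⟩, h2⟩, h3⟩, h4⟩, h5⟩, h6⟩, h7⟩, D.s_par η⟩, D.s_mod η⟩, h8⟩, h9⟩
  have hcube : ((pairs D.z D.z {D.z}).card : ℤ) * C * C =
      739200 + 660 * (D.v (B.χ 3) * D.v (B.χ 3) * D.v (B.χ 3)) +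
        11880 * (D.v B.f0 * D.v B.f0 * D.v B.f0) + (totals L).cube := by
    have hzinv : D.z⁻¹ = D.z := inv_eq_of_mul_eq_one_right (by rw [← sq, ← D.hz, pow_orderOf_eq_one])
    have h := card_pairs_mul_centralizers D.z D.z ({D.z} : Finset G)
    simp only [Finset.sum_singleton, hzinv, D.hv] at h
    have hcast : ((pairs D.z D.z {D.z}).card : ℤ) * C * C =
        ∑ η : IrrCharacter G, (cofDegree η : ℤ) * (D.v η * D.v η * D.v η) := by exact_mod_cast h
    rw [hcast, B.split_int, cof_eq hG _ (d := 1) (by exact_mod_cast hp1), cof_eq hG _ hd0, cof_eq hG _ hd1,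
      cof_eq hG _ hd2, cof_eq hG _ hd3, cof_eq hG _ hx0, cof_eq hG _ hx1, hv1, v0, v1, v2, hveq]
    have hrest : ∑ η ∈ B.Z, (cofDegree η : ℤ) * (D.v η * D.v η * D.v η) = (totals L).cube := by
      simp only [totals, hsum, item]
      exact Finset.sum_congr rfl fun η hη => by rw [cof_eq hG η (hn η hη)]; ring
    rw [hrest]
    norm_num
    ring
  have htot : ∀ f : Item → ℤ, (L.map f).sum = ∑ η ∈ B.Z, f (item η) := hsum
  have hgo : ∀ (good : ℤ → Bool) (its : List Item), (∀ i ∈ items (C : ℤ), i ∈ its) →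
      (∀ i ∈ its, i.n ≠ 0) → go good its (target (C : ℤ) (D.v B.f0)) = true →
      good (totals L).cube = true := by
    intro good its hsub hnz hgo
    have hLmem : ∀ x ∈ L, x ∈ its := by
      intro x hx
      obtain ⟨η, hη, rfl⟩ := List.mem_map.1 hx
      exact hsub _ (hok η (Finset.mem_toList.1 hη))
    have h := go_sound its _ hgo hnz L hLmem
    rcases D.sign with ⟨-, e, -, -⟩ | ⟨-, e, -, -⟩ <;>
      simp only [e, target, totals, htot, item, if_true, show ¬((-4 : ℤ) = 4) by norm_num,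
        if_false] at h Zdr Zdv Zqr Zqv ⊢ <;>
      (simp only [sub_zero] at h
       refine h ?_ ?_ ?_ ?_ ?_ ?_ ?_ ?_ ?_ ?_ <;> first | linarith)
  have hn120 : ∀ i ∈ itemList120, i.n ≠ 0 := by decide
  have hn240 : ∀ i ∈ itemList240, i.n ≠ 0 := by decide
  rcases D.hCz with hC' | hC'
  · exfalso
    rw [← hC] at hC'
    rw [hC'] at hgo
    rcases D.sign with ⟨-, e, -, -⟩ | ⟨-, e, -, -⟩ <;> rw [e] at hgo
    · exact Bool.false_ne_true (hgo _ _ items_small hn120 rest_plus_small)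
    · exact Bool.false_ne_true (hgo _ _ items_small hn120 rest_minus_small)
  rw [← hC] at hC'
  rw [hC'] at hgo hcube
  rcases D.sign with ⟨a, e, -, -⟩ | ⟨a, e, -, -⟩
  · rw [e] at hgo
    have h := hgo _ _ items_big hn240 rest_plus
    simp only [beq_iff_eq] at h
    rw [h, a, e] at hcube
    norm_num at hcube
    have hcard : (pairs D.z D.z {D.z}).card = 20 := by
      have : ((pairs D.z D.z {D.z}).card : ℤ) = 20 := by linarith
      exact_mod_cast this
    refine ⟨D.z, D.q, D.hz, D.hq, D.comm, hC', D.hCq, D.hNq, ?_⟩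
    rw [← hcard, ← Nat.card_eq_finsetCard]
    have hzz : D.z * D.z = 1 := by rw [← sq, ← D.hz, pow_orderOf_eq_one]
    have hxx : ∀ x, IsConj D.z x → x * x = 1 := by
      intro x hx
      obtain ⟨c, rfl⟩ := isConj_iff.1 hx
      calc c * D.z * c⁻¹ * (c * D.z * c⁻¹) = c * (D.z * D.z) * c⁻¹ := by group
        _ = 1 := by rw [hzz]; group
    refine Nat.card_congr ⟨fun x => ⟨(x.1, x.1 * D.z), ?_⟩, fun p => ⟨p.1.1, ?_⟩, fun x => rfl, ?_⟩
    · simp only [pairs, Finset.mem_filter, Finset.mem_product, mem_cls, Finset.mem_singleton]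
      exact ⟨x.2, by rw [← mul_assoc, hxx _ x.2.1, one_mul]⟩
    · have h := p.2
      simp only [pairs, Finset.mem_filter, Finset.mem_product, mem_cls, Finset.mem_singleton] at h
      refine ⟨h.1.1, ?_⟩
      have e : p.1.1 * D.z = p.1.2 :=
        calc p.1.1 * D.z = p.1.1 * (p.1.1 * p.1.2) := by rw [h.2]
          _ = p.1.2 := by rw [← mul_assoc, hxx _ h.1.1, one_mul]
      rw [e]
      exact h.1.2
    · rintro ⟨⟨x, y⟩, hp⟩
      have h := hp
      simp only [pairs, Finset.mem_filter, Finset.mem_product, mem_cls, Finset.mem_singleton] at h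
      refine Subtype.ext (Prod.ext rfl ?_)
      show x * D.z = y
      calc x * D.z = x * (x * y) := by rw [h.2]
        _ = y := by rw [← mul_assoc, hxx _ h.1.1, one_mul]
  · exfalso
    rw [e] at hgo
    have h := hgo _ _ items_big hn240 rest_minus
    simp only [decide_eq_true_eq] at h
    rw [a, e] at hcube
    norm_num at hcube
    have : (0 : ℤ) ≤ ((pairs D.z D.z {D.z}).card : ℤ) := Int.natCast_nonneg _
    linarith

end CfsgLib.MathieuTwelve
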