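import Mathlib.Data.List.Range
import Mathlib.Algebra.Order.Group.Unbundled.Abs
import Mathlib.Algebra.Order.Ring.Int
import Mathlib.Tactic.IntervalCases
import Mathlib.Tactic.Linarith
import Mathlib.Algebra.Order.Ring.Abs
import Mathlib.Tactic.NormNum

/-!
Finite searches over degrees and character values for a simple group of order 95040.
-/
set_option autoImplicit false
set_option maxRecDepth 16000
set_option synthInstance.maxSize 2000

namespace CfsgLib.MathieuTwelve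

/-- The sign of a degree prime to 11 in the principal 11-block. -/
def sgn (d : ℤ) : ℤ := if d % 11 = 1 then 1 else -1

/-- Degrees of the four ordinary characters of the principal 11-block, the degree of the two
exceptional ones and the coefficient of the latter. -/
structure Row where
  d1 : ℤ
  d2 : ℤ
  d3 : ℤ
  d4 : ℤ
  x : ℤ
  c : ℤ
deriving DecidableEq

/-- `1 + ∑ (coefficient) (value)`. -/
def Row.lin (r : Row) (v1 v2 v3 v4 w : ℤ) : ℤ :=
  1 + sgn r.d1 * v1 + sgn r.d2 * v2 + sgn r.d3 * v3 + sgn r.d4 * v4 + r.c * w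

/-- `95040 · (1 + ∑ (coefficient) (value)² / degree)`. -/
def Row.quad (r : Row) (v1 v2 v3 v4 w : ℤ) : ℤ :=
  95040 + sgn r.d1 * (v1 * v1) * (95040 / r.d1) + sgn r.d2 * (v2 * v2) * (95040 / r.d2) +
    sgn r.d3 * (v3 * v3) * (95040 / r.d3) + sgn r.d4 * (v4 * v4) * (95040 / r.d4) +
    r.c * (w * w) * (95040 / r.x)

/-- The part of the sum of squares of values coming from the block. -/
def Row.sq (v1 v2 v3 v4 w : ℤ) : ℤ :=
  1 + v1 * v1 + v2 * v2 + v3 * v3 + v4 * v4 + 2 * (w * w)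

/-- The value of the exceptional characters forced by the linear relation. -/
def Row.last (r : Row) (v1 v2 v3 v4 : ℤ) : ℤ :=
  -r.c * (1 + sgn r.d1 * v1 + sgn r.d2 * v2 + sgn r.d3 * v3 + sgn r.d4 * v4)

/-- The twenty-six possibilities. -/
def rows : List Row := [⟨10, 10, 10, 45, 16, -1⟩, ⟨10, 10, 12, 12, 5, -1⟩, ⟨10, 10, 32, 45, 6, 1⟩,
  ⟨10, 10, 120, 144, 5, -1⟩, ⟨10, 12, 12, 12, 27, -1⟩, ⟨10, 12, 12, 45, 60, -1⟩,
  ⟨10, 12, 32, 45, 16, -1⟩, ⟨10, 12, 45, 54, 6, 1⟩, ⟨10, 12, 45, 120, 72, 1⟩,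
  ⟨10, 12, 120, 144, 27, -1⟩, ⟨10, 45, 45, 54, 27, -1⟩, ⟨10, 45, 54, 54, 72, 1⟩,
  ⟨10, 45, 120, 144, 60, -1⟩, ⟨10, 54, 54, 144, 27, -1⟩, ⟨12, 12, 12, 32, 5, -1⟩,
  ⟨12, 12, 45, 54, 16, -1⟩, ⟨12, 32, 32, 45, 6, 1⟩, ⟨12, 32, 120, 144, 5, -1⟩,
  ⟨32, 32, 45, 45, 27, -1⟩, ⟨32, 32, 45, 54, 72, 1⟩, ⟨32, 32, 54, 144, 27, -1⟩,
  ⟨32, 45, 45, 54, 5, -1⟩, ⟨32, 45, 54, 120, 160, 1⟩, ⟨32, 54, 54, 144, 5, -1⟩,
  ⟨45, 45, 45, 120, 16, -1⟩, ⟨45, 54, 120, 144, 16, -1⟩]

/-- The degrees congruent to `±1` modulo 11. -/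
def degOne : List ℤ := [10, 12, 32, 45, 54, 120, 144]

/-- The degrees congruent to `±2` modulo 11. -/
def degTwo : List ℤ := [2, 9, 20, 24, 64, 90, 108, 240, 288]

theorem mem_degOne : ∀ d : ℕ, d < 309 → d ∣ 95040 → d % 11 = 1 ∨ d % 11 = 10 → 1 < d →
    (d : ℤ) ∈ degOne := by
  decide +kernel

theorem mem_degTwo : ∀ d : ℕ, d < 309 → d ∣ 95040 → d % 11 = 2 ∨ d % 11 = 9 → (d : ℤ) ∈ degTwo := by
  decide +kernel

/-- The degree conditions on a row. -/
def Row.degOK (r : Row) : Bool :=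
  (r.d1 ≤ r.d2 && r.d2 ≤ r.d3 && r.d3 ≤ r.d4) && (r.c == 1 || r.c == -1) && decide (1 < r.x) &&
    (95040 % r.x == 0) && ((r.x + 5 * r.c) % 11 == 0) && (r.lin r.d1 r.d2 r.d3 r.d4 r.x == 0) &&
    decide (Row.sq r.d1 r.d2 r.d3 r.d4 r.x ≤ 95040)

/-- The rows compatible with four given degrees. -/
def degCheck : Bool :=
  degOne.all fun a => degOne.all fun b => degOne.all fun c => degOne.all fun d =>
    [1, -1].all fun e =>
      let s := -e * (1 + sgn a * a + sgn b * b + sgn c * c + sgn d * d)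
      !(Row.degOK ⟨a, b, c, d, s, e⟩) || rows.contains ⟨a, b, c, d, s, e⟩

theorem degCheck_ok : degCheck = true := by decide +kernel

theorem mem_rows {r : Row} (h : r.degOK = true) (h1 : r.d1 ∈ degOne) (h2 : r.d2 ∈ degOne)
    (h3 : r.d3 ∈ degOne) (h4 : r.d4 ∈ degOne) : r ∈ rows := by
  obtain ⟨a, b, c, d, x, e⟩ := r
  have h0 := h
  simp only [Row.degOK, Bool.and_eq_true, Bool.or_eq_true, beq_iff_eq, decide_eq_true_eq] at h0
  have he : e = 1 ∨ e = -1 := h0.1.1.1.1.1.2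
  have hx : x = -e * (1 + sgn a * a + sgn b * b + sgn c * c + sgn d * d) := by
    have := h0.1.2
    simp only [Row.lin] at this
    rcases he with rfl | rfl <;> linarith
  have hc := List.all_eq_true.1 degCheck_ok a h1
  simp only [List.all_eq_true] at hc
  have h5 := hc b h2 c h3 d h4 e (by rcases he with rfl | rfl <;> simp)
  rw [← hx, h] at h5
  simpa using h5

/-- No single character with coefficient `±2`. -/
theorem no_two : ∀ d ∈ degTwo, ∀ x : ℕ, x < 600 → ((x : ℤ) = 1 + 2 * d ∨ (x : ℤ) = 2 * d - 1) →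
    x ∣ 95040 → (x % 11 = 5 ∨ x % 11 = 6) → d ≠ 2 → False := by
  intro d hd x hx h hdvd hm hne
  simp only [degTwo, List.mem_cons, List.not_mem_nil, or_false] at hd
  rcases hd with rfl | rfl | rfl | rfl | rfl | rfl | rfl | rfl | rfl <;> rcases h with h | h <;>
    first
      | exact hne rfl
      | (norm_num at h; obtain rfl : x = _ := by exact_mod_cast h
         revert hdvd hm; decide)

/-- The integers of absolute value at most `b`. -/
def ival (b : ℕ) : List ℤ := (List.range (2 * b + 1)).map fun k : ℕ => (k : ℤ) - b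

theorem mem_ival {b : ℕ} {v : ℤ} (h1 : -(b : ℤ) ≤ v) (h2 : v ≤ b) : v ∈ ival b := by
  refine List.mem_map.2 ⟨(v + b).toNat, List.mem_range.2 (by omega), by omega⟩

/-- Candidate values at a slot: below the degree, at most `b`, passing `f`. -/
def vals (d : ℤ) (b : ℕ) (f : ℤ → Bool) : List ℤ :=
  (ival b).filter fun v => (-d < v && v < d) && f v

theorem mem_vals {d v : ℤ} {b : ℕ} {f : ℤ → Bool} (h : |v| < d) (hb : v * v ≤ (b : ℤ) * b)
    (hf : f v = true) : v ∈ vals d b f := by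
  have hv : |v| ≤ (b : ℤ) := by
    by_contra hc
    have h2 : (b : ℤ) * b < |v| * |v| :=
      mul_lt_mul'' (not_le.1 hc) (not_le.1 hc) (by omega) (by omega)
    rw [abs_mul_abs_self] at h2
    omega
  obtain ⟨h1, h2⟩ := abs_le.1 hv
  obtain ⟨h3, h4⟩ := abs_lt.1 h
  exact List.mem_filter.2 ⟨mem_ival h1 h2, by simp [h3, h4, hf]⟩

/-- The orders of centralisers to consider. -/
def centOrders : List ℤ := (((List.range 7).product (List.range 4)).product ((List.range 2).product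
  (List.range 2))).map fun e => 2 ^ e.1.1 * 3 ^ e.1.2 * 5 ^ e.2.1 * 11 ^ e.2.2

/-- `(|G| / C) v / d` is integral. -/
def classInt (C d v : ℤ) : Bool := 95040 / C * v % d == 0

/-- Integrality at all slots. -/
def Row.classOK (r : Row) (C v1 v2 v3 v4 w : ℤ) : Bool :=
  classInt C r.d1 v1 && classInt C r.d2 v2 && classInt C r.d3 v3 && classInt C r.d4 v4 && classInt C r.x w

end CfsgLib.MathieuTwelve
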