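import Cfsg.Agent.Lib.MathieuTwelve.SearchInvolution

/-!
Finite searches over values at an element of order five all of whose powers are conjugate, and at an
involution centralising it.
-/
set_option autoImplicit false
set_option maxRecDepth 16000

namespace CfsgLib.MathieuTwelve

/-- Values at an element of order five with centraliser of order `5k`: congruences. -/
def fiveSlot (d v : ℤ) : Bool := (v - d) % 5 == 0 && (d % 5 != 0 || v == 0)

/-- Values at an involution centralising it. -/
def invSlot (d v : ℤ) : Bool := (v - d) % 4 == 0 && (d % 5 != 0 || v % 5 == 0)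

/-- Values at the product. -/
def mixSlot (d q v r : ℤ) : Bool := (r - v) % 5 == 0 && (r - q) % 2 == 0 && (d % 5 != 0 || r == 0)

/-- The centraliser of the involution is compatible with the values. -/
def Row.centsFor (r : Row) (v1 v2 v3 v4 w : ℤ) : List ℤ :=
  (invCents 20).filter fun C => decide (Row.sq v1 v2 v3 v4 w ≤ C) && r.classOK C v1 v2 v3 v4 w

/-- The only surviving configuration. -/
def fiveGood (r : Row) (k : ℕ) (q1 q2 q3 q4 v1 v2 v3 v4 w s1 s2 s3 s4 s : ℤ) : Bool :=
  r == ⟨45, 54, 120, 144, 16, -1⟩ && k == 2 && q1 == 0 && q2 == -1 && q3 == 0 && q4 == -1 &&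
    v1 == 5 && v2 == 6 && v3 == 0 && ((v4 == 4 && w == 4 && s4 == -1 && s == -1) ||
      (v4 == -4 && w == -4 && s4 == 1 && s == 1)) && s1 == 0 && s2 == 1 && s3 == 0 &&
    (r.centsFor v1 v2 v3 v4 w).all fun C => C == 120 || C == 240

/-- Bound for the values at the elements of order five. -/
def fiveBound (k : ℕ) : ℕ := Nat.sqrt (5 * k)

/-- Values at the product are compatible with the rest. -/
def mixCheck (r : Row) (k : ℕ) (q1 q2 q3 q4 qw v1 v2 v3 v4 w : ℤ) : Bool :=
  let b := fiveBound k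
  (vals r.d1 b (mixSlot r.d1 q1 v1)).all fun s1 => (vals r.d2 b (mixSlot r.d2 q2 v2)).all fun s2 =>
    (vals r.d3 b (mixSlot r.d3 q3 v3)).all fun s3 => (vals r.d4 b (mixSlot r.d4 q4 v4)).all fun s4 =>
      let s := r.last s1 s2 s3 s4
      !(mixSlot r.x qw w s && decide (Row.sq s1 s2 s3 s4 s ≤ 5 * k)) ||
        fiveGood r k q1 q2 q3 q4 v1 v2 v3 v4 w s1 s2 s3 s4 s

/-- Values at the involution. -/
def invCheck (r : Row) (k : ℕ) (q1 q2 q3 q4 qw : ℤ) : Bool :=
  (vals r.d1 93 (invSlot r.d1)).all fun v1 => (vals r.d2 93 (invSlot r.d2)).all fun v2 =>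
    (vals r.d3 93 (invSlot r.d3)).all fun v3 => (vals r.d4 93 (invSlot r.d4)).all fun v4 =>
      let w := r.last v1 v2 v3 v4
      !(decide (|w| < r.x) && invSlot r.x w && r.quad v1 v2 v3 v4 w == 0 &&
          !(r.centsFor v1 v2 v3 v4 w).isEmpty) ||
        mixCheck r k q1 q2 q3 q4 qw v1 v2 v3 v4 w

/-- Values at the product first, for a small centraliser. -/
def mixFirst (r : Row) (k : ℕ) (q1 q2 q3 q4 qw : ℤ) : Bool :=
  let b := fiveBound k
  let m := fun d q v : ℤ => (v - q) % 2 == 0 && (d % 5 != 0 || v == 0)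
  let n := fun d s v : ℤ => invSlot d v && (v - s) % 5 == 0
  (vals r.d1 b (m r.d1 q1)).all fun s1 => (vals r.d2 b (m r.d2 q2)).all fun s2 =>
    (vals r.d3 b (m r.d3 q3)).all fun s3 => (vals r.d4 b (m r.d4 q4)).all fun s4 =>
      let s := r.last s1 s2 s3 s4
      !(m r.x qw s && decide (Row.sq s1 s2 s3 s4 s ≤ 5 * k)) ||
        (vals r.d1 93 (n r.d1 s1)).all fun v1 => (vals r.d2 93 (n r.d2 s2)).all fun v2 =>
          (vals r.d3 93 (n r.d3 s3)).all fun v3 => (vals r.d4 93 (n r.d4 s4)).all fun v4 =>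
            let w := r.last v1 v2 v3 v4
            !(decide (|w| < r.x) && n r.x s w && r.quad v1 v2 v3 v4 w == 0 &&
                !(r.centsFor v1 v2 v3 v4 w).isEmpty) ||
              fiveGood r k q1 q2 q3 q4 v1 v2 v3 v4 w s1 s2 s3 s4 s

/-- The whole search at elements of order five. -/
def fiveCheck (k : ℕ) : Bool :=
  rows.all fun r =>
    let b := fiveBound k
    (vals r.d1 b (fiveSlot r.d1)).all fun q1 => (vals r.d2 b (fiveSlot r.d2)).all fun q2 =>
      (vals r.d3 b (fiveSlot r.d3)).all fun q3 => (vals r.d4 b (fiveSlot r.d4)).all fun q4 =>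
        let qw := r.last q1 q2 q3 q4
        let q := r.quad q1 q2 q3 q4 qw
        !(decide (|qw| < r.x) && fiveSlot r.x qw && decide (Row.sq q1 q2 q3 q4 qw ≤ 5 * k) &&
            r.classOK (5 * k) q1 q2 q3 q4 qw && decide (0 < q) && q % (275 * (k : ℤ) * k) == 0) ||
          (k % 2 == 0 && cond (k == 2) (mixFirst r k q1 q2 q3 q4 qw) (invCheck r k q1 q2 q3 q4 qw))

end CfsgLib.MathieuTwelve
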