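import Cfsg.Agent.Lib.MathieuTwelve.Block
import Cfsg.Agent.Lib.Sporadic.CharTools
import Cfsg.Agent.Lib.Small.Order4320
import Cfsg.Agent.Lib.Blocks.ClassCount
import Mathlib.GroupTheory.Perm.Cycle.Type

/-!
# Integral values and relations for a simple group of order 95040
-/

set_option autoImplicit false
set_option linter.style.haveILetI false
set_option linter.unusedSectionVars false
open Cfsg CfsgLib.Characters CfsgLib.CharCorr CfsgLib.ClassCount
open scoped ComplexConjugate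

namespace CfsgLib.MathieuTwelve

universe u

variable {G : Type u} [Group G] [Fintype G]

/-- `d` divides the size of the class times the value. -/
theorem dvd_index_mul (η : IrrCharacter G) (g : G) {v : ℤ} (hv : (η : G → ℂ) g = (v : ℂ)) :
    (charDegree (η : G → ℂ) : ℤ) ∣ ((Subgroup.centralizer ({g} : Set G)).index : ℤ) * v := by
  have hi := centralChar_isIntegral η g
  obtain ⟨h1, -, hpos⟩ := degree_eq η
  set n := (Subgroup.centralizer ({g} : Set G)).index
  set d := charDegree (η : G → ℂ)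
  have hd0 : (d : ℂ) ≠ 0 := Nat.cast_ne_zero.2 hpos.ne'
  have hc : centralChar (η : G → ℂ) g = ((((n : ℤ) * v : ℤ) : ℚ) / ((d : ℤ) : ℚ) : ℚ) := by
    rw [centralChar, hv, h1]
    push_cast
    ring
  obtain ⟨j, hj⟩ := exists_int_of_isIntegral_rat (hc ▸ hi)
  refine ⟨j, ?_⟩
  have hq : ((d : ℤ) : ℚ) ≠ 0 := by exact_mod_cast hpos.ne'
  rw [eq_div_iff hq] at hj
  exact_mod_cast (by rw [← hj]; ring : (((n : ℤ) * v : ℤ) : ℚ) = ((d : ℤ) : ℚ) * (j : ℚ))

/-- The integrality condition of the searches. -/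
theorem classInt_eq (hG : Nat.card G = 95040) (η : IrrCharacter G) (g : G) {v : ℤ}
    (hv : (η : G → ℂ) g = (v : ℂ)) :
    classInt (Nat.card (Subgroup.centralizer ({g} : Set G))) (charDegree (η : G → ℂ)) v = true := by
  have h := (Subgroup.centralizer ({g} : Set G)).index_mul_card
  rw [hG] at h
  simp only [classInt, beq_iff_eq]
  rw [show (95040 : ℤ) / (Nat.card (Subgroup.centralizer ({g} : Set G)) : ℤ) =
    ((Subgroup.centralizer ({g} : Set G)).index : ℤ) by
    rw [show (95040 : ℤ) = ((95040 : ℕ) : ℤ) from rfl, ← h, Nat.cast_mul,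
      Int.mul_ediv_cancel _ (by exact_mod_cast Nat.card_pos.ne')]]
  exact Int.emod_eq_zero_of_dvd (dvd_index_mul η g hv)

/-- Second orthogonality for integral values. -/
theorem sum_sq_eq (g : G) {v : IrrCharacter G → ℤ} (hv : ∀ η : IrrCharacter G, (η : G → ℂ) g = (v η : ℂ)) :
    ∑ η, v η * v η = (Nat.card (Subgroup.centralizer ({g} : Set G)) : ℤ) := by
  classical
  have h := column_orth g g
  rw [if_pos (IsConj.refl g)] at h
  simp only [hv, map_intCast, ← Int.cast_mul, ← Int.cast_sum] at h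
  exact_mod_cast h

/-- Second orthogonality for integral values at two elements that are not conjugate. -/
theorem sum_mul_eq_zero {g h : G} (hgh : ¬ IsConj g h) {v w : IrrCharacter G → ℤ}
    (hv : ∀ η : IrrCharacter G, (η : G → ℂ) g = (v η : ℂ))
    (hw : ∀ η : IrrCharacter G, (η : G → ℂ) h = (w η : ℂ)) : ∑ η, v η * w η = 0 := by
  classical
  have e := column_orth g h
  rw [if_neg hgh] at e
  simp only [hv, hw, map_intCast, ← Int.cast_mul, ← Int.cast_sum] at e
  exact_mod_cast e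

/-- The value of the principal character. -/
theorem val_principal {g : G} {v : IrrCharacter G → ℤ}
    (hv : ∀ η : IrrCharacter G, (η : G → ℂ) g = (v η : ℂ)) : v (principalIrr G) = 1 := by
  have h := hv (principalIrr G)
  simp only [principalIrr] at h
  exact_mod_cast h.symm

variable [IsSimpleGroup G]

/-- An involution takes integral values congruent to the degree modulo 4. -/
theorem exists_invol_values (hG : Nat.card G = 95040) {z : G} (hz : orderOf z = 2) :
    ∃ v : IrrCharacter G → ℤ, (∀ η : IrrCharacter G, (η : G → ℂ) z = (v η : ℂ)) ∧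
      (∀ η : IrrCharacter G, (v η - charDegree (η : G → ℂ)) % 4 = 0) ∧
      ∀ η : IrrCharacter G, η ≠ principalIrr G → |v η| < charDegree (η : G → ℂ) := by
  have hex : ∀ η : IrrCharacter G, ∃ v : ℤ, (η : G → ℂ) z = (v : ℂ) ∧
      (v - charDegree (η : G → ℂ)) % 4 = 0 ∧
      (η ≠ principalIrr G → |v| < charDegree (η : G → ℂ)) := by
    intro η
    by_cases hη : η = principalIrr G
    · subst hη
      exact ⟨1, by simp [principalIrr], by simp [principalIrr, charDegree], fun h => absurd rfl h⟩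
    · obtain ⟨v, h1, h2, h3⟩ := Small.Order4320.value_involution (not_comm hG) hη hz
        (irr_one_eq_charDegree η)
      refine ⟨v, h1, by omega, fun _ => ?_⟩
      have := abs_lt_of_sq_lt_sq h3 (Int.natCast_nonneg _)
      exact this
  choose v h1 h2 h3 using hex
  exact ⟨v, h1, h2, h3⟩

/-- The order of the centraliser of an involution is divisible by 8. -/
theorem eight_dvd_centralizer (hG : Nat.card G = 95040) {z : G} (hz : orderOf z = 2) :
    8 ∣ Nat.card (Subgroup.centralizer ({z} : Set G)) := by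
  obtain ⟨v, hv, h4, -⟩ := exists_invol_values hG hz
  have h := sum_sq_eq z hv
  have hd : ∑ η : IrrCharacter G, (charDegree (η : G → ℂ) : ℤ) ^ 2 = 95040 := by
    have := Chars17.natSum_sq_degrees (G := G)
    rw [hG] at this
    exact_mod_cast this
  have h8 : (8 : ℤ) ∣ ∑ η : IrrCharacter G, (v η * v η - (charDegree (η : G → ℂ) : ℤ) ^ 2) := by
    refine Finset.dvd_sum fun η _ => ?_
    obtain ⟨j, hj⟩ := Int.dvd_of_emod_eq_zero (h4 η)
    refine ⟨(charDegree (η : G → ℂ) : ℤ) * j + 2 * j * j, ?_⟩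
    rw [show v η = (charDegree (η : G → ℂ) : ℤ) + 4 * j by linarith]
    ring
  rw [Finset.sum_sub_distrib, h, hd] at h8
  omega

theorem Principal.degree_ne_zero (B : Principal G) (i : Fin 4) : charDegree (B.χ i : G → ℂ) ≠ 0 :=
  (degree_eq (B.χ i)).2.2.ne'

/-- Degrees in a row are at least 5 and the exceptional degree is never 12. -/
theorem rows_degrees : ∀ r ∈ rows, 5 ≤ r.d1 ∧ 5 ≤ r.d2 ∧ 5 ≤ r.d3 ∧ 5 ≤ r.d4 ∧ 5 ≤ r.x ∧ r.x ≠ 12 := by
  decide +kernel

theorem cof_eq (hG : Nat.card G = 95040) (η : IrrCharacter G) {d : ℤ}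
    (hd : (charDegree (η : G → ℂ) : ℤ) = d) : (cofDegree η : ℤ) = 95040 / d := by
  rw [cofDegree, Int.natCast_div, hG, hd]
  norm_num

/-- Pairs from two classes with product of order eleven. -/
theorem Principal.pairs_eleven (B : Principal G) (hG : Nat.card G = 95040) {a : G} (ha : orderOf a = 11)
    (g h : G) (hg : ¬ 11 ∣ orderOf g) (hh : ¬ 11 ∣ orderOf h) :
    ((pairs g h {a}).card : ℂ) * (Nat.card (Subgroup.centralizer ({g} : Set G)) : ℂ) *
        (Nat.card (Subgroup.centralizer ({h} : Set G)) : ℂ) =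
      95040 + ∑ i, (sgn (B.r.ds i) : ℂ) * (((95040 / B.r.ds i : ℤ)) : ℂ) *
          ((B.χ i : G → ℂ) g * (B.χ i : G → ℂ) h) +
        (B.r.c : ℂ) * ((95040 / B.r.x : ℤ) : ℂ) * ((B.f0 : G → ℂ) g * (B.f0 : G → ℂ) h) := by
  have ha' : orderOf a⁻¹ = 11 := by rw [orderOf_inv, ha]
  have hcof : ∀ (η : IrrCharacter G) (d : ℤ), (charDegree (η : G → ℂ) : ℤ) = d →
      ((cofDegree η : ℕ) : ℂ) = ((95040 / d : ℤ) : ℂ) := fun η d hd => by
    rw [← cof_eq hG η hd, Int.cast_natCast]
  rw [card_pairs_mul_centralizers, B.split]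
  simp only [Finset.sum_singleton]
  rw [Finset.sum_eq_zero (s := B.Z) (fun η hη => by rw [B.valZ η hη _ ha', mul_zero, mul_zero]),
    add_zero, hcof _ _ B.degX.1, hcof _ _ B.degX.2,
    Finset.sum_congr rfl (fun i _ => by rw [hcof _ _ (B.deg i), B.valE _ ha' i] :
      ∀ i ∈ (Finset.univ : Finset (Fin 4)), (cofDegree (B.χ i) : ℂ) *
        ((B.χ i : G → ℂ) g * (B.χ i : G → ℂ) h * (B.χ i : G → ℂ) a⁻¹) =
        ((95040 / B.r.ds i : ℤ) : ℂ) *
        ((B.χ i : G → ℂ) g * (B.χ i : G → ℂ) h * (sgn (B.r.ds i) : ℂ))),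
    B.eqX g hg, B.eqX h hh]
  have hX := B.valX _ ha'
  have hp : (cofDegree (principalIrr G) : ℂ) = 95040 := by
    rw [hcof _ 1 (by simp [principalIrr, charDegree])]
    norm_num
  rw [hp]
  simp only [principalIrr_apply, one_mul, mul_one]
  rw [Finset.sum_congr rfl (fun i _ => show
      ((95040 / B.r.ds i : ℤ) : ℂ) * ((B.χ i : G → ℂ) g * (B.χ i : G → ℂ) h * (sgn (B.r.ds i) : ℂ)) =
      (sgn (B.r.ds i) : ℂ) * ((95040 / B.r.ds i : ℤ) : ℂ) * ((B.χ i : G → ℂ) g * (B.χ i : G → ℂ) h) by ring)]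
  linear_combination (((95040 / B.r.x : ℤ) : ℂ) * ((B.f0 : G → ℂ) g * (B.f0 : G → ℂ) h)) * hX

/-- The values on the principal block satisfy the linear relation. -/
theorem Principal.lin_eq (B : Principal G) {g : G} (hg : ¬ 11 ∣ orderOf g) {v : IrrCharacter G → ℤ}
    (hv : ∀ η : IrrCharacter G, (η : G → ℂ) g = (v η : ℂ)) :
    v B.f1 = v B.f0 ∧
      B.r.last (v (B.χ 0)) (v (B.χ 1)) (v (B.χ 2)) (v (B.χ 3)) = v B.f0 := by
  have h1 := B.eqX g hg
  have h2 := B.rel g hg
  simp only [hv, Fin.sum_univ_four] at h1 h2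
  refine ⟨Int.cast_injective h1, ?_⟩
  have hc : B.r.c = 1 ∨ B.r.c = -1 := by
    have := (show ∀ r ∈ rows, r.c = 1 ∨ r.c = -1 by decide +kernel) _ B.mem
    exact this
  have h : 1 + (sgn B.r.d1 * v (B.χ 0) + sgn B.r.d2 * v (B.χ 1) + sgn B.r.d3 * v (B.χ 2) +
      sgn B.r.d4 * v (B.χ 3)) + B.r.c * v B.f0 = 0 := by
    simp only [Row.ds, Matrix.cons_val] at h2
    exact_mod_cast h2
  simp only [Row.last]
  rcases hc with e | e <;> rw [e] at h ⊢ <;> linarith

/-- The squares in the principal block are bounded by the centraliser. -/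
theorem Principal.sq_le (B : Principal G) {g : G} (hg : ¬ 11 ∣ orderOf g) {v : IrrCharacter G → ℤ}
    (hv : ∀ η : IrrCharacter G, (η : G → ℂ) g = (v η : ℂ)) :
    Row.sq (v (B.χ 0)) (v (B.χ 1)) (v (B.χ 2)) (v (B.χ 3)) (v B.f0) +
      ∑ η ∈ B.Z, v η * v η = (Nat.card (Subgroup.centralizer ({g} : Set G)) : ℤ) := by
  have h := B.split fun η => ((v η * v η : ℤ) : ℂ)
  rw [← Int.cast_sum, sum_sq_eq g hv, val_principal hv, (B.lin_eq hg hv).1, Fin.sum_univ_four] at h
  have h' : (Nat.card (Subgroup.centralizer ({g} : Set G)) : ℤ) = 1 * 1 +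
      (v (B.χ 0) * v (B.χ 0) + v (B.χ 1) * v (B.χ 1) + v (B.χ 2) * v (B.χ 2) + v (B.χ 3) * v (B.χ 3)) +
      (v B.f0 * v B.f0 + v B.f0 * v B.f0) + ∑ η ∈ B.Z, v η * v η := by exact_mod_cast h
  simp only [Row.sq]
  linarith

theorem Principal.classOK (B : Principal G) (hG : Nat.card G = 95040) {g : G}
    {v : IrrCharacter G → ℤ} (hv : ∀ η : IrrCharacter G, (η : G → ℂ) g = (v η : ℂ)) :
    B.r.classOK (Nat.card (Subgroup.centralizer ({g} : Set G))) (v (B.χ 0)) (v (B.χ 1)) (v (B.χ 2))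
      (v (B.χ 3)) (v B.f0) = true := by
  have e : ∀ i, classInt (Nat.card (Subgroup.centralizer ({g} : Set G))) (B.r.ds i) (v (B.χ i)) = true :=
    fun i => B.deg i ▸ classInt_eq hG (B.χ i) g (hv _)
  simp only [Row.classOK, Bool.and_eq_true]
  exact ⟨⟨⟨⟨e 0, e 1⟩, e 2⟩, e 3⟩, B.degX.1 ▸ classInt_eq hG B.f0 g (hv _)⟩

/-- The weighted squares of integral values. -/
theorem Principal.quad_pairs (B : Principal G) (hG : Nat.card G = 95040) {a : G} (ha : orderOf a = 11)
    {g : G} (hg : ¬ 11 ∣ orderOf g) {v : IrrCharacter G → ℤ}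
    (hv : ∀ η : IrrCharacter G, (η : G → ℂ) g = (v η : ℂ)) :
    ((pairs g g {a}).card : ℤ) * Nat.card (Subgroup.centralizer ({g} : Set G)) *
        Nat.card (Subgroup.centralizer ({g} : Set G)) =
      B.r.quad (v (B.χ 0)) (v (B.χ 1)) (v (B.χ 2)) (v (B.χ 3)) (v B.f0) := by
  have h := B.pairs_eleven hG ha g g hg hg
  simp only [hv, Fin.sum_univ_four, Row.ds, Matrix.cons_val] at h
  have h' : ((pairs g g {a}).card : ℤ) * Nat.card (Subgroup.centralizer ({g} : Set G)) *
        Nat.card (Subgroup.centralizer ({g} : Set G)) =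
      95040 + (sgn B.r.d1 * (95040 / B.r.d1) * (v (B.χ 0) * v (B.χ 0)) +
        sgn B.r.d2 * (95040 / B.r.d2) * (v (B.χ 1) * v (B.χ 1)) +
        sgn B.r.d3 * (95040 / B.r.d3) * (v (B.χ 2) * v (B.χ 2)) +
        sgn B.r.d4 * (95040 / B.r.d4) * (v (B.χ 3) * v (B.χ 3))) +
        B.r.c * (95040 / B.r.x) * (v B.f0 * v B.f0) := by exact_mod_cast h
  rw [h', Row.quad]
  ring

/-- An element of order eleven centralises only its powers and normalises with index five. -/
theorem not_inverted (hG : Nat.card G = 95040) [Fact (Nat.Prime 11)]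
    (hE : ∀ P : Sylow 11 G, Nat.card (AbelianFrob.CP P) = 11 ∧ Nat.card (AbelianFrob.NP P) = 55)
    {x t : G} (hx : orderOf x = 11) (ht : orderOf t = 2) : t * x * t⁻¹ ≠ x⁻¹ := by
  intro h
  obtain ⟨P, hP, -⟩ := Small.exists_unique_sylow_mem hx fun P => card_sylow_eleven hG P
  have hz := Small.eq_zpowers_of_mem (card_sylow_eleven hG P) hP
    (fun e => by rw [e, orderOf_one] at hx; omega)
  have hmem : t ∈ Subgroup.normalizer (((P : Subgroup G)) : Set G) := by
    rw [hz, Subgroup.mem_normalizer_iff_map_conj_eq]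
    rw [MonoidHom.map_zpowers]
    show Subgroup.zpowers (t * x * t⁻¹) = _
    rw [h, Subgroup.zpowers_inv]
  have h2 := Subgroup.orderOf_dvd_natCard _ hmem
  rw [ht, (hE P).2] at h2
  norm_num at h2

/-- The second relation for an involution. -/
theorem Principal.quad_involution (B : Principal G) (hG : Nat.card G = 95040) [Fact (Nat.Prime 11)]
    (hE : ∀ P : Sylow 11 G, Nat.card (AbelianFrob.CP P) = 11 ∧ Nat.card (AbelianFrob.NP P) = 55)
    {t : G} (ht : orderOf t = 2) {v : IrrCharacter G → ℤ}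
    (hv : ∀ η : IrrCharacter G, (η : G → ℂ) t = (v η : ℂ)) :
    B.r.quad (v (B.χ 0)) (v (B.χ 1)) (v (B.χ 2)) (v (B.χ 3)) (v B.f0) = 0 := by
  classical
  let A : IrrCharacter G → ℤ := fun η => (if η = principalIrr G then 1 else 0) +
    ∑ i, (if η = B.χ i then sgn (B.r.ds i) else 0) + if η = B.f0 then B.r.c else 0
  have hA : ∀ F : IrrCharacter G → ℂ, ∑ η, (A η : ℂ) * F η =
      F (principalIrr G) + ∑ i, (sgn (B.r.ds i) : ℂ) * F (B.χ i) + (B.r.c : ℂ) * F B.f0 := by
    intro F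
    simp only [A, Int.cast_add, Int.cast_sum, add_mul, Finset.sum_add_distrib, Finset.sum_mul,
      Int.cast_ite, Int.cast_zero, Int.cast_one, ite_mul, one_mul, zero_mul]
    rw [Finset.sum_comm (s := Finset.univ) (t := (Finset.univ : Finset (Fin 4)))]
    simp [Finset.sum_ite_eq']
  have hreal : ∀ a b : G, IsConj t a → IsConj t b → (a * b) ^ 11 = 1 → a * b = 1 := by
    intro a b ha hb hab
    by_contra hne
    have ho : ∀ c : G, IsConj t c → orderOf c = 2 := fun c hc => by
      obtain ⟨u, hu⟩ := isConj_iff.1 hc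
      rw [← hu, ← ht]
      exact (SemiconjBy.orderOf_eq u (show SemiconjBy u t (u * t * u⁻¹) by simp [SemiconjBy])).symm
    have hinv : ∀ c : G, orderOf c = 2 → c⁻¹ = c := fun c hc =>
      inv_eq_of_mul_eq_one_right (by rw [← sq, ← hc, pow_orderOf_eq_one])
    refine not_inverted hG hE (orderOf_eq_prime hab hne) (ho a ha) ?_
    rw [mul_inv_rev, hinv a (ho a ha), hinv b (ho b hb)]
    calc a * (a * b) * a = (a * a) * b * a := by group
      _ = b * a := by rw [← sq, ← ho a ha, pow_orderOf_eq_one, one_mul]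
  have hvan : ∀ g : G, g = 1 ∨ g ^ 11 ≠ 1 → ∑ η, (A η : ℂ) * (η : G → ℂ) g = 0 := by
    intro g hg
    rw [hA fun η => (η : G → ℂ) g, principalIrr_apply]
    refine B.rel g fun h => ?_
    have h11 := B.singular g h
    rcases hg with rfl | hg
    · rw [orderOf_one] at h11; omega
    · exact hg (h11 ▸ pow_orderOf_eq_one g)
  have h := Sporadic.CharTools.sum_sq_div_eq_zero A hvan hreal
  rw [hA fun η => (η : G → ℂ) t ^ 2 / (η : G → ℂ) 1] at h
  have hq : ∀ (η : IrrCharacter G) (d : ℤ), (charDegree (η : G → ℂ) : ℤ) = d →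
      (95040 : ℂ) * ((η : G → ℂ) t ^ 2 / (η : G → ℂ) 1) = ((v η * v η * (95040 / d) : ℤ) : ℂ) := by
    intro η d hd
    rw [← cof_eq hG η hd, Int.cast_mul, Int.cast_natCast, ← card_div_degree η, hG, hv]
    push_cast
    ring
  have h' := congrArg (fun c : ℂ => 95040 * c) h
  simp only [mul_add, Finset.mul_sum, mul_zero, mul_left_comm (95040 : ℂ)] at h'
  rw [hq _ 1 (by simp [principalIrr, charDegree]), val_principal hv,
    Finset.sum_congr rfl (fun i _ => by rw [hq _ _ (B.deg i)] :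
      ∀ i ∈ (Finset.univ : Finset (Fin 4)),
        (sgn (B.r.ds i) : ℂ) * ((95040 : ℂ) * ((B.χ i : G → ℂ) t ^ 2 / (B.χ i : G → ℂ) 1)) =
        (sgn (B.r.ds i) : ℂ) * ((v (B.χ i) * v (B.χ i) * (95040 / B.r.ds i) : ℤ) : ℂ)),
    hq _ _ B.degX.1, Fin.sum_univ_four] at h'
  simp only [Row.ds, Matrix.cons_val] at h'
  have h'' : (1 * 1 * (95040 / 1) : ℤ) + (sgn B.r.d1 * (v (B.χ 0) * v (B.χ 0) * (95040 / B.r.d1)) +
      sgn B.r.d2 * (v (B.χ 1) * v (B.χ 1) * (95040 / B.r.d2)) +
      sgn B.r.d3 * (v (B.χ 2) * v (B.χ 2) * (95040 / B.r.d3)) +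
      sgn B.r.d4 * (v (B.χ 3) * v (B.χ 3) * (95040 / B.r.d4))) +
      B.r.c * (v B.f0 * v B.f0 * (95040 / B.r.x)) = 0 := by exact_mod_cast h'
  simp only [Row.quad]
  norm_num at h''
  linarith

/-- Pairs from one class with product of order eleven come in orbits of length eleven. -/
theorem eleven_dvd_pairs (hG : Nat.card G = 95040) [Fact (Nat.Prime 11)]
    (hE : ∀ P : Sylow 11 G, Nat.card (AbelianFrob.CP P) = 11 ∧ Nat.card (AbelianFrob.NP P) = 55)
    {a g : G} (ha : orderOf a = 11) (hg : orderOf g = 5) : 11 ∣ (pairs g g {a}).card := by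
  classical
  let S := {z : G × G // z ∈ pairs g g {a}}
  have hmem : ∀ z : G × G, z ∈ pairs g g {a} ↔ IsConj g z.1 ∧ IsConj g z.2 ∧ z.1 * z.2 = a := by
    intro z
    simp [pairs, mem_cls, and_assoc]
  have hcj : ∀ (c : G) (w : G), IsConj g w → IsConj g (c * w * c⁻¹) := fun c w h =>
    h.trans (isConj_iff.2 ⟨c, rfl⟩)
  let f : G → S → G × G := fun c z => (c * z.1.1 * c⁻¹, c * z.1.2 * c⁻¹)
  have hf : ∀ (c : G), c * a * c⁻¹ = a → ∀ z : S, f c z ∈ pairs g g {a} := by
    intro c hc z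
    obtain ⟨h1, h2, h3⟩ := (hmem _).1 z.2
    refine (hmem _).2 ⟨hcj c _ h1, hcj c _ h2, ?_⟩
    show c * z.1.1 * c⁻¹ * (c * z.1.2 * c⁻¹) = a
    calc c * z.1.1 * c⁻¹ * (c * z.1.2 * c⁻¹) = c * (z.1.1 * z.1.2) * c⁻¹ := by group
      _ = a := by rw [h3, hc]
  let σ : Equiv.Perm S :=
    { toFun := fun z => ⟨f a z, hf a (by group) z⟩
      invFun := fun z => ⟨f a⁻¹ z, hf a⁻¹ (by group) z⟩
      left_inv := fun z => Subtype.ext (Prod.ext (by simp [f, mul_assoc]) (by simp [f, mul_assoc]))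
      right_inv := fun z => Subtype.ext (Prod.ext (by simp [f, mul_assoc]) (by simp [f, mul_assoc])) }
  have hpow : ∀ (n : ℕ) (z : S), ((σ ^ n) z).1 = f (a ^ n) z := by
    intro n
    induction n with
    | zero => intro z; simp [f]
    | succ n ih =>
      intro z
      rw [pow_succ', Equiv.Perm.mul_apply]
      show f a ((σ ^ n) z) = _
      simp only [f, ih z, pow_succ', mul_inv_rev]
      exact Prod.ext (by group) (by group)
  have h11 : σ ^ 11 ^ 1 = 1 := by
    refine Equiv.ext fun z => Subtype.ext ?_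
    rw [hpow, pow_one, ← ha, pow_orderOf_eq_one]
    simp [f]
  have hfix : σ.supportᶜ = (∅ : Finset S) := by
    rw [Finset.eq_empty_iff_forall_notMem]
    intro z hz
    rw [Finset.mem_compl, Equiv.Perm.mem_support, not_not] at hz
    have h := congrArg (fun z : S => z.1.1) hz
    change a * z.1.1 * a⁻¹ = z.1.1 at h
    obtain ⟨h1, -, -⟩ := (hmem _).1 z.2
    obtain ⟨P, hP, -⟩ := Small.exists_unique_sylow_mem ha fun P => card_sylow_eleven hG P
    have hc : z.1.1 ∈ Subgroup.centralizer ({a} : Set G) :=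
      Subgroup.mem_centralizer_singleton_iff.2 (mul_inv_eq_iff_eq_mul.1 h).symm
    rw [Order7920.centralizer_singleton_eq P (card_sylow_eleven hG P) hP
      (fun e => by rw [e, orderOf_one] at ha; omega)] at hc
    have h2 := Subgroup.orderOf_dvd_natCard _ hc
    obtain ⟨u, hu⟩ := isConj_iff.1 h1
    rw [(hE P).1, ← hu, ← SemiconjBy.orderOf_eq u (show SemiconjBy u g (u * g * u⁻¹) by simp [SemiconjBy]),
      hg] at h2
    norm_num at h2
  have h := Equiv.Perm.card_compl_support_modEq h11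
  rw [hfix, Finset.card_empty, Fintype.card_coe] at h
  exact Nat.modEq_zero_iff_dvd.1 h.symm

end CfsgLib.MathieuTwelve
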