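import Cfsg.Agent.Lib.MathieuTwelve.ElevenLocal
import Cfsg.Agent.Lib.MathieuTwelve.Values
import Cfsg.Agent.Lib.MathieuTwelve.Local

/-!
# Sylow 11-normalisers inverting the Sylow subgroup in simple groups of order dividing 95040
-/

set_option autoImplicit false
set_option linter.style.haveILetI false
set_option linter.unusedSectionVars false
set_option synthInstance.maxSize 2000
open Cfsg CfsgLib.Characters CfsgLib.CharCorr CfsgLib.ClassCount
open scoped ComplexConjugate

namespace CfsgLib.MathieuTwelve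

theorem two_degrees : ∀ D : ℕ, D < 138 → D ∣ 95040 → 1 < D → (D % 11 = 2 ∨ D % 11 = 9) →
    ∀ X ∈ [D - 1, D + 1], 1 < X → X ∣ 95040 → (X % 11 = 1 ∨ X % 11 = 10) → X = 10 := by
  decide +kernel

/-- The possible degrees with a nonzero value at an element of order eleven. -/
def tenTypes : List (ℕ × ℤ) := [(12, 1), (20, -2), (24, 2), (32, -1), (36, 3), (45, 1), (80, 3), (90, 2),
  (96, -3), (120, -1)]

theorem tenTypes_table_aux : ∀ X ∈ List.range 126, ∀ k ∈ List.range 7, X ∣ 15840 → 1 < X →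
    (decide (((k : ℤ) - 3) ≠ 0) && decide (((X : ℤ) - ((k : ℤ) - 3)) % 11 = 0) &&
      decide (0 ≤ ((X : ℤ) + 10 * ((k : ℤ) - 3))) && decide ((k : ℤ) - 3 < X) &&
      decide (((X : ℤ) + 10 * ((k : ℤ) - 3) = 0 → X % 4 = 0))) = true →
    tenTypes.contains (X, (k : ℤ) - 3) = true := by decide +kernel

theorem tenTypes_table (X : ℕ) (hX : X < 126) (h1 : X ∣ 15840) (h2 : 1 < X) (k : Fin 7)
    (h3 : ((k : ℤ) - 3) ≠ 0) (h4 : ((X : ℤ) - ((k : ℤ) - 3)) % 11 = 0)
    (h5 : 0 ≤ ((X : ℤ) + 10 * ((k : ℤ) - 3)))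
    (h6 : (X : ℤ) + 10 * ((k : ℤ) - 3) = 0 → X % 4 = 0) (h7 : (k : ℤ) - 3 < X) :
    (X, (k : ℤ) - 3) ∈ tenTypes :=
  List.contains_iff_mem.1 (tenTypes_table_aux X (List.mem_range.2 hX) k (List.mem_range.2 k.2) h1 h2
    (by simp only [Bool.and_eq_true, decide_eq_true_eq]; exact ⟨⟨⟨⟨h3, h4⟩, h5⟩, h7⟩, h6⟩))

/-- Multiplicities of the possible degrees when the normaliser of a Sylow 11-subgroup has order 110. -/
theorem ten_types {a b c d e f g h i j : ℕ}
    (hw : a + 4 * b + 4 * c + d + 9 * e + f + 9 * g + 4 * h + 9 * i + j = 10)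
    (hs : (12 * a - 40 * b + 48 * c - 32 * d + 108 * e + 45 * f + 240 * g + 180 * h - 288 * i - 120 * j : ℤ) = -1)
    (hq : 144 * a + 400 * b + 576 * c + 1024 * d + 1296 * e + 2025 * f + 6400 * g + 8100 * h + 9216 * i + 14400 * j < 15840) :
    c = 0 ∧ e = 0 ∧ f = 3 ∧ g = 0 ∧ h = 0 ∧ i = 0 ∧ j = 0 := by
  omega

universe u

variable {G : Type u} [Group G] [Fintype G]

/-- An involution normalising `A` acts on the fixed points of `A` with trace at most their dimension. -/
theorem value_coset_le {A : Subgroup G} [Fintype A] (χ : IrrCharacter G) {z : G} (hz : orderOf z = 2)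
    (hA : ∀ y : A, z * (y : G) * z⁻¹ ∈ A) {v : ℤ} (hv : ∀ y : A, (χ : G → ℂ) (z * y) = (v : ℂ)) {l : ℤ}
    (hl : ∑ y : A, (χ : G → ℂ) y = (Nat.card A : ℂ) * (l : ℂ)) : |v| ≤ l := by
  classical
  obtain ⟨n, ρ, hρ, hχ⟩ := χ.2
  have hzz : z * z = 1 := by rw [← sq, ← hz, pow_orderOf_eq_one]
  set E : Module.End ℂ (Fin n → ℂ) := ∑ y : A, ρ (y : G) with hE
  have hmul : ∀ a : A, ρ (a : G) * E = E := fun a => by
    rw [hE, Finset.mul_sum]
    refine Fintype.sum_equiv (Equiv.mulLeft a) _ _ fun y => ?_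
    simp only [Equiv.coe_mulLeft, ← map_mul ρ, Subgroup.coe_mul]
  have hEE : E * E = (Nat.card A : ℂ) • E := by
    conv_lhs => arg 1; rw [hE]
    rw [Finset.sum_mul, Finset.sum_congr rfl (fun y _ => hmul y), Finset.sum_const, Finset.card_univ,
      ← Nat.card_eq_fintype_card, Nat.cast_smul_eq_nsmul]
  have hinv : z⁻¹ = z := inv_eq_of_mul_eq_one_right hzz
  have hcomm : ρ z * E = E * ρ z := by
    rw [hE, Finset.mul_sum, Finset.sum_mul]
    refine Fintype.sum_equiv ⟨fun y => ⟨z * y * z⁻¹, hA y⟩, fun y => ⟨z * y * z⁻¹, hA y⟩, fun y =>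
      Subtype.ext ?_, fun y => Subtype.ext ?_⟩ _ _ fun y => ?_
    · show z * (z * y * z⁻¹) * z⁻¹ = y
      rw [hinv, mul_assoc, mul_assoc, hzz, mul_one, ← mul_assoc, hzz, one_mul]
    · show z * (z * y * z⁻¹) * z⁻¹ = y
      rw [hinv, mul_assoc, mul_assoc, hzz, mul_one, ← mul_assoc, hzz, one_mul]
    · show ρ z * ρ (y : G) = ρ (z * (y : G) * z⁻¹) * ρ z
      rw [← map_mul, ← map_mul, inv_mul_cancel_right]
  have hA0 : (Nat.card A : ℂ) ≠ 0 := by simp
  set Q : Module.End ℂ (Fin n → ℂ) := (Nat.card A : ℂ)⁻¹ • E with hQ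
  have hQQ : Q * Q = Q := by
    rw [hQ, smul_mul_smul_comm, hEE, smul_smul, mul_assoc, inv_mul_cancel₀ hA0, mul_one]
  have hQz : ρ z * Q = Q * ρ z := by rw [hQ, mul_smul_comm, hcomm, smul_mul_assoc]
  have hz2 : ρ z * ρ z = 1 := by rw [← map_mul, hzz, map_one]
  have tr1 : LinearMap.trace ℂ _ Q = (l : ℂ) := by
    rw [hQ, map_smul, hE, map_sum, smul_eq_mul]
    rw [show ∑ y : A, LinearMap.trace ℂ _ (ρ (y : G)) = ∑ y : A, (χ : G → ℂ) y from
      Finset.sum_congr rfl fun y _ => by rw [← hχ]; rfl, hl, ← mul_assoc, inv_mul_cancel₀ hA0, one_mul]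
  have tr2 : LinearMap.trace ℂ _ (ρ z * Q) = (v : ℂ) := by
    rw [hQ, mul_smul_comm, map_smul, hE, Finset.mul_sum, map_sum, smul_eq_mul]
    rw [show ∑ y : A, LinearMap.trace ℂ _ (ρ z * ρ (y : G)) = ∑ y : A, (v : ℂ) from
      Finset.sum_congr rfl fun y _ => by rw [← hv y, ← map_mul, ← hχ]; rfl, Finset.sum_const,
      Finset.card_univ, ← Nat.card_eq_fintype_card, nsmul_eq_mul, ← mul_assoc, inv_mul_cancel₀ hA0, one_mul]
  clear_value Q
  have key : ∀ s : ℂ, s * s = 1 → ∃ k : ℕ, (l : ℂ) + s * (v : ℂ) = ((2 * k : ℤ) : ℂ) := by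
    intro s hs
    set R : Module.End ℂ (Fin n → ℂ) := (1 / 2 : ℂ) • (Q + s • (ρ z * Q)) with hR
    have h4 : (ρ z * Q) * (ρ z * Q) = Q := by
      rw [mul_assoc, ← mul_assoc Q, ← hQz, mul_assoc (ρ z) Q Q, hQQ, ← mul_assoc, hz2, one_mul]
    have h5 : Q * (ρ z * Q) = ρ z * Q := by rw [← mul_assoc, ← hQz, mul_assoc, hQQ]
    have h6 : (ρ z * Q) * Q = ρ z * Q := by rw [mul_assoc, hQQ]
    have hRR : IsIdempotentElem R := by
      show R * R = R
      have h8 : (Q + s • (ρ z * Q)) * (Q + s • (ρ z * Q)) = (2 : ℂ) • (Q + s • (ρ z * Q)) := by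
        simp only [add_mul, mul_add, smul_mul_assoc, mul_smul_comm, smul_add, hQQ, h4, h5, h6, smul_smul, hs,
          one_smul]
        module
      rw [hR, smul_mul_smul_comm, h8, smul_smul]
      norm_num
    refine ⟨Module.finrank ℂ (LinearMap.range R), ?_⟩
    have h := (LinearMap.IsIdempotentElem.isProj_range R hRR).trace
    rw [hR, map_smul, map_add, map_smul, tr1, tr2, smul_eq_mul, smul_eq_mul, ← hR] at h
    push_cast
    linear_combination 2 * h
  obtain ⟨k, hk⟩ := key 1 (one_mul 1)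
  obtain ⟨m, hm⟩ := key (-1) (by norm_num)
  have h1 : l + v = 2 * (k : ℤ) := by simp only [one_mul] at hk; exact_mod_cast hk
  have h2 : l - v = 2 * (m : ℤ) := by
    have : ((l - v : ℤ) : ℂ) = ((2 * (m : ℤ) : ℤ) : ℂ) := by push_cast at hm ⊢; linear_combination hm
    exact_mod_cast this
  rw [abs_le]
  omega

variable [IsSimpleGroup G] [Fact (Nat.Prime 11)] (P : Sylow 11 G)

/-- An involution inverting a self-centralising Sylow 11-subgroup. -/
theorem exists_inverting (hP : Nat.card (P : Subgroup G) = 11)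
    (hC : Nat.card (AbelianFrob.CP P) = 11) (h2 : 2 ∣ Nat.card (AbelianFrob.NP P)) :
    ∃ z : G, orderOf z = 2 ∧ (∀ y : (P : Subgroup G), z * (y : G) * z⁻¹ = (y : G)⁻¹) ∧
      ∀ y : (P : Subgroup G), ∃ w : G, w * z * w⁻¹ = z * (y : G) := by
  haveI : Fact (Nat.Prime 2) := ⟨Nat.prime_two⟩
  obtain ⟨z', hz'⟩ := exists_prime_orderOf_dvd_card' (G := AbelianFrob.NP P) 2 h2
  rw [← Subgroup.orderOf_coe] at hz'
  obtain ⟨a, ha⟩ := exists_prime_orderOf_dvd_card' (G := (P : Subgroup G)) 11 hP.symm.dvd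
  rw [← Subgroup.orderOf_coe] at ha
  have ha1 : (a : G) ≠ 1 := fun e => by rw [e, orderOf_one] at ha; omega
  have hgen := Small.eq_zpowers_of_mem hP a.2 ha1
  set z := (z' : G) with hzdef
  have hzz : z * z = 1 := by rw [← sq, ← hz', pow_orderOf_eq_one]
  have hza : z * (a : G) * z⁻¹ ∈ Subgroup.zpowers (a : G) :=
    hgen.le ((Subgroup.mem_normalizer_iff.1 z'.2 a).1 a.2)
  rw [Subgroup.mem_zpowers_iff] at hza
  obtain ⟨s, hs⟩ := hza
  have hconj : ∀ i : ℤ, z * (a : G) ^ i * z⁻¹ = (a : G) ^ (s * i) := fun i => by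
    rw [← conj_zpow, ← hs, zpow_mul]
  have hss : (a : G) ^ (s * s) = a := by
    rw [← hconj s, hs]
    have hinv : z⁻¹ = z := inv_eq_of_mul_eq_one_right hzz
    rw [hinv, mul_assoc, mul_assoc, hzz, mul_one, ← mul_assoc, hzz, one_mul]
  have hmod : (11 : ℤ) ∣ s * s - 1 := by
    have : (a : G) ^ (s * s - 1) = 1 := by rw [zpow_sub_one, hss, mul_inv_cancel]
    rw [← orderOf_dvd_iff_zpow_eq_one, ha] at this
    exact_mod_cast this
  have hneg : (11 : ℤ) ∣ s + 1 := by
    rcases (Nat.prime_iff_prime_int.1 (by norm_num : Nat.Prime 11)).dvd_or_dvd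
      (show (11 : ℤ) ∣ (s - 1) * (s + 1) by rw [show (s - 1) * (s + 1) = s * s - 1 by ring]; exact hmod)
      with h | h
    · exfalso
      have he : (a : G) ^ s = a := by
        have : (a : G) ^ (s - 1) = 1 := by
          rw [← orderOf_dvd_iff_zpow_eq_one, ha]; exact_mod_cast h
        rw [zpow_sub_one, mul_inv_eq_one] at this
        exact this
      rw [he] at hs
      have hmem : z ∈ Subgroup.centralizer ({(a : G)} : Set G) :=
        Subgroup.mem_centralizer_singleton_iff.2 (mul_inv_eq_iff_eq_mul.1 hs.symm)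
      rw [Order7920.centralizer_singleton_eq P hP a.2 ha1] at hmem
      have := Subgroup.orderOf_dvd_natCard _ hmem
      rw [hz', hC] at this
      norm_num at this
    · exact h
  have hall : ∀ y : (P : Subgroup G), z * (y : G) * z⁻¹ = (y : G)⁻¹ := by
    intro y
    obtain ⟨i, hi⟩ := Subgroup.mem_zpowers_iff.1 (hgen.le y.2)
    rw [← hi, hconj, ← zpow_neg, eq_comm, ← mul_inv_eq_one, ← zpow_neg, ← zpow_add,
      ← orderOf_dvd_iff_zpow_eq_one, ha]
    obtain ⟨t, ht⟩ := hneg
    exact ⟨-(t * i), by linear_combination (-i) * ht⟩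
  refine ⟨z, hz', hall, fun y => ?_⟩
  refine ⟨((y : G) ^ 5), ?_⟩
  have hy11 : (y : G) ^ 11 = 1 := by
    have h := congrArg Subtype.val (pow_card_eq_one' (x := y))
    rw [hP] at h
    exact h
  have h5 := hall ((y : (P : Subgroup G)) ^ 5)
  rw [SubmonoidClass.coe_pow] at h5
  calc (y : G) ^ 5 * z * ((y : G) ^ 5)⁻¹
      = z * ((z⁻¹ * (y : G) ^ 5 * z) * ((y : G) ^ 5)⁻¹) := by group
    _ = z * (((y : G) ^ 5)⁻¹ * ((y : G) ^ 5)⁻¹) := by
        rw [← h5]
        have hinv : z⁻¹ = z := inv_eq_of_mul_eq_one_right hzz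
        simp only [hinv]
    _ = z * (y : G) := by
        rw [← mul_inv_rev, ← pow_add, inv_eq_of_mul_eq_one_left (a := (y : G))]
        rw [← pow_succ', hy11]

/-- An irreducible character of degree ten with value `-1` on the Sylow subgroup is impossible. -/
theorem no_degree_ten (hnc : ¬ IsMulCommutative G) (hP : Nat.card (P : Subgroup G) = 11)
    (hC : Nat.card (AbelianFrob.CP P) = 11) (h2 : 2 ∣ Nat.card (AbelianFrob.NP P))
    {χ : IrrCharacter G} (hd : charDegree (χ : G → ℂ) = 10)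
    (hv : ∀ y : (P : Subgroup G), (y : G) ≠ 1 → (χ : G → ℂ) y = -1) : False := by
  classical
  obtain ⟨z, hz, hinv, hconj⟩ := exists_inverting P hP hC h2
  have hne : χ ≠ principalIrr G := fun e => by rw [e] at hd; simp [principalIrr, charDegree] at hd
  obtain ⟨v, hvz, hv4, -⟩ := Small.Order4320.value_involution hnc hne hz (irr_one_eq_charDegree χ)
  rw [hd] at hv4
  have h := value_coset_le (A := (P : Subgroup G)) χ hz
    (fun y => by rw [hinv y]; exact (P : Subgroup G).inv_mem y.2)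
    (fun y => by
      obtain ⟨w, hw⟩ := hconj y
      rw [← hw, irr_isClassFunction χ z w, hvz]) (l := 0) (by
      rw [← Finset.add_sum_erase _ _ (Finset.mem_univ (1 : (P : Subgroup G))),
        Finset.sum_congr rfl ((fun y hy => hv y fun e => (Finset.mem_erase.1 hy).1 (Subtype.ext e)) :
          ∀ y ∈ Finset.univ.erase (1 : (P : Subgroup G)), (χ : G → ℂ) (y : G) = -1),
        Finset.sum_const, Finset.card_erase_of_mem (Finset.mem_univ _), Finset.card_univ,
        ← Nat.card_eq_fintype_card, hP, OneMemClass.coe_one, irr_one_eq_charDegree, hd]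
      norm_num)
  rw [abs_le] at h
  omega

/-- The normaliser of a Sylow 11-subgroup does not induce a group of order two on it. -/
theorem relIndex_ne_two (hdiv : Nat.card G ∣ 95040) (hP : Nat.card (P : Subgroup G) = 11)
    (hnc : ¬ IsMulCommutative G) (he : (AbelianFrob.CP P).relIndex (AbelianFrob.NP P) = 2) : False := by
  classical
  obtain ⟨M, hM⟩ := CfsgLib.Blocks.exists_isPModular (p := 11)
  have hab := Order7920.isMulCommutative_sylow P hP
  have hfrob := Order7920.fpf P hP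
  set m := (AbelianFrob.CP P).relIndex (AbelianFrob.NP P) with hm
  have hm' : m + 1 < Nat.card (P : Subgroup G) := by rw [hP, he]; norm_num
  obtain ⟨μ, A, d, δ, S⟩ := AbelianFrob.exists_struct P hab hfrob hM hm'
  obtain ⟨hpr, hA1⟩ := S.principal_mem_rest hab hfrob hM hm'
  obtain ⟨ψ₀, hψ₀⟩ : ∃ ψ : AbelianFrob.Dual P, ψ ≠ 1 := by
    obtain ⟨χ, hχ⟩ := Finset.card_pos.1 (lt_of_lt_of_le Nat.two_pos
      (S.two_le_card_exc hab hfrob hm'))
    obtain ⟨ψ, hψ, -⟩ := S.mem_exc.1 hχ
    exact ⟨ψ, hψ⟩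
  have hexc := S.card_exc_mul hab hfrob
  rw [hP, ← hm, he] at hexc
  have ht : S.exc.card = 5 := by omega
  have h11 : ¬ 11 ∣ orderOf (1 : G) := by rw [orderOf_one]; norm_num
  set D := charDegree (μ ψ₀ : G → ℂ) with hD
  have hdegE : ∀ χ ∈ S.exc, charDegree (χ : G → ℂ) = D := by
    intro χ hχ
    obtain ⟨ψ, hψ, rfl⟩ := S.mem_exc.1 hχ
    have := S.regular_eq hM hψ hψ₀ h11
    rw [irr_one_eq_charDegree, irr_one_eq_charDegree] at this
    exact_mod_cast this
  have hdvd : ∀ χ : IrrCharacter G, charDegree (χ : G → ℂ) ∣ 95040 := fun χ =>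
    (ClassCount.degree_eq χ).2.1.trans hdiv
  have hgt : ∀ χ : IrrCharacter G, χ ≠ principalIrr G → 1 < charDegree (χ : G → ℂ) := by
    intro χ hχ
    have h1 : charDegree (χ : G → ℂ) ≠ 1 := fun h =>
      hχ (Order7920.eq_principal_of_charDegree_one hnc h)
    have := (ClassCount.degree_eq χ).2.2
    omega
  have hexmem : μ ψ₀ ∈ S.exc := S.mem_exc.2 ⟨ψ₀, hψ₀, rfl⟩
  have hprne : μ ψ₀ ≠ principalIrr G := fun h => (S.mem_rest.1 hpr).2 (h ▸ hexmem)
  set R := S.rest.erase (principalIrr G) with hR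
  have hnorm := S.norm_eq hab hfrob hM hψ₀
  rw [← Finset.add_sum_erase _ _ hpr, hA1, ← hm, ← hR, he, ht] at hnorm
  push_cast at hnorm
  have hd0 : d = 0 := by
    by_contra h
    have h1 := sq_pos_of_ne_zero h
    nlinarith [sq_nonneg (d - δ), Finset.sum_nonneg (fun χ (_ : χ ∈ R) => sq_nonneg (A χ))]
  subst hd0
  have hsum1 : ∑ χ ∈ R, A χ ^ 2 = 1 := by linear_combination hnorm - S.delta_sq
  obtain ⟨χ, hχ⟩ : ∃ χ, R = {χ} := by
    refine Finset.card_eq_one.1 (le_antisymm ?_ (Finset.card_pos.2 (Finset.nonempty_of_sum_ne_zero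
      (hsum1 ▸ one_ne_zero))))
    have : (R.card : ℤ) ≤ ∑ χ ∈ R, A χ ^ 2 := by
      rw [Finset.card_eq_sum_ones, Nat.cast_sum]
      refine Finset.sum_le_sum fun χ h => ?_
      have := sq_pos_of_ne_zero (S.A_ne_zero hab hfrob hM (by omega) (Finset.mem_erase.1 h).2)
      push_cast
      omega
    omega
  have hχR : χ ∈ R := by rw [hχ]; exact Finset.mem_singleton_self χ
  obtain ⟨hχne, hχr⟩ := Finset.mem_erase.1 hχR
  rw [hχ, Finset.sum_singleton] at hsum1
  have hA := sq_eq_one_iff.1 hsum1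
  set X := charDegree (χ : G → ℂ) with hX
  have hXm : (11 : ℤ) ∣ (X : ℤ) - A χ := by
    obtain ⟨b, k, -, -, hk, -, hF, -, -⟩ :=
      Order7920.bcoef_sum_formulas P hP hM S (S.mem_rest.1 hχr).1
    exact ⟨b - A χ, by rw [hF, hk hχr]; push_cast; ring⟩
  have hDm : (11 : ℤ) ∣ (D : ℤ) - 2 * δ := by
    obtain ⟨b, k, -, -, -, hk, hF, -, -⟩ := Order7920.bcoef_sum_formulas P hP hM S (S.mem ψ₀ hψ₀)
    obtain ⟨h1, h2⟩ := hk hexmem
    exact ⟨b, by rw [← hD] at hF; rw [hF, h1, h2, ← hm, he]; push_cast; ring⟩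
  have hrel : -δ * (D : ℤ) + (1 + A χ * X) = 0 := by
    have h := S.regular_rel hM hψ₀ h11
    rw [← Finset.add_sum_erase _ _ hpr, hA1, ← hR, hχ, Finset.sum_singleton, principalIrr_apply,
      irr_one_eq_charDegree (μ ψ₀), irr_one_eq_charDegree χ, Int.cast_one, one_mul, Int.cast_zero,
      mul_zero, zero_sub] at h
    exact_mod_cast h
  have hD1 := hgt _ hprne
  have hX1 := hgt χ hχne
  rw [← hD] at hD1
  rw [← hX] at hX1
  have hn : Nat.card G ≤ 95040 := Nat.le_of_dvd (by norm_num) hdiv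
  have hDlt : D < 138 := by
    have h := Finset.sum_le_sum_of_subset (f := fun η : IrrCharacter G => charDegree (η : G → ℂ) ^ 2)
      (Finset.subset_univ S.exc)
    rw [Chars17.natSum_sq_degrees, Finset.sum_congr rfl ((fun χ hχ => by rw [hdegE χ hχ]) :
      ∀ χ ∈ S.exc, charDegree (χ : G → ℂ) ^ 2 = D ^ 2), Finset.sum_const, smul_eq_mul, ht] at h
    by_contra hle
    have : 138 * 138 ≤ D ^ 2 := by rw [sq]; exact Nat.mul_le_mul (not_lt.1 hle) (not_lt.1 hle)
    omega
  have hDX : (D % 11 = 2 ∨ D % 11 = 9) ∧ (X % 11 = 1 ∨ X % 11 = 10) ∧ (X = D - 1 ∨ X = D + 1) := by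
    rcases S.sign with e | e <;> rcases hA with e' | e' <;>
      rw [e] at hDm hrel <;> rw [e'] at hXm hrel <;> omega
  have h10 : X = 10 := two_degrees D hDlt (hdvd _) hD1 hDX.1 X
    (by rcases hDX.2.2 with e | e <;> simp [e]) hX1 (hdvd _) hDX.2.1
  have hA' : A χ = -1 := by rcases hA with e | e <;> rw [e, h10] at hXm <;> omega
  by_cases hC : Nat.card (AbelianFrob.CP P) = 11
  · refine no_degree_ten P hnc hP hC ?_ (χ := χ) (hX ▸ h10) fun y hy => ?_
    · have h := Small.card_centralizer_mul_relIndex (P : Subgroup G)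
      change Nat.card (AbelianFrob.CP P) * m = Nat.card (AbelianFrob.NP P) at h
      exact ⟨11, by rw [← h, hC, he]⟩
    · rw [S.value_rest hab hfrob hM hχr (AbelianFrob.isPPart_self P hM.1 y.2) y.2 hy, hA']
      norm_num
  · have := Order7920.le_charDegree_of_centralizer P hP hM hC (S.mem_rest.1 hχr).1 hχne
    omega

open scoped Classical in
/-- No simple group of order 15840 has a self-centralising Sylow 11-subgroup with normaliser of order
110. -/
theorem card_ne_15840 (hG : Nat.card G = 15840) (hC : Nat.card (AbelianFrob.CP P) = 11)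
    (hN : Nat.card (AbelianFrob.NP P) = 110) : False := by
  have hnc : ¬ IsMulCommutative G := Small.nc_of_not_prime (by rw [hG]; norm_num)
  have hP : Nat.card (P : Subgroup G) = 11 :=
    (Small.card_sylow_of_card_eq (k := 1) (m := 1440) (by rw [hG]; norm_num) (by norm_num) P).trans
      (pow_one 11)
  obtain ⟨z, hz, hinv, hconj⟩ := exists_inverting P hP hC (by rw [hN]; norm_num)
  obtain ⟨a, ha⟩ := exists_prime_orderOf_dvd_card' (G := (P : Subgroup G)) 11 hP.symm.dvd
  rw [← Subgroup.orderOf_coe] at ha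
  have ha1 : (a : G) ≠ 1 := fun e => by rw [e, orderOf_one] at ha; omega
  have hgen := Small.eq_zpowers_of_mem hP a.2 ha1
  have hCa : Subgroup.centralizer ({(a : G)} : Set G) = AbelianFrob.CP P :=
    Order7920.centralizer_singleton_eq P hP a.2 ha1
  have hall : ∀ x ∈ Subgroup.zpowers (a : G), x ≠ 1 → IsConj (a : G) x := by
    intro x hx hx1
    obtain ⟨n, -, hn⟩ := conj_of_card (p := 11) (P : Subgroup G) (AbelianFrob.NP P) hP le_rfl a.2 ha1
      (by
        rw [hN]
        have h := Nat.le_of_dvd Nat.card_pos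
          (Subgroup.card_dvd_of_le (inf_le_right : AbelianFrob.NP P ⊓ Subgroup.centralizer ({(a : G)} : Set G) ≤ _))
        rw [hCa] at h ⊢
        rw [hC] at h
        omega) x (hgen.ge hx) hx1
    exact isConj_iff.2 ⟨n, hn⟩
  choose A hA hAm0 using fun η : IrrCharacter G => Sporadic.CharTools.exists_int_of_rational
    (irr_isCharacter η) (irr_one_eq_charDegree η) (p := 11) ha hall
  obtain ⟨v, hv, hv4, -⟩ : ∃ v : IrrCharacter G → ℤ, (∀ η : IrrCharacter G, (η : G → ℂ) z = (v η : ℂ)) ∧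
      (∀ η : IrrCharacter G, (v η - charDegree (η : G → ℂ)) % 4 = 0) ∧ True := by
    have hex : ∀ η : IrrCharacter G, ∃ v : ℤ, (η : G → ℂ) z = (v : ℂ) ∧
        (v - charDegree (η : G → ℂ)) % 4 = 0 := by
      intro η
      by_cases hη : η = principalIrr G
      · subst hη
        exact ⟨1, by simp [principalIrr], by simp [principalIrr, charDegree]⟩
      · obtain ⟨v, h1, h2, -⟩ := Small.Order4320.value_involution hnc hη hz (irr_one_eq_charDegree η)
        exact ⟨v, h1, by omega⟩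
    choose v h1 h2 using hex
    exact ⟨v, h1, h2, trivial⟩
  set D : IrrCharacter G → ℕ := fun η => charDegree (η : G → ℂ) with hD
  have hvb : ∀ η : IrrCharacter G, ∃ l : ℤ, (D η : ℤ) + 10 * A η = 11 * l ∧ |v η| ≤ l := by
    intro η
    obtain ⟨l, hl⟩ := Sporadic.CharTools.exists_nat_sum (irr_isCharacter η) (P : Subgroup G).subtype
    have hsum : ∑ y : (P : Subgroup G), (η : G → ℂ) y = (D η : ℂ) + 10 * (A η : ℂ) := by
      rw [← Finset.add_sum_erase _ _ (Finset.mem_univ (1 : (P : Subgroup G))),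
        Finset.sum_congr rfl ((fun y hy => by
          obtain ⟨c, hc⟩ := isConj_iff.1 (hall y (hgen.le y.2) fun e => (Finset.mem_erase.1 hy).1 (Subtype.ext e))
          rw [← hc, irr_isClassFunction η a c, hA]) :
          ∀ y ∈ Finset.univ.erase (1 : (P : Subgroup G)), (η : G → ℂ) (y : G) = (A η : ℂ)),
        Finset.sum_const, Finset.card_erase_of_mem (Finset.mem_univ _), Finset.card_univ,
        ← Nat.card_eq_fintype_card, hP, OneMemClass.coe_one, irr_one_eq_charDegree, nsmul_eq_mul]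
      norm_num [hD]
    have h := hl
    simp only [Subgroup.coe_subtype] at h
    rw [hsum, hP] at h
    refine ⟨l, by exact_mod_cast h, ?_⟩
    refine value_coset_le (A := (P : Subgroup G)) η hz (fun y => by rw [hinv y]; exact (P : Subgroup G).inv_mem y.2)
      (fun y => by
        obtain ⟨w, hw⟩ := hconj y
        rw [← hw, irr_isClassFunction η z w, hv]) ?_
    simp only [Subgroup.coe_subtype] at hl
    rw [hl]
    norm_num
  set π := principalIrr G with hπ
  have hAπ : A π = 1 := val_principal hA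
  have hvπ : v π = 1 := val_principal hv
  have hDπ : D π = 1 := by simp [hD, hπ, principalIrr, charDegree]
  set T := (Finset.univ.erase π).filter fun η => A η ≠ 0 with hT
  have hsplit : ∀ F : IrrCharacter G → ℤ, (∀ η, A η = 0 → F η = 0) → ∑ η, F η = F π + ∑ η ∈ T, F η := by
    intro F hF
    rw [← Finset.add_sum_erase _ _ (Finset.mem_univ π), hT, Finset.sum_filter_of_ne]
    exact fun η _ hne h0 => hne (hF η h0)
  have hA2 : ∑ η ∈ T, A η * A η = 10 := by
    have h := sum_sq_eq (a : G) hA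
    rw [hCa, hC, hsplit _ (fun η e => by rw [e, mul_zero]), hAπ] at h
    push_cast at h
    linarith
  have hone : ∀ η : IrrCharacter G, (η : G → ℂ) 1 = ((D η : ℤ) : ℂ) := fun η => by
    rw [irr_one_eq_charDegree, Int.cast_natCast]
  have hne1 : ∀ {g h : G}, orderOf g ≠ orderOf h → ¬ IsConj g h := fun {g h} hne hc => by
    obtain ⟨c, rfl⟩ := isConj_iff.1 hc
    exact hne (SemiconjBy.orderOf_eq c (show SemiconjBy c g (c * g * c⁻¹) by simp [SemiconjBy]))
  have hAD : ∑ η ∈ T, A η * (D η : ℤ) = -1 := by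
    have h := sum_mul_eq_zero (hne1 (by rw [ha, orderOf_one]; norm_num)) hA hone
    rw [hsplit _ (fun η e => by rw [e, zero_mul]), hAπ, hDπ] at h
    push_cast at h
    linarith
  have hAv : ∑ η ∈ T, A η * v η = -1 := by
    have h := sum_mul_eq_zero (hne1 (by rw [ha, hz]; norm_num)) hA hv
    rw [hsplit _ (fun η e => by rw [e, zero_mul]), hAπ, hvπ] at h
    linarith
  have hDD : ∑ η ∈ T, D η * D η < 15840 := by
    have h := Chars17.natSum_sq_degrees (G := G)
    rw [hG, ← Finset.add_sum_erase _ _ (Finset.mem_univ π)] at h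
    have h2 := Finset.sum_le_sum_of_subset (f := fun η => D η ^ 2) (s := T)
      (Finset.filter_subset _ (Finset.univ.erase π))
    simp only [hD, pow_two] at h h2 ⊢
    rw [show charDegree (π : G → ℂ) = 1 from hDπ] at h
    omega
  let types : List (ℕ × ℤ) := tenTypes
  have hmem : ∀ η ∈ T, (D η, A η) ∈ types := by
    intro η hη
    obtain ⟨hη1, hη0⟩ := Finset.mem_filter.1 hη
    have hηne := Finset.ne_of_mem_erase hη1
    have hlt : D η < 126 := by
      have := Finset.single_le_sum (f := fun η => D η * D η) (fun _ _ => Nat.zero_le _) hη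
      by_contra hle
      have := Nat.mul_le_mul (not_lt.1 hle) (not_lt.1 hle)
      omega
    have hgt : 1 < D η := by
      have h1 : D η ≠ 1 := fun h => hηne (Order7920.eq_principal_of_charDegree_one hnc h)
      have : 0 < D η := (ClassCount.degree_eq η).2.2
      omega
    have hAb := Finset.single_le_sum (f := fun η => A η * A η) (fun _ _ => mul_self_nonneg _) hη
    rw [hA2] at hAb
    have hb : -3 ≤ A η ∧ A η ≤ 3 := by constructor <;> nlinarith
    obtain ⟨l, hl, hlv⟩ := hvb η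
    have := abs_nonneg (v η)
    have h := tenTypes_table (D η) hlt (hG ▸ (ClassCount.degree_eq η).2.1) hgt ⟨(A η + 3).toNat, by omega⟩
    simp only [show ((((A η + 3).toNat : ℕ) : ℤ) - 3) = A η by omega] at h
    refine h hη0 ?_ (by omega) (fun e => ?_) ?_
    · have h11 : (11 : ℤ) ∣ (D η : ℤ) - A η := hAm0 η
      exact Int.emod_eq_zero_of_dvd h11
    · have : v η = 0 := abs_nonpos_iff.1 (by omega)
      have h4 := hv4 η
      rw [this] at h4
      simp only [hD] at h4 ⊢
      omega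
    · have h5 := Sporadic.CharTools.norm_lt_degree hnc hηne (irr_one_eq_charDegree η) ha1
      rw [hA, Complex.norm_intCast] at h5
      have h6 : |A η| < (D η : ℤ) := by exact_mod_cast h5
      exact lt_of_le_of_lt (le_abs_self _) h6
  set m : ℕ × ℤ → ℕ := fun t => (T.filter fun η => (D η, A η) = t).card with hm
  have hcount : ∀ {β : Type} [CommSemiring β] (F : ℕ × ℤ → β),
      (types.map fun t => (m t : β) * F t).sum = ∑ η ∈ T, F (D η, A η) := by
    intro β _ F
    rw [← List.sum_toFinset _ (by decide +kernel : tenTypes.Nodup),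
      ← Finset.sum_fiberwise_of_maps_to (fun η hη => List.mem_toFinset.2 (hmem η hη)) (fun η => F (D η, A η))]
    refine Finset.sum_congr rfl fun t _ => ?_
    rw [Finset.sum_congr rfl (g := fun _ => F t) (fun η hη => by rw [(Finset.mem_filter.1 hη).2]),
      Finset.sum_const, nsmul_eq_mul]
  have e1 := hcount fun t : ℕ × ℤ => t.2 * t.2
  have e2 := hcount fun t : ℕ × ℤ => t.2 * (t.1 : ℤ)
  have e3 := hcount fun t : ℕ × ℤ => t.1 * t.1
  rw [hA2] at e1
  rw [hAD] at e2
  simp only [types, tenTypes, List.map_cons, List.map_nil, List.sum_cons, List.sum_nil, Nat.cast_id] at e1 e2 e3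
  obtain ⟨c0, e0, f3, g0, h0, i0, j0⟩ := ten_types (a := m (12, 1)) (b := m (20, -2)) (c := m (24, 2))
    (d := m (32, -1)) (e := m (36, 3)) (f := m (45, 1)) (g := m (80, 3)) (h := m (90, 2)) (i := m (96, -3))
    (j := m (120, -1)) (by omega) (by push_cast at e2 ⊢; omega) (by omega)
  set T45 := T.filter fun η => (D η, A η) = (45, 1) with hT45
  have hother : ∀ η ∈ T, η ∉ T45 → v η = 0 := by
    intro η hη hn
    have hne : (D η, A η) ≠ (45, 1) := fun e => hn (Finset.mem_filter.2 ⟨hη, e⟩)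
    have h0' : ∀ t, m t = 0 → (D η, A η) ≠ t := fun t ht e => by
      rw [hm, Finset.card_eq_zero] at ht
      exact Finset.notMem_empty η (ht ▸ Finset.mem_filter.2 ⟨hη, e⟩)
    obtain ⟨l, hl, hlv⟩ := hvb η
    have h4 := hv4 η
    have ht := hmem η hη
    simp only [types, tenTypes, List.mem_cons, List.not_mem_nil, or_false, h0' _ c0, h0' _ e0, hne, h0' _ g0,
      h0' _ h0, h0' _ i0, h0' _ j0, false_or, Prod.mk.injEq] at ht
    obtain ⟨h5, h6⟩ := abs_le.1 hlv
    simp only [hD] at hl ht h4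
    rcases ht with ⟨d1, d2⟩ | ⟨d1, d2⟩ | ⟨d1, d2⟩ <;> rw [d1] at hl h4 <;> rw [d2] at hl <;> omega
  obtain ⟨x, y, w, hxy, hxw, hyw, h3⟩ := Finset.card_eq_three.1 (show T45.card = 3 from f3)
  have hzero : ∀ F : IrrCharacter G → ℤ, (∀ η, v η = 0 → F η = 0) → ∑ η ∈ T, F η = F x + F y + F w := by
    intro F hF
    rw [← Finset.sum_subset (Finset.filter_subset _ T) fun η hη hn => hF η (hother η hη hn)]
    show ∑ η ∈ T45, F η = _
    rw [h3, Finset.sum_insert (by simp [hxy, hxw]), Finset.sum_pair hyw, ← add_assoc]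
  have h45 : ∀ η, η ∈ T45 → D η = 45 ∧ A η = 1 ∧ (v η = 1 ∨ v η = -3 ∨ v η = 5) := by
    intro η hη
    obtain ⟨-, e⟩ := Finset.mem_filter.1 hη
    simp only [Prod.mk.injEq] at e
    obtain ⟨l, hl, hlv⟩ := hvb η
    obtain ⟨h5, h6⟩ := abs_le.1 hlv
    have h4 := hv4 η
    simp only [hD] at hl e h4 ⊢
    rw [e.1] at hl h4
    rw [e.2] at hl
    exact ⟨e.1, e.2, by omega⟩
  obtain ⟨dx, ax, vx⟩ := h45 x (by rw [h3]; simp)
  obtain ⟨dy, ay, vy⟩ := h45 y (by rw [h3]; simp)
  obtain ⟨dw, aw, vw⟩ := h45 w (by rw [h3]; simp)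
  rw [hzero _ (fun η e => by rw [e, mul_zero]), ax, ay, aw] at hAv
  -- pairs of involutions inverting `a`
  have hpairs : (pairs z z {(a : G)}).card = 11 := by
    have hzz : z * z = 1 := by rw [← sq, ← hz, pow_orderOf_eq_one]
    have hmemp : ∀ p : G × G, p ∈ pairs z z {(a : G)} ↔ IsConj z p.1 ∧ IsConj z p.2 ∧ p.1 * p.2 = a := fun p => by
      simp [pairs, mem_cls, and_assoc]
    have hcl : ∀ u : (P : Subgroup G), IsConj z (z * u) := fun u => by
      obtain ⟨c, hc⟩ := hconj u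
      exact isConj_iff.2 ⟨c, hc⟩
    have hsq : ∀ x, IsConj z x → x * x = 1 := by
      intro x hx
      obtain ⟨c, rfl⟩ := isConj_iff.1 hx
      calc c * z * c⁻¹ * (c * z * c⁻¹) = c * (z * z) * c⁻¹ := by group
        _ = 1 := by rw [hzz]; group
    refine Eq.trans ?_ hP
    rw [Nat.card_eq_fintype_card, ← Finset.card_univ]
    refine (Finset.card_bij (fun (u : (P : Subgroup G)) _ => (z * (u : G), z * ((u * a : (P : Subgroup G)) : G)))
      (fun u _ => (hmemp _).2 ⟨hcl u, hcl (u * a), ?_⟩) (fun u _ u' _ h => ?_) fun p hp => ?_).symm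
    · rw [Subgroup.coe_mul, ← mul_assoc z (u : G) (a : G), ← mul_assoc, hsq _ (hcl u), one_mul]
    · exact Subtype.ext (mul_left_cancel (congrArg Prod.fst h))
    · obtain ⟨h1, h2, h12⟩ := (hmemp p).1 hp
      have hi1 : p.1⁻¹ = p.1 := inv_eq_of_mul_eq_one_right (hsq _ h1)
      have hi2 : p.2⁻¹ = p.2 := inv_eq_of_mul_eq_one_right (hsq _ h2)
      have hinva : p.1 * (a : G) * p.1⁻¹ = (a : G)⁻¹ := by
        rw [← h12, mul_inv_rev, hi1, hi2, ← mul_assoc, hsq _ h1, one_mul]
      have hzi : z⁻¹ = z := inv_eq_of_mul_eq_one_right hzz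
      have hmem : z * p.1 ∈ Subgroup.centralizer ({(a : G)} : Set G) := by
        rw [Subgroup.mem_centralizer_singleton_iff]
        have h' : z * (a : G)⁻¹ * z⁻¹ = a := by
          have := hinv a⁻¹
          simpa using this
        calc z * p.1 * a = z * (p.1 * a * p.1⁻¹) * p.1 := by group
          _ = z * (a : G)⁻¹ * z⁻¹ * (z * p.1) := by rw [hinva]; group
          _ = a * (z * p.1) := by rw [h']
      have hCPle : AbelianFrob.CP P = (P : Subgroup G) :=
        (Subgroup.eq_of_le_of_card_ge (AbelianFrob.le_CP P (Order7920.isMulCommutative_sylow P hP))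
          (by rw [hC, hP])).symm
      rw [hCa, hCPle] at hmem
      refine ⟨⟨z * p.1, hmem⟩, Finset.mem_univ _, Prod.ext ?_ ?_⟩
      · show z * (z * p.1) = p.1
        rw [← mul_assoc, hzz, one_mul]
      · show z * (z * p.1 * (a : G)) = p.2
        rw [← h12, mul_assoc z p.1, ← mul_assoc z z, hzz, one_mul, ← mul_assoc, hsq _ h1, one_mul]
  set C := Nat.card (Subgroup.centralizer ({z} : Set G)) with hCz
  have hcount2 : (11 : ℤ) * C * C = 15840 + 352 * (v x * v x + v y * v y + v w * v w) := by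
    have h := card_pairs_mul_centralizers z z ({(a : G)} : Finset G)
    have hainv : ∀ η : IrrCharacter G, (η : G → ℂ) (a : G)⁻¹ = (A η : ℂ) := fun η => by
      rw [irr_apply_inv, hA, map_intCast]
    simp only [Finset.sum_singleton, hv, hainv] at h
    rw [hpairs] at h
    have h' : (11 : ℤ) * C * C = ∑ η : IrrCharacter G, (cofDegree η : ℤ) * (v η * v η * A η) := by
      exact_mod_cast h
    rw [h', hsplit _ (fun η e => by rw [e, mul_zero, mul_zero]), hAπ, hvπ,
      hzero _ (fun η e => by rw [e, mul_zero, zero_mul, mul_zero]), ax, ay, aw]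
    have hcof : ∀ η : IrrCharacter G, (cofDegree η : ℤ) = (15840 / D η : ℕ) := fun η => by
      rw [cofDegree, hG]
    rw [hcof, hcof, hcof, hcof, hDπ, dx, dy, dw]
    norm_num
    ring
  have hS : v x * v x + v y * v y + v w * v w = 11 ∨ v x * v x + v y * v y + v w * v w = 43 := by
    rcases vx with e1 | e1 | e1 <;> rcases vy with e2 | e2 | e2 <;> rcases vw with e3 | e3 | e3 <;>
      rw [e1, e2, e3] at hAv ⊢ <;> omega
  have hlt : C < 60 := by
    by_contra hle
    have : (60 : ℤ) * 60 ≤ (C : ℤ) * C := by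
      have : (60 : ℤ) ≤ (C : ℤ) := by exact_mod_cast not_lt.1 hle
      nlinarith
    rcases hS with h | h <;> rw [h] at hcount2 <;> nlinarith
  rcases hS with h | h <;> rw [h] at hcount2 <;> interval_cases C <;> norm_num at hcount2

end CfsgLib.MathieuTwelve
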