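import Mathlib.GroupTheory.Sylow
import Mathlib.Tactic.NormNum.Prime
import Mathlib.GroupTheory.GroupAction.Quotient
import Mathlib.GroupTheory.SpecificGroups.Alternating.Simple

/-!
An involution centraliser of order 240 with six Sylow 5-subgroups maps onto `S₅`.
-/
set_option autoImplicit false

namespace CfsgLib.MathieuTwelve

open Subgroup Equiv

theorem perm_commute_swap_eq_one {α : Type*} [DecidableEq α] [Finite α] (h3 : 3 ≤ Nat.card α)
    (k : Equiv.Perm α) (h : ∀ a c : α, swap a c * k = k * swap a c) : k = 1 := by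
  classical
  have := Fintype.ofFinite α
  refine Equiv.ext fun a => ?_
  by_contra hne
  simp only [Equiv.Perm.coe_one, id_eq] at hne
  obtain ⟨c, hc⟩ : ∃ c, c ∉ ({a, k a} : Finset α) := by
    by_contra! hall
    have hu : (Finset.univ : Finset α) ⊆ {a, k a} := fun x _ => hall x
    have h1 := Finset.card_le_card hu
    have h2 : ({a, k a} : Finset α).card ≤ 2 := Finset.card_le_two
    rw [Finset.card_univ, ← Nat.card_eq_fintype_card] at h1
    omega
  simp only [Finset.mem_insert, Finset.mem_singleton, not_or] at hc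
  have h1 := congrArg (fun s : Equiv.Perm α => s a) (h a c)
  simp only [Equiv.Perm.mul_apply, swap_apply_left] at h1
  rw [swap_apply_of_ne_of_ne hne (fun e => hc.2 e.symm)] at h1
  exact hc.1 (k.injective h1).symm

theorem normal_perm_six_eq_bot (K : Subgroup (Equiv.Perm (Fin 6))) [K.Normal]
    (hK : Nat.card K ≤ 120) : K = ⊥ := by
  have : IsSimpleGroup (alternatingGroup (Fin 6)) := alternatingGroup.isSimpleGroup (by simp)
  have hA : Nat.card (alternatingGroup (Fin 6)) = 360 := by
    have h := two_mul_nat_card_alternatingGroup (α := Fin 6)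
    rw [Nat.card_perm, Nat.card_fin, show Nat.factorial 6 = 720 from rfl] at h
    omega
  have hn : (K.subgroupOf (alternatingGroup (Fin 6))).Normal := inferInstance
  have hbot : ∀ x ∈ K, Equiv.Perm.sign x = 1 → x = 1 := by
    intro x hx hs
    rcases hn.eq_bot_or_eq_top with hb | ht
    · have hm : (⟨x, Equiv.Perm.mem_alternatingGroup.2 hs⟩ : alternatingGroup (Fin 6)) ∈
          K.subgroupOf (alternatingGroup (Fin 6)) := hx
      rw [hb, Subgroup.mem_bot] at hm
      simpa using congrArg Subtype.val hm
    · have hle : alternatingGroup (Fin 6) ≤ K := Subgroup.subgroupOf_eq_top.1 ht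
      have := Subgroup.card_le_of_le hle
      omega
  rw [eq_bot_iff]
  intro k hk
  rw [Subgroup.mem_bot]
  by_cases hs : Equiv.Perm.sign k = 1
  · exact hbot k hk hs
  refine perm_commute_swap_eq_one (by simp) k fun a c => ?_
  have hg : swap a c * k * (swap a c)⁻¹ ∈ K := (inferInstance : K.Normal).conj_mem k hk _
  have hone := hbot _ (K.mul_mem hg (K.inv_mem hk)) (by
    simp only [map_mul, map_inv]
    rw [mul_comm (Equiv.Perm.sign (swap a c)), mul_inv_cancel_right, mul_inv_cancel])
  rw [mul_inv_eq_one, mul_inv_eq_iff_eq_mul] at hone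
  exact hone

theorem exists_equiv_perm_five (I : Subgroup (Equiv.Perm (Fin 6))) (hI : Nat.card I = 120) :
    ∃ f : I →* Equiv.Perm (Fin 5), Function.Bijective f := by
  have hidx : I.index = 6 := by
    have h := I.card_mul_index
    rw [hI, Nat.card_perm, Nat.card_fin, show Nat.factorial 6 = 720 from rfl] at h
    omega
  let ψ := MulAction.toPermHom (Equiv.Perm (Fin 6)) (Equiv.Perm (Fin 6) ⧸ I)
  have hψ : ψ.ker = ⊥ := by
    rw [← I.normalCore_eq_ker]
    exact normal_perm_six_eq_bot _ ((Subgroup.card_le_of_le I.normalCore_le).trans hI.le)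
  let pt : Equiv.Perm (Fin 6) ⧸ I := (1 : Equiv.Perm (Fin 6))
  have hfix : ∀ i : I, ψ i pt = pt := by
    intro i
    show ((i : Equiv.Perm (Fin 6)) • pt) = pt
    rw [show pt = ((1 : Equiv.Perm (Fin 6)) : Equiv.Perm (Fin 6) ⧸ I) from rfl,
      MulAction.Quotient.smul_coe, QuotientGroup.eq]
    simp
  have hinv : ∀ i : I, ∀ x, ψ i x ≠ pt ↔ x ≠ pt := fun i x => by
    rw [ne_eq, ne_eq, not_iff_not]
    exact ⟨fun h => (ψ i).injective (h.trans (hfix i).symm), fun h => h ▸ hfix i⟩
  let f0 : I →* Equiv.Perm {x : Equiv.Perm (Fin 6) ⧸ I // x ≠ pt} :=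
    { toFun := fun i => (ψ i).subtypePerm (hinv i)
      map_one' := by ext x; simp
      map_mul' := fun i j => by ext x; simp only [Subgroup.coe_mul, map_mul]; rfl }
  have hinj : Function.Injective f0 := by
    intro i j h
    apply Subtype.ext
    apply (MonoidHom.ker_eq_bot_iff ψ).1 hψ
    refine Equiv.ext fun x => ?_
    by_cases hx : x = pt
    · rw [hx, hfix i, hfix j]
    · exact congrArg (fun s : Equiv.Perm {x : Equiv.Perm (Fin 6) ⧸ I // x ≠ pt} => (s ⟨x, hx⟩).1) h
  classical
  have := Fintype.ofFinite (Equiv.Perm (Fin 6) ⧸ I)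
  have hc : Fintype.card {x : Equiv.Perm (Fin 6) ⧸ I // x ≠ pt} = 5 := by
    rw [Fintype.card_subtype_compl, Fintype.card_subtype_eq, ← Nat.card_eq_fintype_card,
      show Nat.card (Equiv.Perm (Fin 6) ⧸ I) = 6 from hidx]
  let e := (Fintype.equivFinOfCardEq hc).permCongrHom
  refine ⟨e.toMonoidHom.comp f0, ?_⟩
  refine (Function.Injective.comp e.injective hinj).bijective_of_nat_card_le ?_
  rw [hI, Nat.card_perm, Nat.card_fin]
  rfl

/-- Step 1: the centraliser of the involution maps onto `S₅`. -/
theorem exists_hom_five {G : Type*} [Group G] [Finite G] {z q : G} (hz : orderOf z = 2)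
    (hq : orderOf q = 5) (hzq : Commute z q)
    (hCz : Nat.card (centralizer ({z} : Set G)) = 240) (hCq : Nat.card (centralizer ({q} : Set G)) = 10)
    (hNq : Nat.card (normalizer (zpowers q : Set G)) = 40) :
    ∃ p : centralizer ({z} : Set G) →* Equiv.Perm (Fin 5), Function.Surjective p ∧
      ∀ h, p h = 1 ↔ (h : G) = 1 ∨ (h : G) = z := by
  classical
  have hF : Fact (Nat.Prime 5) := ⟨by norm_num⟩
  have hpair : z * q ∈ centralizer ({q} : Set G) :=
    mem_centralizer_singleton_iff.2 ((hzq.mul_left (Commute.refl q)).eq)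
  have hozq : orderOf (z * q) = 10 := by
    rw [hzq.orderOf_mul_eq_mul_orderOf_of_coprime (by rw [hz, hq]; norm_num), hz, hq]
  have hCq' : zpowers (z * q) = centralizer ({q} : Set G) :=
    eq_of_le_of_card_ge (zpowers_le.2 hpair) (by rw [hCq, Nat.card_zpowers, hozq])
  have hrep : ∀ x ∈ centralizer ({q} : Set G), ∃ n : ℕ, x = z ^ n * q ^ n := by
    intro x hx
    rw [← hCq', mem_zpowers_iff_mem_range_orderOf, Finset.mem_image] at hx
    obtain ⟨n, -, rfl⟩ := hx
    exact ⟨n, hzq.mul_pow n⟩
  have hzn : ∀ n : ℕ, z ^ n = 1 ∨ z ^ n = z := by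
    intro n
    rw [← pow_mod_orderOf, hz]
    rcases Nat.mod_two_eq_zero_or_one n with h | h <;> simp [h]
  -- the normaliser of `⟨q⟩` fixes `z`
  have hNle : ∀ g ∈ normalizer (zpowers q : Set G), g ∈ centralizer ({z} : Set G) := by
    intro g hg
    have hgq : g⁻¹ * q * g ∈ zpowers q := by
      simpa using (mem_normalizer_iff''.1 hg q).1 (mem_zpowers q)
    obtain ⟨j, hj⟩ := mem_zpowers_iff.1 hgq
    have hcomm : Commute (g * z * g⁻¹) q := by
      have h1 : Commute z (g⁻¹ * q * g) := hj ▸ hzq.zpow_right j
      have h2 := h1.map (MulAut.conj g).toMonoidHom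
      simpa [mul_assoc] using h2
    obtain ⟨n, hn⟩ := hrep _ (mem_centralizer_singleton_iff.2 hcomm.eq)
    have ho : (g * z * g⁻¹) ^ 2 = 1 := by
      rw [conj_pow, (orderOf_eq_iff (by norm_num)).1 hz |>.1]
      simp
    rw [hn, ← hzq.pow_pow n n |>.mul_pow 2 |>.symm.trans rfl, ← pow_mul, ← pow_mul] at ho
    have hz2 : z ^ (n * 2) = 1 := by
      rw [mul_comm, pow_mul, (orderOf_eq_iff (by norm_num)).1 hz |>.1, one_pow]
    rw [hz2, one_mul] at ho
    have h5 : 5 ∣ n := by
      have := orderOf_dvd_of_pow_eq_one ho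
      rw [hq] at this
      exact (Nat.Coprime.dvd_mul_right (by norm_num)).1 this
    have hqn : q ^ n = 1 := by
      obtain ⟨m, rfl⟩ := h5
      rw [pow_mul, ← hq, pow_orderOf_eq_one, one_pow]
    rw [hqn, mul_one] at hn
    rcases hzn n with h | h
    · rw [h, mul_inv_eq_one, mul_eq_left] at hn
      rw [hn, orderOf_one] at hz
      omega
    · rw [h, mul_inv_eq_iff_eq_mul] at hn
      exact mem_centralizer_singleton_iff.2 hn
  set C := centralizer ({z} : Set G) with hC
  let qc : C := ⟨q, mem_centralizer_singleton_iff.2 hzq.symm.eq⟩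
  let zc : C := ⟨z, mem_centralizer_singleton_iff.2 rfl⟩
  have hzc : ∀ h : C, Commute zc h := fun h => Subtype.ext (mem_centralizer_singleton_iff.1 h.2).symm
  have hqo : orderOf qc = 5 := by rw [← Subgroup.orderOf_coe]; exact hq
  have hcardQ : Nat.card (zpowers qc) = 5 ^ (Nat.card C).factorization 5 := by
    rw [Nat.card_zpowers, hqo, hCz]
    have : (240 : ℕ).factorization 5 = 1 := by
      rw [show (240 : ℕ) = 5 * 48 from rfl, Nat.factorization_mul (by norm_num) (by norm_num),
        Finsupp.add_apply, Nat.Prime.factorization_self (by norm_num),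
        Nat.factorization_eq_zero_of_not_dvd (by norm_num)]
    rw [this, pow_one]
  let P : Sylow 5 C := Sylow.ofCard (zpowers qc) hcardQ
  have hP : (P : Subgroup C) = zpowers qc := Sylow.coe_ofCard _ _
  have hnorm : Nat.card (normalizer ((P : Subgroup C) : Set C)) = 40 := by
    rw [hP, ← hNq]
    have hiff : ∀ x : C, x ∈ normalizer (zpowers qc : Set C) ↔ (x : G) ∈ normalizer (zpowers q : Set G) := by
      intro x
      have hz' : ∀ y : C, y ∈ zpowers qc ↔ (y : G) ∈ zpowers q := fun y => by
        simp only [mem_zpowers_iff]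
        exact exists_congr fun j => ⟨fun h => by rw [← h]; simp [qc], fun h => Subtype.ext (by simpa [qc] using h)⟩
      rw [Subgroup.mem_normalizer_iff'', Subgroup.mem_normalizer_iff'']
      constructor
      · intro h y
        constructor
        · intro hy
          have hyC : y ∈ C := (zpowers_le.2 qc.2) hy
          have := (h ⟨y, hyC⟩).1 ((hz' _).2 hy)
          simpa using (hz' _).1 this
        · intro hy
          have hyC : y ∈ C := by
            have h1 := C.mul_mem (C.mul_mem x.2 ((zpowers_le.2 qc.2) hy)) (C.inv_mem x.2)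
            simpa [mul_assoc] using h1
          exact (hz' ⟨y, hyC⟩).1 ((h ⟨y, hyC⟩).2 ((hz' _).2 (by simpa using hy)))
      · intro h y
        rw [hz', hz']
        simpa using h y
    refine Nat.card_congr
      { toFun := fun x => ⟨x.1.1, (hiff x.1).1 x.2⟩
        invFun := fun x => ⟨⟨x.1, hNle x.1 x.2⟩, (hiff _).2 x.2⟩
        left_inv := fun x => rfl
        right_inv := fun x => rfl }
  have hsix : Nat.card (Sylow 5 C) = 6 := by
    rw [P.card_eq_index_normalizer]
    show (normalizer ((P : Subgroup C) : Set C)).index = 6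
    have h := (normalizer ((P : Subgroup C) : Set C)).card_mul_index
    rw [hnorm, hCz] at h
    omega
  let φ := MulAction.toPermHom C (Sylow 5 C)
  have hker : ∀ k : C, φ k = 1 ↔ k = 1 ∨ k = zc := by
    intro k
    constructor
    · intro hk
      have hall : ∀ h : C, φ h = 1 → h ∈ normalizer ((P : Subgroup C) : Set C) := fun h hh =>
        Sylow.smul_eq_iff_mem_normalizer.1 (congrArg (fun s : Equiv.Perm (Sylow 5 C) => s P) hh)
      have hnq : φ qc ≠ 1 := by
        intro hq1
        have htop : normalizer ((P : Subgroup C) : Set C) = ⊤ := by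
          rw [eq_top_iff]
          intro x _
          have hx : φ (x * qc * x⁻¹) = 1 := by rw [map_mul, map_mul, hq1]; simp
          have hcon : ∀ y : C, orderOf y = 5 → y ∈ normalizer ((P : Subgroup C) : Set C) →
              y ∈ (P : Subgroup C) := by
            intro y hy hyn
            have hR : IsPGroup 5 (zpowers y) := IsPGroup.of_card (n := 1) (by rw [Nat.card_zpowers, hy, pow_one])
            have := hR.inf_normalizer_sylow P
            exact (this.le ⟨mem_zpowers y, hyn⟩).2
          have hxP : x * qc * x⁻¹ ∈ zpowers qc := hP ▸ hcon _ (by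
            rw [← MulAut.conj_apply, MulEquiv.orderOf_eq]; exact hqo) (hall _ hx)
          have heq : Subgroup.map (MulAut.conj x).toMonoidHom (zpowers qc) = zpowers qc := by
            refine eq_of_le_of_card_ge ?_ ?_
            · rw [MonoidHom.map_zpowers]
              exact zpowers_le.2 hxP
            · rw [card_map_of_injective (MulEquiv.injective _)]
          rw [hP, Subgroup.mem_normalizer_iff]
          intro y
          constructor
          · intro hy
            exact heq.le ⟨y, hy, rfl⟩
          · intro hy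
            obtain ⟨w, hw, hwy⟩ := heq.ge hy
            rwa [(MulAut.conj x).injective hwy] at hw
        rw [htop, Subgroup.card_top, hCz] at hnorm
        omega
      have hone : ∀ y ∈ zpowers qc, φ y = 1 → y = 1 := by
        intro y hy hy1
        by_contra hne
        have : zpowers y = zpowers qc := by
          refine eq_of_le_of_card_ge (zpowers_le.2 hy) ?_
          have hd : orderOf y ∣ 5 := by
            have h' := Subgroup.orderOf_dvd_natCard _ hy
            rwa [Nat.card_zpowers, hqo] at h'
          rcases (Nat.dvd_prime (by norm_num)).1 hd with h | h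
          · exact absurd (orderOf_eq_one_iff.1 h) hne
          · rw [Nat.card_zpowers, Nat.card_zpowers, h, hqo]
        exact hnq ((zpowers_le.2 (MonoidHom.mem_ker.2 hy1) : zpowers y ≤ φ.ker) (this ▸ mem_zpowers qc))
      have hkq : k * qc * k⁻¹ * qc⁻¹ = 1 := by
        refine hone _ ?_ (by simp [hk])
        have h1 := hall k hk
        rw [hP, Subgroup.mem_normalizer_iff] at h1
        exact mul_mem ((h1 qc).1 (mem_zpowers qc)) (inv_mem (mem_zpowers qc))
      rw [mul_inv_eq_one, mul_inv_eq_iff_eq_mul] at hkq
      obtain ⟨n, hn⟩ := hrep (k : G) (mem_centralizer_singleton_iff.2 (congrArg Subtype.val hkq))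
      have hk' : k = zc ^ n * qc ^ n := Subtype.ext (by simpa [zc, qc] using hn)
      have hzφ : φ zc = 1 := by
        refine Equiv.ext fun R => ?_
        show zc • R = R
        refine Sylow.smul_eq_iff_mem_normalizer.2 (Subgroup.mem_normalizer_iff.2 fun y => ?_)
        rw [(hzc y).eq, mul_inv_cancel_right]
      have hqn : qc ^ n = 1 := hone _ (pow_mem (mem_zpowers qc) n) (by
        rw [hk', map_mul, map_pow, hzφ, one_pow, one_mul] at hk
        exact hk)
      rw [hqn, mul_one] at hk'
      rcases hzn n with h | h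
      · exact Or.inl (hk'.trans (Subtype.ext (by simpa [zc] using h)))
      · exact Or.inr (hk'.trans (Subtype.ext (by simpa [zc] using h)))
    · rintro (rfl | rfl)
      · exact map_one φ
      · refine Equiv.ext fun R => ?_
        show zc • R = R
        refine Sylow.smul_eq_iff_mem_normalizer.2 (Subgroup.mem_normalizer_iff.2 fun y => ?_)
        rw [(hzc y).eq, mul_inv_cancel_right]
  have := Fintype.ofFinite (Sylow 5 C)
  have hc6 : Fintype.card (Sylow 5 C) = 6 := Nat.card_eq_fintype_card.symm.trans hsix
  let e : Equiv.Perm (Sylow 5 C) ≃* Equiv.Perm (Fin 6) := (Fintype.equivFinOfCardEq hc6).permCongrHom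
  let φ' : C →* Equiv.Perm (Fin 6) := e.toMonoidHom.comp φ
  have hker' : ∀ k, φ' k = 1 ↔ k = 1 ∨ k = zc := fun k => by
    rw [← hker k]; exact map_eq_one_iff e e.injective
  have hzne : zc ≠ 1 := fun h => by
    have h' : z = 1 := congrArg Subtype.val h
    rw [h', orderOf_one] at hz
    omega
  have hkc : Nat.card φ'.ker = 2 := by
    have : (φ'.ker : Set C) = {1, zc} := Set.ext fun k => by
      simp [MonoidHom.mem_ker, hker']
    have h2 : (φ'.ker : Set C).ncard = 2 := by rw [this, Set.ncard_pair hzne.symm]
    rwa [← Nat.card_coe_set_eq] at h2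
  have hI : Nat.card φ'.range = 120 := by
    have h := φ'.ker.card_mul_index
    rw [Subgroup.index_ker, hkc, hCz] at h
    omega
  obtain ⟨f, hf⟩ := exists_equiv_perm_five _ hI
  refine ⟨f.comp φ'.rangeRestrict, hf.2.comp φ'.rangeRestrict_surjective, fun h => ?_⟩
  rw [MonoidHom.comp_apply, map_eq_one_iff f hf.1]
  constructor
  · intro hh
    rcases (hker' h).1 (congrArg Subtype.val hh) with h1 | h1
    · exact Or.inl (congrArg Subtype.val h1)
    · exact Or.inr (congrArg Subtype.val h1)
  · intro hh
    exact Subtype.ext ((hker' h).2 (hh.imp Subtype.ext Subtype.ext))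

end CfsgLib.MathieuTwelve
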